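/-
A coded copy of a Sylow 2-subgroup of the alternating group of degree 8.

`(a, c)` with `a` four bits and `c` in a four-group permuting the bit positions regularly.
* `Data G S` : a coded copy of `S`, from `exists_data`.
-/
import Cfsg.Agent.EqLemmas

set_option autoImplicit false

namespace Cfsg.Agent.AltEightType

open Equiv

/-- The first component. -/
def pa (x : Fin 64) : ℕ := x.val % 16

/-- The second component. -/
def pc (x : Fin 64) : ℕ := x.val / 16

/-- Translation of the bit positions by `c`. -/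
def shift (c a : ℕ) : ℕ :=
  let b := if c % 2 = 0 then a else ((a &&& 5) <<< 1) ||| ((a &&& 10) >>> 1)
  if c / 2 = 0 then b else ((b &&& 3) <<< 2) ||| ((b &&& 12) >>> 2)

/-- The coded product. -/
def mm (x y : Fin 64) : Fin 64 :=
  ⟨((pa x ^^^ shift (pc x) (pa y)) + 16 * (pc x ^^^ pc y)) % 64, Nat.mod_lt _ (by decide)⟩

/-- The coded inverse. -/
def mi (x : Fin 64) : Fin 64 := ⟨(shift (pc x) (pa x) + 16 * pc x) % 64, Nat.mod_lt _ (by decide)⟩

/-- The coded conjugate `h x h⁻¹`. -/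
def mc (h x : Fin 64) : Fin 64 := mm (mm h x) (mi h)

/-- Coded commutation. -/
abbrev cm (x y : Fin 64) : Prop := mm x y = mm y x

/-- The central involution. -/
def zc : Fin 64 := 15

/-- The elementary abelian subgroup of order 16. -/
abbrev inA (x : Fin 64) : Prop := x.val < 16

/-- The extraspecial subgroup of order 32. -/
abbrev inQ (x : Fin 64) : Prop := pa x ∈ [0, 3, 5, 6, 9, 10, 12, 15]

/-- The intersection of the two, the derived subgroup. -/
abbrev inI (x : Fin 64) : Prop := x.val ∈ [0, 3, 5, 6, 9, 10, 12, 15]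

/-- The three pairs of non-central involutions with centraliser of order 32. -/
def piL : Fin 3 → List (Fin 64) := ![[3, 12], [5, 10], [9, 6]]

/-- The first class in `A` outside the derived subgroup. -/
def alL : List (Fin 64) := [1, 2, 4, 8]

/-- The second class in `A` outside the derived subgroup. -/
def beL : List (Fin 64) := [7, 11, 13, 14]

/-- The three classes outside `A`. -/
def qL : Fin 3 → List (Fin 64) := ![[16, 19, 28, 31], [32, 37, 42, 47], [48, 57, 54, 63]]

theorem mm_zero : ∀ x, mm 0 x = x ∧ mm x 0 = x := by decide +kernel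

theorem mm_mi : ∀ x, mm x (mi x) = 0 := by decide +kernel

/-- The images of the bit positions and of the translations. -/
def permGen : Fin 6 → Fin 8 → Fin 8 :=
  ![![2, 3, 0, 1, 4, 5, 6, 7], ![3, 2, 1, 0, 4, 5, 6, 7], ![0, 1, 2, 3, 6, 7, 4, 5],
    ![0, 1, 2, 3, 7, 6, 5, 4], ![1, 0, 2, 3, 5, 4, 6, 7], ![4, 5, 6, 7, 0, 1, 2, 3]]

/-- The coded permutation of eight points. -/
def pm (x : Fin 64) (i : Fin 8) : Fin 8 :=
  let f (k : Fin 6) (i : Fin 8) : Fin 8 := if x.val.testBit k.val then permGen k i else i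
  f 0 (f 1 (f 2 (f 3 (f 4 (f 5 i)))))

theorem pm_mul : ∀ x y : Fin 64, ∀ i, pm (mm x y) i = pm x (pm y i) := by decide +kernel

theorem pm_zero : ∀ i, pm 0 i = i := by decide +kernel

theorem pm_inj : ∀ x : Fin 64, (∀ i, pm x i = i) → x = 0 := by decide +kernel

/-- The coded permutation as a permutation. -/
def toPerm (x : Fin 64) : Perm (Fin 8) :=
  ⟨pm x, pm (mi x), fun i => by
    rw [← pm_mul, show mm (mi x) x = 0 from (by decide +kernel : ∀ x, mm (mi x) x = 0) x, pm_zero],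
   fun i => by rw [← pm_mul, mm_mi, pm_zero]⟩

theorem toPerm_sign : ∀ x, Perm.sign (toPerm x) = 1 := by decide +kernel

/-- The coded element of the alternating group. -/
def toAlt (x : Fin 64) : alternatingGroup (Fin 8) :=
  ⟨toPerm x, Perm.mem_alternatingGroup.2 (toPerm_sign x)⟩

theorem toAlt_mul (x y : Fin 64) : toAlt (mm x y) = toAlt x * toAlt y :=
  Subtype.ext (Equiv.ext (pm_mul x y))

theorem toAlt_injective : Function.Injective toAlt := fun x y h => by
  have h1 : mm x (mi y) = 0 := pm_inj _ fun i => by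
    have he : toPerm x = toPerm y := congrArg Subtype.val h
    have hf : pm x = pm y := congrArg (fun e : Perm (Fin 8) => (e : Fin 8 → Fin 8)) he
    rw [pm_mul, hf, ← pm_mul, mm_mi, pm_zero]
  exact (by decide +kernel : ∀ x y, mm x (mi y) = 0 → x = y) x y h1

/-- A coded copy of the subgroup `S`. -/
structure Data {G : Type*} [Group G] (S : Subgroup G) where
  φ : Fin 64 → G
  map_mul : ∀ x y, φ (mm x y) = φ x * φ y
  inj : Function.Injective φ
  range : ∀ g, g ∈ S ↔ ∃ x, φ x = g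

namespace Data

variable {G : Type*} [Group G] {S : Subgroup G} (D : Data S)

theorem map_zero : D.φ 0 = 1 :=
  mul_eq_left.1 ((D.map_mul 0 0).symm.trans (congrArg D.φ (mm_zero 0).1))

theorem map_inv (x : Fin 64) : D.φ (mi x) = (D.φ x)⁻¹ :=
  eq_inv_of_mul_eq_one_right (by rw [← D.map_mul, mm_mi, D.map_zero])

theorem mem (x : Fin 64) : D.φ x ∈ S := (D.range _).2 ⟨x, rfl⟩

theorem exists_code {g : G} (h : g ∈ S) : ∃ x, D.φ x = g := (D.range g).1 h

theorem map_eq_one {x : Fin 64} : D.φ x = 1 ↔ x = 0 := by rw [← D.map_zero, D.inj.eq_iff]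

theorem commute_iff {x y : Fin 64} : Commute (D.φ x) (D.φ y) ↔ cm x y := by
  rw [commute_iff_eq, ← D.map_mul, ← D.map_mul, D.inj.eq_iff]

theorem map_conj (h x : Fin 64) : D.φ (mc h x) = D.φ h * D.φ x * (D.φ h)⁻¹ := by
  rw [mc, D.map_mul, D.map_mul, D.map_inv]

theorem isConj_mc (h x : Fin 64) : IsConj (D.φ x) (D.φ (mc h x)) :=
  isConj_iff.2 ⟨D.φ h, (D.map_conj h x).symm⟩

theorem sq_iff {x : Fin 64} : D.φ x * D.φ x = 1 ↔ mm x x = 0 := by rw [← D.map_mul, D.map_eq_one]

theorem orderOf_eq_two {x : Fin 64} (h : mm x x = 0) (h0 : x ≠ 0) : orderOf (D.φ x) = 2 :=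
  orderOf_eq_prime (by rw [pow_two, D.sq_iff]; exact h) (by rwa [Ne, D.map_eq_one])

/-- The subgroup coded by a closed predicate. -/
def sub (p : Fin 64 → Prop) (h : p 0 ∧ ∀ x, p x → p (mi x) ∧ ∀ y, p y → p (mm x y)) : Subgroup G where
  carrier := {g | ∃ x, p x ∧ D.φ x = g}
  one_mem' := ⟨0, h.1, D.map_zero⟩
  mul_mem' := fun ⟨x, hx, ex⟩ ⟨y, hy, ey⟩ => ⟨mm x y, (h.2 x hx).2 y hy, by rw [D.map_mul, ex, ey]⟩
  inv_mem' := fun ⟨x, hx, ex⟩ => ⟨mi x, (h.2 x hx).1, by rw [D.map_inv, ex]⟩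

theorem mem_sub {p : Fin 64 → Prop} {h : p 0 ∧ ∀ x, p x → p (mi x) ∧ ∀ y, p y → p (mm x y)}
    {x : Fin 64} : D.φ x ∈ D.sub p h ↔ p x :=
  ⟨fun ⟨_, hy, e⟩ => D.inj e ▸ hy, fun h => ⟨x, h, rfl⟩⟩

theorem sub_le {p : Fin 64 → Prop} {h : p 0 ∧ ∀ x, p x → p (mi x) ∧ ∀ y, p y → p (mm x y)} :
    D.sub p h ≤ S := fun _ ⟨_, _, e⟩ => e ▸ D.mem _

theorem card_sub (p : Fin 64 → Prop) [DecidablePred p]
    (h : p 0 ∧ ∀ x, p x → p (mi x) ∧ ∀ y, p y → p (mm x y)) :
    Nat.card (D.sub p h) = (Finset.univ.filter p).card := by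
  have e : (D.sub p h : Set G) = D.φ '' {x | p x} := rfl
  rw [← SetLike.coe_sort_coe, e, Nat.card_image_of_injective D.inj, Nat.card_eq_fintype_card,
    Fintype.card_subtype]
  simp

theorem card_eq (D : Data S) : Nat.card S = 64 := by
  have e : (S : Set G) = Set.range D.φ := Set.ext fun g => D.range g
  rw [← SetLike.coe_sort_coe, e, Nat.card_range_of_injective D.inj, Nat.card_eq_fintype_card,
    Fintype.card_fin]

/-- The central involution. -/
def z : G := D.φ zc

theorem inA_closed : inA 0 ∧ ∀ x, inA x → inA (mi x) ∧ ∀ y, inA y → inA (mm x y) := by decide +kernel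

theorem inQ_closed : inQ 0 ∧ ∀ x, inQ x → inQ (mi x) ∧ ∀ y, inQ y → inQ (mm x y) := by decide +kernel

theorem inI_closed : inI 0 ∧ ∀ x, inI x → inI (mi x) ∧ ∀ y, inI y → inI (mm x y) := by decide +kernel

/-- The elementary abelian subgroup of order 16. -/
def A : Subgroup G := D.sub inA inA_closed

/-- The extraspecial subgroup of order 32. -/
def Q : Subgroup G := D.sub inQ inQ_closed

/-- Their intersection. -/
def I : Subgroup G := D.sub inI inI_closed

theorem card_A : Nat.card D.A = 16 := (D.card_sub inA inA_closed).trans (by decide +kernel)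

theorem card_Q : Nat.card D.Q = 32 := (D.card_sub inQ inQ_closed).trans (by decide +kernel)

theorem card_I : Nat.card D.I = 8 := (D.card_sub inI inI_closed).trans (by decide +kernel)

theorem sq_A {a : G} (ha : a ∈ D.A) : a * a = 1 := by
  obtain ⟨x, hx, rfl⟩ := ha
  exact D.sq_iff.2 ((by decide +kernel : ∀ x, inA x → mm x x = 0) x hx)

theorem comm_A {a b : G} (ha : a ∈ D.A) (hb : b ∈ D.A) : Commute a b := by
  obtain ⟨x, hx, rfl⟩ := ha
  obtain ⟨y, hy, rfl⟩ := hb
  exact D.commute_iff.2 ((by decide +kernel : ∀ x, inA x → ∀ y, inA y → cm x y) x hx y hy)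

theorem commute_z {g : G} (hg : g ∈ S) : Commute g D.z := by
  obtain ⟨x, rfl⟩ := D.exists_code hg
  exact D.commute_iff.2 ((by decide +kernel : ∀ x, cm x zc) x)

theorem eq_z_of_central {g : G} (hg : g ∈ S) (h1 : g ≠ 1) (hc : ∀ s ∈ S, Commute g s) : g = D.z := by
  obtain ⟨x, rfl⟩ := D.exists_code hg
  rw [Ne, D.map_eq_one] at h1
  rw [(by decide +kernel : ∀ x, x ≠ 0 → (∀ y, cm x y) → x = zc) x h1
    fun y => D.commute_iff.1 (hc _ (D.mem y))]
  rfl

/-- An elementary abelian subgroup of order 16 in `S` is `A`. -/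
theorem eq_A {E : Subgroup G} (hES : E ≤ S) (hsq : ∀ e ∈ E, e * e = 1)
    (hc : ∀ a ∈ E, ∀ b ∈ E, Commute a b) (hcard : Nat.card E = 16) [Finite G] : E = D.A := by
  refine Subgroup.eq_of_le_of_card_ge (fun e he => ?_) (by rw [hcard, D.card_A])
  obtain ⟨x, rfl⟩ := D.exists_code (hES he)
  refine D.mem_sub.2 ?_
  by_contra hx
  have hle : (E : Set G) ⊆ D.φ '' {y | mm y y = 0 ∧ cm x y} := fun f hf => by
    obtain ⟨y, rfl⟩ := D.exists_code (hES hf)
    exact ⟨y, ⟨D.sq_iff.1 (hsq _ hf), D.commute_iff.1 (hc _ he _ hf)⟩, rfl⟩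
  have h16 := Nat.card_mono (Set.toFinite _) hle
  rw [SetLike.coe_sort_coe, hcard, Nat.card_image_of_injective D.inj, Nat.card_eq_fintype_card,
    Fintype.card_subtype] at h16
  have := (by decide +kernel : ∀ x : Fin 64, ¬ inA x → mm x x = 0 →
    (Finset.univ.filter fun y => mm y y = 0 ∧ cm x y).card < 16) x hx (D.sq_iff.1 (hsq _ he))
  simp only [Set.mem_ofPred_eq] at h16
  omega

theorem involution_cases : ∀ x : Fin 64, mm x x = 0 → x = 0 ∨ x = zc ∨ x ∈ alL ∨ x ∈ beL ∨
    ∃ j, x ∈ piL j ∨ x ∈ qL j := by decide +kernel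

theorem list_conj : ∀ l ∈ [alL, beL, piL 0, piL 1, piL 2, qL 0, qL 1, qL 2], ∀ x ∈ l, ∀ y ∈ l,
    ∃ h, mc h x = y := by decide +kernel

theorem isConj_of_mem {l : List (Fin 64)} (hl : l ∈ [alL, beL, piL 0, piL 1, piL 2, qL 0, qL 1, qL 2])
    {x y : Fin 64} (hx : x ∈ l) (hy : y ∈ l) : IsConj (D.φ x) (D.φ y) := by
  obtain ⟨h, rfl⟩ := list_conj l hl x hx y hy
  exact D.isConj_mc h x

end Data

/-- A subgroup isomorphic to every Sylow 2-subgroup of `A₈` has a coded copy. -/
theorem exists_data {G : Type*} [Group G] {S : Subgroup G}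
    (hS : ∀ P : Sylow 2 ↥(alternatingGroup (Fin 8)),
      Nonempty (↥S ≃* ↥(P : Subgroup ↥(alternatingGroup (Fin 8))))) : Nonempty (Data S) := by
  have : Fact (Nat.Prime 2) := ⟨Nat.prime_two⟩
  have h1 : toAlt 0 = 1 := Subtype.ext (Equiv.ext pm_zero)
  let R : Subgroup ↥(alternatingGroup (Fin 8)) :=
    { carrier := Set.range toAlt
      one_mem' := ⟨0, h1⟩
      mul_mem' := fun ⟨x, hx⟩ ⟨y, hy⟩ => ⟨mm x y, by rw [toAlt_mul, hx, hy]⟩
      inv_mem' := fun ⟨x, hx⟩ =>
        ⟨mi x, eq_inv_of_mul_eq_one_right (by rw [← hx, ← toAlt_mul, mm_mi, h1])⟩ }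
  have hR : Nat.card R = 64 := by
    show Nat.card ↥(Set.range toAlt) = 64
    rw [Nat.card_range_of_injective toAlt_injective, Nat.card_eq_fintype_card, Fintype.card_fin]
  have hA : Nat.card ↥(alternatingGroup (Fin 8)) = 20160 := by
    rw [nat_card_alternatingGroup, Nat.card_eq_fintype_card, Fintype.card_fin]
    rfl
  obtain ⟨e⟩ := hS (Sylow.ofCard R (by
    rw [hR, hA, show (20160 : ℕ) = 64 * 315 by norm_num, Nat.factorization_mul (by norm_num) (by norm_num),
      show (64 : ℕ) = 2 ^ 6 by norm_num, Nat.Prime.factorization_pow Nat.prime_two]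
    simp [Nat.factorization_eq_zero_of_not_dvd (show ¬ 2 ∣ 315 by norm_num)]))
  refine ⟨⟨fun x => (e.symm ⟨toAlt x, ⟨x, rfl⟩⟩ : G), fun x y => ?_, fun x y h => ?_, fun g => ?_⟩⟩
  · rw [← Subgroup.coe_mul, ← map_mul]
    exact congrArg (fun u => ((e.symm u : S) : G)) (Subtype.ext (toAlt_mul x y))
  · exact toAlt_injective (congrArg Subtype.val (e.symm.injective (Subtype.ext h)))
  · refine ⟨fun hg => ?_, fun ⟨x, hx⟩ => hx ▸ (e.symm _).2⟩
    obtain ⟨x, hx⟩ := (e ⟨g, hg⟩).2
    refine ⟨x, ?_⟩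
    have hp : ∀ r : R, (r : alternatingGroup (Fin 8)) = toAlt x → ((e.symm r : S) : G) = g := fun r hr => by
      rw [show r = e ⟨g, hg⟩ from Subtype.ext (hr.trans hx), e.symm_apply_apply]
    exact hp _ rfl

end Cfsg.Agent.AltEightType
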