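/-
A solvable group with trivial odd core, a central involution and a Sylow 2-subgroup of type `A₈`.

* `local_cases` : the largest normal 2-subgroup is the Sylow subgroup or the coded `Q`
-/
import Cfsg.Agent.Lib.AltEightType.Model
import Cfsg.Agent.Lib.SylowLift.Solvable
import Cfsg.Agent.Lib.Cores.Basic
import Cfsg.Agent.Lib.BicyclicFusion.CoprimeTwo
import Cfsg.Agent.Lib.BurnsideBasis.Basic

set_option autoImplicit false

namespace Cfsg.Agent.AltEightType

open Subgroup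

variable {L : Type*} [Group L]

theorem commute_of_sq {f x : L} (hf : Odd (orderOf f)) (h : Commute (f * f) x) : Commute f x := by
  obtain ⟨k, hk⟩ := hf
  have he : f = (f * f) ^ (k + 1) := by
    rw [← pow_two, ← pow_mul, show 2 * (k + 1) = orderOf f + 1 by omega, pow_succ, pow_orderOf_eq_one,
      one_mul]
  rw [he]
  exact h.pow_left _

theorem eq_one_of_sq {d : L} {n : ℕ} (hn : Odd n) (h2 : d * d = 1) (h : d ^ n = 1) : d = 1 := by
  obtain ⟨k, rfl⟩ := hn
  rwa [pow_succ, pow_mul, pow_two, h2, one_pow, one_mul] at h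

theorem fix_of_two {f x y : L} (hf : Odd (orderOf f)) (hx : f * x * f⁻¹ = x ∨ f * x * f⁻¹ = y)
    (hy : f * y * f⁻¹ = x ∨ f * y * f⁻¹ = y) : Commute f x := by
  rw [commute_iff_eq, ← mul_inv_eq_iff_eq_mul]
  rcases hx with hx | hx
  · exact hx
  rcases hy with hy | hy
  · have hc : Commute (f * f) x := by
      rw [commute_iff_eq, ← mul_inv_eq_iff_eq_mul, show f * f * x * (f * f)⁻¹ = f * (f * x * f⁻¹) * f⁻¹ by group,
        hx, hy]
    rw [(commute_of_sq hf hc).eq, mul_inv_cancel_right]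
  · rw [show x = y from (MulAut.conj f).injective (by simpa using hx.trans hy.symm)]
    exact hy

/-- An element of odd order that centralises `R` and moves `x` by elements of `R` of order two fixes `x`. -/
theorem commute_of_chain {f x d : L} (hf : Odd (orderOf f)) (hd : f * x * f⁻¹ = d * x)
    (hfd : Commute f d) (h2 : d * d = 1) : Commute f x := by
  have hk : ∀ k : ℕ, f ^ k * x * (f ^ k)⁻¹ = d ^ k * x := by
    intro k
    induction k with
    | zero => simp
    | succ k ih =>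
      calc f ^ (k + 1) * x * (f ^ (k + 1))⁻¹ = f * (f ^ k * x * (f ^ k)⁻¹) * f⁻¹ := by
            rw [pow_succ']; group
        _ = f * d ^ k * f⁻¹ * (f * x * f⁻¹) := by rw [ih]; group
        _ = d ^ (k + 1) * x := by rw [(hfd.pow_right k).eq, hd, pow_succ]; group
  have h := hk (orderOf f)
  rw [pow_orderOf_eq_one, one_mul, inv_one, mul_one] at h
  have hd1 : d = 1 := eq_one_of_sq hf h2 (mul_eq_right.1 h.symm)
  rw [hd1, one_mul] at hd
  rw [commute_iff_eq, ← mul_inv_eq_iff_eq_mul, hd]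

/-- An element of odd order with the same image modulo a normal 2-subgroup of exponent four. -/
theorem exists_odd_rep {N : Subgroup L} [N.Normal] [Finite L] (hN : ∀ n ∈ N, n ^ 4 = 1) {g : L} {n : ℕ}
    (hn : Odd n) (hg : g ^ n ∈ N) : ∃ f : L, Odd (orderOf f) ∧ g⁻¹ * f ∈ N := by
  obtain ⟨m, hm1, hm4⟩ : ∃ m : ℕ, (∃ a, m = n * a + 1) ∧ 4 ∣ m := by
    rcases (show n % 4 = 1 ∨ n % 4 = 3 by have := Nat.odd_iff.1 hn; omega) with h | h
    · exact ⟨n * 3 + 1, ⟨3, rfl⟩, by omega⟩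
    · exact ⟨n * 1 + 1, ⟨1, rfl⟩, by omega⟩
  obtain ⟨a, rfl⟩ := hm1
  refine ⟨g ^ (n * a + 1), hn.of_dvd_nat (orderOf_dvd_of_pow_eq_one ?_), ?_⟩
  · obtain ⟨b, hb⟩ := hm4
    rw [← pow_mul, hb, show 4 * b * n = n * 4 * b by ring, pow_mul, pow_mul, hN _ hg, one_pow]
  · rw [pow_succ', inv_mul_cancel_left, pow_mul]
    exact pow_mem hg a

/-- The coded commutator. -/
def cc (a v : Fin 64) : Fin 64 := mm (mc a v) (mi v)

/-- The index of the coset of `A`. -/
def vc (v : Fin 64) : Fin 3 := ⟨(pc v + 2) % 3, Nat.mod_lt _ (by decide)⟩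

/-- The products of the sublists of a list. -/
def span : List (Fin 64) → List (Fin 64)
  | [] => [0]
  | a :: l => span l ++ (span l).map (mm a)

theorem cc_cases : ∀ v, ¬ inA v → ∀ a, inA a →
    cc a v = 0 ∨ cc a v = zc ∨ cc a v ∈ piL (vc v) := by decide +kernel

theorem cent_cases : ∀ v, ¬ inA v → ∀ w, inA w → cm w v → w = 0 ∨ w = zc ∨ w ∈ piL (vc v) := by
  decide +kernel

theorem cc_surj : ∀ v, ¬ inA v → ∀ x ∈ piL (vc v), ∃ a, inA a ∧ cc a v = x := by decide +kernel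

theorem piL_pair : ∀ j, ∀ x ∈ piL j, ∀ y ∈ piL j, y = x ∨ y = mm x zc := by decide +kernel

variable {T : Subgroup L}

namespace Data

variable (D : Data T)

theorem map_cc (a v : Fin 64) : D.φ (cc a v) = D.φ a * D.φ v * (D.φ a)⁻¹ * (D.φ v)⁻¹ := by
  rw [cc, D.map_mul, D.map_conj, D.map_inv]

theorem mem_span {F : Subgroup L} : ∀ {l : List (Fin 64)}, (∀ y ∈ l, D.φ y ∈ F) →
    ∀ {x}, x ∈ span l → D.φ x ∈ F
  | [], _, x, hx => by rw [List.mem_singleton.1 hx, D.map_zero]; exact one_mem _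
  | a :: l, hl, x, hx => by
    have ih : ∀ {x}, x ∈ span l → D.φ x ∈ F := mem_span fun y hy => hl y (List.mem_cons_of_mem _ hy)
    rcases List.mem_append.1 hx with h | h
    · exact ih h
    · obtain ⟨y, hy, rfl⟩ := List.mem_map.1 h
      rw [D.map_mul]
      exact mul_mem (hl a (List.mem_cons_self ..)) (ih hy)

/-- An element of odd order that fixes `z`, normalises `A` and fixes a coset of `A` centralises `A`. -/
theorem fix_trivial {f : L} (hf : Odd (orderOf f)) (hfz : Commute f D.z)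
    (hfA : ∀ a ∈ D.A, f * a * f⁻¹ ∈ D.A) {v : Fin 64} (hv : ¬ inA v)
    (hfv : f * D.φ v * f⁻¹ * (D.φ v)⁻¹ ∈ D.A) {a : L} (ha : a ∈ D.A) : Commute f a := by
  set w := D.φ v with hw
  have hstep : ∀ b ∈ D.A, f * (b * w * b⁻¹ * w⁻¹) * f⁻¹ = (f * b * f⁻¹) * w * (f * b * f⁻¹)⁻¹ * w⁻¹ := by
    intro b hb
    have e : f * w * f⁻¹ = f * w * f⁻¹ * w⁻¹ * w := by group
    have hbd : Commute (f * b * f⁻¹) (f * w * f⁻¹ * w⁻¹) := D.comm_A (hfA b hb) hfv
    calc f * (b * w * b⁻¹ * w⁻¹) * f⁻¹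
        = (f * b * f⁻¹) * (f * w * f⁻¹ * w⁻¹) * w * (f * b * f⁻¹)⁻¹ * w⁻¹ * (f * w * f⁻¹ * w⁻¹)⁻¹ := by group
      _ = (f * w * f⁻¹ * w⁻¹) * ((f * b * f⁻¹) * w * (f * b * f⁻¹)⁻¹ * w⁻¹) *
            (f * w * f⁻¹ * w⁻¹)⁻¹ := by rw [hbd.eq]; group
      _ = _ := by
        obtain ⟨c, hc, hce⟩ := hfA b hb
        have hm : (f * b * f⁻¹) * w * (f * b * f⁻¹)⁻¹ * w⁻¹ ∈ D.A := by
          rw [← hce, hw, ← D.map_cc]
          refine D.mem_sub.2 ?_
          exact (by decide +kernel : ∀ v, ¬ inA v → ∀ a, inA a → inA (cc a v)) v hv c hc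
        rw [(D.comm_A hfv hm).eq, mul_inv_cancel_right]
  have hpi : ∀ x ∈ piL (vc v), Commute f (D.φ x) := by
    have himg : ∀ x ∈ piL (vc v), ∃ y ∈ piL (vc v), f * D.φ x * f⁻¹ = D.φ y := by
      intro x hx
      obtain ⟨b, hb, rfl⟩ := cc_surj v hv x hx
      obtain ⟨c, hc, hce⟩ := hfA _ (D.mem_sub.2 hb)
      have he : f * D.φ (cc b v) * f⁻¹ = D.φ (cc c v) := by
        rw [D.map_cc, D.map_cc, ← hw, hstep _ (D.mem_sub.2 hb), hce]
      refine ⟨_, ?_, he⟩
      rcases cc_cases v hv c hc with h | h | h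
      · exfalso
        rw [h, D.map_zero, conj_eq_one_iff, D.map_eq_one] at he
        rw [he] at hx
        exact (by decide : ∀ j, (0 : Fin 64) ∉ piL j) _ hx
      · exfalso
        rw [h] at he
        have hfz' : Commute f (D.φ zc) := hfz
        have : D.φ (cc b v) = D.φ zc := (MulAut.conj f).injective (by
          simpa using he.trans (show D.φ zc = f * D.φ zc * f⁻¹ by
            rw [hfz'.eq, mul_inv_cancel_right]))
        rw [D.inj this] at hx
        exact (by decide : ∀ j, zc ∉ piL j) _ hx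
      · exact h
    intro x hx
    have hxy := (by decide +kernel : ∀ j, ∀ x ∈ piL j, mm x zc ∈ piL j) _ x hx
    obtain ⟨y, hy, hye⟩ := himg x hx
    obtain ⟨y', hy', hye'⟩ := himg _ hxy
    refine fix_of_two (y := D.φ (mm x zc)) hf ?_ ?_
    · rw [hye]; exact (piL_pair _ x hx y hy).imp (congrArg _) (congrArg _)
    · rw [hye']; exact (piL_pair _ x hx y' hy').imp (congrArg _) (congrArg _)
  obtain ⟨b, hb, rfl⟩ := ha
  have ha' : D.φ b ∈ D.A := D.mem_sub.2 hb
  set d := f * D.φ b * f⁻¹ * (D.φ b)⁻¹ with hd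
  have hdA : d ∈ D.A := mul_mem (hfA _ ha') (inv_mem ha')
  have hfix : f * (D.φ b * w * (D.φ b)⁻¹ * w⁻¹) * f⁻¹ = D.φ b * w * (D.φ b)⁻¹ * w⁻¹ := by
    rw [hw, ← D.map_cc]
    have hc : Commute f (D.φ (cc b v)) := by
      rcases cc_cases v hv b hb with h | h | h
      · rw [h, D.map_zero]; exact Commute.one_right _
      · rw [h]; exact hfz
      · exact hpi _ h
    rw [hc.eq, mul_inv_cancel_right]
  have hdw : Commute d w := by
    have h := (hstep _ ha').symm.trans hfix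
    have e : f * D.φ b * f⁻¹ = d * D.φ b := by rw [hd]; group
    rw [e] at h
    rw [commute_iff_eq, ← mul_inv_eq_iff_eq_mul]
    have h2 : Commute d (D.φ b * w * (D.φ b)⁻¹ * w⁻¹) := by
      rw [hw, ← D.map_cc]
      exact D.comm_A hdA (D.mem_sub.2
        ((by decide +kernel : ∀ v, ¬ inA v → ∀ a, inA a → inA (cc a v)) v hv b hb))
    have h3 : d * (D.φ b * w * (D.φ b)⁻¹ * w⁻¹) * d⁻¹ * (d * w * d⁻¹ * w⁻¹) =
        D.φ b * w * (D.φ b)⁻¹ * w⁻¹ := by
      refine Eq.trans ?_ h; group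
    rw [h2.eq, mul_inv_cancel_right, mul_eq_left, mul_inv_eq_one] at h3
    exact h3
  have hdf : Commute f d := by
    obtain ⟨e, he, hee⟩ := hdA
    rw [← hee]
    rcases cent_cases v hv e he (D.commute_iff.1 (hee.symm ▸ hdw)) with h | h | h
    · rw [h, D.map_zero]; exact Commute.one_right _
    · rw [h]; exact hfz
    · exact hpi _ h
  exact commute_of_chain hf (by rw [hd]; group) hdf (D.sq_A hdA)

variable [Finite L] {D}

omit [Finite L] in
/-- An element of odd order centralising `A` and all cosets of `A` in a self-centralising subgroup of `T` is trivial. -/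
theorem odd_eq_one {P : Subgroup L} (hPT : P ≤ T) (hC : centralizer (P : Set L) ≤ P)
    {f : L} (hf : Odd (orderOf f)) (hfA : ∀ a ∈ D.A, Commute f a)
    (hfP : ∀ v ∈ P, f * v * f⁻¹ * v⁻¹ ∈ D.A) : f = 1 := by
  have hc : f ∈ centralizer (P : Set L) := mem_centralizer_iff.2 fun v hv =>
    (commute_of_chain hf (show f * v * f⁻¹ = (f * v * f⁻¹ * v⁻¹) * v by group) (hfA _ (hfP v hv))
      (D.sq_A (hfP v hv))).eq.symm
  obtain ⟨x, hx⟩ := D.exists_code (hPT (hC hc))
  have h64 : f ^ 4 = 1 := by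
    have h : ∀ x, mm (mm x x) (mm x x) = 0 := by decide +kernel
    rw [← hx, show 4 = 2 + 2 from rfl, pow_add, pow_two, ← D.map_mul, ← D.map_mul, h x, D.map_zero]
  have hd := orderOf_dvd_of_pow_eq_one h64
  rw [show 4 = 2 ^ 2 from rfl] at hd
  obtain ⟨k, -, hk⟩ := (Nat.dvd_prime_pow Nat.prime_two).1 hd
  rcases k with _ | k
  · exact orderOf_eq_one_iff.1 hk
  · exfalso; rw [hk, Nat.odd_iff, pow_succ] at hf; omega

end Data

end Cfsg.Agent.AltEightType
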