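/-
The largest normal 2-subgroup of a solvable group with trivial odd core, central involution and
Sylow 2-subgroup of type `A₈`.

* `pCore_cases` : it is the Sylow subgroup or the coded `Q`
-/
import Cfsg.Agent.Lib.AltEightType.Local

set_option autoImplicit false

namespace Cfsg.Agent.AltEightType

open Subgroup

variable {L : Type*} [Group L] [Finite L]

theorem eq_one_of_pow_four {f : L} (hf : Odd (orderOf f)) (h : f ^ 4 = 1) : f = 1 := by
  have hd := orderOf_dvd_of_pow_eq_one h
  rw [show 4 = 2 ^ 2 from rfl] at hd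
  obtain ⟨k, -, hk⟩ := (Nat.dvd_prime_pow Nat.prime_two).1 hd
  rcases k with _ | k
  · exact orderOf_eq_one_iff.1 hk
  · exfalso; rw [hk, Nat.odd_iff, pow_succ] at hf; omega

theorem isPGroup_of_odd_trivial {K : Subgroup L} (h : ∀ f ∈ K, Odd (orderOf f) → f = 1) : IsPGroup 2 K := by
  intro g
  obtain ⟨j, m, hm, hjm⟩ := Nat.exists_eq_two_pow_mul_odd (orderOf_pos (g : L)).ne'
  refine ⟨j, Subtype.ext (h _ (g ^ 2 ^ j).2 ?_)⟩
  refine hm.of_dvd_nat (orderOf_dvd_of_pow_eq_one ?_)
  rw [Subgroup.coe_pow, ← pow_mul, ← hjm, pow_orderOf_eq_one]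

variable {T : Sylow 2 L} (D : Data (T : Subgroup L))

namespace Data

theorem pow_four (D : Data (T : Subgroup L)) {g : L} (hg : g ∈ (T : Subgroup L)) : g ^ 4 = 1 := by
  obtain ⟨x, rfl⟩ := D.exists_code hg
  have h : ∀ x, mm (mm x x) (mm x x) = 0 := by decide +kernel
  rw [show 4 = 2 + 2 from rfl, pow_add, pow_two, ← D.map_mul, ← D.map_mul, h x, D.map_zero]

/-- The elements acting trivially on `P / F` form a 2-group, so lie in `P`. -/
theorem kernel_le {P : Subgroup L} (hP : P = Cfsg.pCore 2 L) (hC : centralizer (P : Set L) ≤ P)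
    (hPT : P ≤ (T : Subgroup L)) (F : Subgroup L) (hF : ∀ g, ∀ x ∈ F, g * x * g⁻¹ ∈ F)
    (hodd : ∀ f, Odd (orderOf f) → (∀ p ∈ P, f * p * f⁻¹ * p⁻¹ ∈ F) → ∀ p ∈ P, Commute f p)
    (D : Data (T : Subgroup L)) {v : L} (hv : ∀ p ∈ P, v * p * v⁻¹ * p⁻¹ ∈ F) : v ∈ P := by
  have hPn : P.Normal := hP ▸ inferInstance
  let K : Subgroup L :=
    { carrier := {g | ∀ p ∈ P, g * p * g⁻¹ * p⁻¹ ∈ F}
      one_mem' := fun p _ => by simp
      mul_mem' := fun {g h} hg hh p hp => by
        rw [show g * h * p * (g * h)⁻¹ * p⁻¹ = g * (h * p * h⁻¹ * p⁻¹) * g⁻¹ * (g * p * g⁻¹ * p⁻¹) by group]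
        exact mul_mem (hF g _ (hh p hp)) (hg p hp)
      inv_mem' := fun {g} hg p hp => by
        have h := hF g⁻¹ _ (inv_mem (hg p hp))
        rwa [show g⁻¹ * (g * p * g⁻¹ * p⁻¹)⁻¹ * g⁻¹⁻¹ = g⁻¹ * p * g⁻¹⁻¹ * p⁻¹ by group] at h }
  have hKn : K.Normal := ⟨fun g hg h p hp => by
    have := hF h _ (hg _ (hPn.conj_mem p hp h⁻¹))
    rwa [show h * (g * (h⁻¹ * p * h⁻¹⁻¹) * g⁻¹ * (h⁻¹ * p * h⁻¹⁻¹)⁻¹) * h⁻¹ =
      h * g * h⁻¹ * p * (h * g * h⁻¹)⁻¹ * p⁻¹ by group] at this⟩
  have hK2 : IsPGroup 2 K := isPGroup_of_odd_trivial fun f hf ho =>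
    eq_one_of_pow_four ho (D.pow_four (hPT (hC (mem_centralizer_iff.2 fun p hp =>
      (hodd f ho hf p hp).eq.symm))))
  exact hP ▸ Cores.le_pCore hKn hK2 hv

set_option maxHeartbeats 1000000 in
/-- The pCore is the Sylow subgroup or `Q`. -/
theorem pCore_cases [Group.IsSolvable L] (hO : Cfsg.oddCore L = ⊥) (hz : ∀ g, Commute g D.z) :
    Cfsg.pCore 2 L = (T : Subgroup L) ∨ Cfsg.pCore 2 L = D.Q := by
  have : Fact (Nat.Prime 2) := ⟨Nat.prime_two⟩
  set P := Cfsg.pCore 2 L with hPdef
  have hPn : P.Normal := inferInstance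
  have hPT : P ≤ (T : Subgroup L) := Cores.pCore_le_sylow T
  have hC : centralizer (P : Set L) ≤ P := SylowLift.centralizer_pCore_le_of_solvable hO
  by_cases hAP : D.A ≤ P
  · -- `A` is normal
    have hAn : ∀ g, ∀ a ∈ D.A, g * a * g⁻¹ ∈ D.A := by
      intro g a ha
      have hE : D.A.map (MulAut.conj g).toMonoidHom = D.A := by
        refine D.eq_A ?_ ?_ ?_ ?_
        · rintro - ⟨x, hx, rfl⟩
          exact hPT (hPn.conj_mem x (hAP hx) g)
        · rintro - ⟨x, hx, rfl⟩
          rw [← _root_.map_mul, D.sq_A hx, _root_.map_one]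
        · rintro - ⟨x, hx, rfl⟩ - ⟨y, hy, rfl⟩
          exact (D.comm_A hx hy).map _
        · rw [card_map_of_injective (MulAut.conj g).injective, D.card_A]
      rw [← hE]
      exact ⟨a, ha, rfl⟩
    have kill : ∀ (f : L) (v : Fin 64), Odd (orderOf f) → ¬ inA v →
        f * D.φ v * f⁻¹ * (D.φ v)⁻¹ ∈ D.A → (∀ p ∈ P, f * p * f⁻¹ * p⁻¹ ∈ D.A) → f = 1 := by
      intro f v hf hv hfv hfP
      exact odd_eq_one hPT hC hf (fun a ha => D.fix_trivial hf (hz f) (hAn f) hv hfv ha) hfP
    by_cases hPA : P ≤ D.A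
    · -- `P = A`: the four-group acts on a normal subgroup of odd order of `L ⧸ A`
      exfalso
      haveI hAnorm : D.A.Normal := ⟨fun a ha g => hAn g a ha⟩
      set π := QuotientGroup.mk' D.A with hπ
      have hπ1 : ∀ {g : L}, π g = 1 ↔ g ∈ D.A := fun {g} => QuotientGroup.eq_one_iff g
      have hnt : Nontrivial (L ⧸ D.A) := Finite.one_lt_card_iff_nontrivial.1 (by
        have h1 := card_le_of_le (le_top : (T : Subgroup L) ≤ ⊤)
        rw [D.card_eq, Subgroup.card_top] at h1
        have h2 := D.A.card_mul_index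
        rw [D.card_A, Subgroup.index_eq_card] at h2
        omega)
      obtain ⟨F, hFn, hFne, hFc⟩ : ∃ F : Subgroup (L ⧸ D.A), F.Normal ∧ F ≠ ⊥ ∧
          ∀ x ∈ F, ∀ y ∈ F, Commute x y := by
        obtain ⟨n, hn⟩ := (Group.isSolvable_def (L ⧸ D.A)).1 inferInstance
        have h0 : derivedSeries (L ⧸ D.A) 0 ≠ ⊥ := by
          rw [derivedSeries_zero]; exact top_ne_bot
        obtain ⟨k, hk, hk1⟩ := Nat.exists_not_and_succ_of_not_zero_of_exists (p := fun m =>
          derivedSeries (L ⧸ D.A) m = ⊥) h0 ⟨n, hn⟩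
        refine ⟨_, derivedSeries_normal (L ⧸ D.A) k, hk, fun x hx y hy => ?_⟩
        rw [commute_iff_eq, ← commutatorElement_eq_one_iff_mul_comm]
        exact Subgroup.mem_bot.1 (hk1 ▸ derivedSeries_succ (L ⧸ D.A) k ▸ commutator_mem_commutator hx hy)
      have hFodd : ∀ y ∈ F, y * y = 1 → y = 1 := by
        intro y hy hy2
        let F2 : Subgroup (L ⧸ D.A) :=
          { carrier := {x | x ∈ F ∧ x * x = 1}
            one_mem' := ⟨one_mem _, one_mul 1⟩
            mul_mem' := fun {a b} ha hb => ⟨mul_mem ha.1 hb.1, by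
              calc a * b * (a * b) = a * (b * a) * b := by group
                _ = a * a * (b * b) := by rw [(hFc b hb.1 a ha.1).eq]; group
                _ = 1 := by rw [ha.2, hb.2, one_mul]⟩
            inv_mem' := fun {a} ha => ⟨inv_mem ha.1, by rw [← mul_inv_rev, ha.2, inv_one]⟩ }
        haveI : F2.Normal := ⟨fun x hx g => ⟨hFn.conj_mem x hx.1 g, by
          rw [show g * x * g⁻¹ * (g * x * g⁻¹) = g * (x * x) * g⁻¹ by group, hx.2]; group⟩⟩
        obtain ⟨g, rfl⟩ := QuotientGroup.mk'_surjective D.A y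
        have h2 : IsPGroup 2 (F2.comap π) := by
          intro x
          refine ⟨2, Subtype.ext ?_⟩
          have hxA : (x : L) * x ∈ D.A := hπ1.1 (by rw [_root_.map_mul]; exact x.2.2)
          rw [Subgroup.coe_pow, show (2 : ℕ) ^ 2 = 2 + 2 from rfl, pow_add, pow_two, D.sq_A hxA]
          rfl
        exact hπ1.2 (hPA (Cores.le_pCore inferInstance h2 (show g ∈ F2.comap π from ⟨hy, hy2⟩)))
      obtain ⟨g, hg, hg1⟩ := (F.bot_or_exists_ne_one).resolve_left hFne
      let u : Fin 64 → L ⧸ D.A := fun x => π (D.φ x)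
      have hu2 : ∀ x, u x * u x = 1 := fun x => by
        rw [← _root_.map_mul, ← D.map_mul]
        exact hπ1.2 (D.mem_sub.2 ((by decide +kernel : ∀ x, inA (mm x x)) x))
      have huu : u 16 * u 32 = u 48 := by
        rw [← _root_.map_mul, ← D.map_mul, show mm 16 32 = 48 from by decide +kernel]
      obtain ⟨v, hv, k, hk, hk1, hvk⟩ : ∃ v : Fin 64, ¬ inA v ∧ ∃ k ∈ F, k ≠ 1 ∧ u v * k * u v = k := by
        have hfix : ∀ x : Fin 64, ∀ k ∈ F, u x * (k * (u x * k * u x)) * u x = k * (u x * k * u x) := by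
          intro x k hk
          have hk' : u x * k * u x ∈ F := by
            have := hFn.conj_mem k hk (u x)
            rwa [eq_inv_of_mul_eq_one_left (hu2 x), inv_inv, ← eq_inv_of_mul_eq_one_left (hu2 x)] at this
          calc u x * (k * (u x * k * u x)) * u x = (u x * k * u x) * k * (u x * u x) := by group
            _ = _ := by rw [hu2, mul_one, (hFc _ hk' _ hk).eq]
        have hmem : ∀ x : Fin 64, ∀ k ∈ F, k * (u x * k * u x) ∈ F := fun x k hk => mul_mem hk (by
          have := hFn.conj_mem k hk (u x)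
          rwa [← eq_inv_of_mul_eq_one_left (hu2 x)] at this)
        by_cases h1 : g * (u 16 * g * u 16) = 1
        · by_cases h2 : g * (u 32 * g * u 32) = 1
          · refine ⟨48, by decide, g, hg, hg1, ?_⟩
            have e1 : u 16 * g * u 16 = g⁻¹ := eq_inv_of_mul_eq_one_right h1
            have e2 : u 32 * g * u 32 = g⁻¹ := eq_inv_of_mul_eq_one_right h2
            have hcomm : u 32 * u 16 = u 48 := by
              rw [← _root_.map_mul, ← D.map_mul, show mm 32 16 = 48 from by decide +kernel]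
            calc u 48 * g * u 48 = u 16 * (u 32 * g * u 32) * u 16 := by
                  nth_rw 1 [← huu]; rw [← hcomm]; group
              _ = (u 16 * g * u 16)⁻¹ := by
                  rw [e2, mul_inv_rev, mul_inv_rev, ← eq_inv_of_mul_eq_one_left (hu2 16)]; group
              _ = g := by rw [e1, inv_inv]
          · exact ⟨32, by decide, _, hmem _ g hg, h2, hfix _ g hg⟩
        · exact ⟨16, by decide, _, hmem _ g hg, h1, hfix _ g hg⟩
      obtain ⟨h, rfl⟩ := QuotientGroup.mk'_surjective D.A k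
      have hodd : Odd (orderOf (π h)) := by
        rw [← Nat.not_even_iff_odd]
        intro he
        have hne : π h ^ (orderOf (π h) / 2) ≠ 1 := pow_ne_one_of_lt_orderOf
          (by have := orderOf_pos (π h); obtain ⟨c, hc⟩ := he; omega)
          (Nat.div_lt_self (orderOf_pos _) (by norm_num))
        exact hne (hFodd _ (pow_mem hk _) (by
          rw [← pow_add, show orderOf (π h) / 2 + orderOf (π h) / 2 = orderOf (π h) by
            obtain ⟨c, hc⟩ := he; omega, pow_orderOf_eq_one]))
      obtain ⟨f, hf, hfh⟩ := exists_odd_rep (N := D.A)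
        (fun n hn => by rw [show 4 = 2 + 2 from rfl, pow_add, pow_two, D.sq_A hn, one_mul]) hodd
        (hπ1.1 (by rw [_root_.map_pow, pow_orderOf_eq_one]))
      have hfh' : π f = π h := by
        have := hπ1.2 hfh
        rwa [_root_.map_mul, _root_.map_inv, inv_mul_eq_one, eq_comm] at this
      have hfv : f * D.φ v * f⁻¹ * (D.φ v)⁻¹ ∈ D.A := hπ1.1 (by
        simp only [_root_.map_mul, _root_.map_inv, hfh']
        change π h * u v * (π h)⁻¹ * (u v)⁻¹ = 1
        have hcv : Commute (π h) (u v) := by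
          calc π h * u v = u v * π h * u v * u v := by nth_rw 1 [← hvk]
            _ = u v * π h := by rw [mul_assoc, hu2, mul_one]
        rw [hcv.eq, mul_inv_cancel_right, mul_inv_cancel])
      have hf1 := kill f v hf hv hfv fun p hp => mul_mem (hAn f p (hPA hp)) (inv_mem (hPA hp))
      exact hk1 (by rw [← hfh', hf1, _root_.map_one])
    · obtain ⟨p, hp, hpA⟩ := SetLike.not_le_iff_exists.1 hPA
      obtain ⟨v, rfl⟩ := D.exists_code (hPT hp)
      have hv : ¬ inA v := fun h => hpA (D.mem_sub.2 h)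
      by_cases hall : ∀ w, ¬ inA w → D.φ w ∈ P → vc w = vc v
      · -- one coset: there are no elements of odd order
        left
        have hdiv : ∀ p ∈ P, ∀ q ∈ P, p ∉ D.A → q ∉ D.A → p * q⁻¹ ∈ D.A := by
          intro p hp q hq hpA hqA
          obtain ⟨a, rfl⟩ := D.exists_code (hPT hp)
          obtain ⟨b, rfl⟩ := D.exists_code (hPT hq)
          rw [← D.map_inv, ← D.map_mul]
          refine D.mem_sub.2 ((by decide +kernel : ∀ a, ¬ inA a → ∀ b, ¬ inA b → vc a = vc b → inA (mm a (mi b)))
            a (fun h => hpA (D.mem_sub.2 h)) b (fun h => hqA (D.mem_sub.2 h)) ?_)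
          rw [hall a (fun h => hpA (D.mem_sub.2 h)) hp, hall b (fun h => hqA (D.mem_sub.2 h)) hq]
        have hfP : ∀ f : L, ∀ q ∈ P, f * q * f⁻¹ * q⁻¹ ∈ D.A := by
          intro f q hq
          by_cases hqA : q ∈ D.A
          · exact mul_mem (hAn f q hqA) (inv_mem hqA)
          · refine hdiv _ (hPn.conj_mem q hq f) q hq (fun h => hqA ?_) hqA
            have := hAn f⁻¹ _ h
            simpa [mul_assoc] using this
        have htop : IsPGroup 2 (⊤ : Subgroup L) := isPGroup_of_odd_trivial fun f _ hf =>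
          kill f v hf hv (hfP f _ hp) (hfP f)
        exact le_antisymm hPT ((Cores.le_pCore (N := (⊤ : Subgroup L)) inferInstance htop) |>.trans' le_top)
      · left
        simp only [not_forall] at hall
        obtain ⟨w, hw, hwP, hne⟩ := hall
        refine le_antisymm hPT fun x hx => ?_
        obtain ⟨x, rfl⟩ := D.exists_code hx
        have key : ∀ g, D.φ g ∈ P → inA (mm x (mi g)) → D.φ x ∈ P := by
          intro g hg hA
          have h := mul_mem (hAP (D.mem_sub.2 hA)) hg
          rwa [D.map_mul, D.map_inv, inv_mul_cancel_right] at h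
        rcases (by decide +kernel : ∀ v, ¬ inA v → ∀ w, ¬ inA w → vc w ≠ vc v → ∀ x : Fin 64,
          inA x ∨ inA (mm x (mi v)) ∨ inA (mm x (mi w)) ∨ inA (mm x (mi (mm v w)))) v hv w hw hne x
          with h | h | h | h
        · exact hAP (D.mem_sub.2 h)
        · exact key v hp h
        · exact key w hwP h
        · exact key _ (by rw [D.map_mul]; exact mul_mem hp hwP) h
  · by_cases hPQ : P ≤ D.Q
    · right
      refine le_antisymm hPQ fun x hx => ?_
      refine kernel_le hPdef hC hPT (zpowers D.z) ?_ ?_ D ?_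
      · rintro g - ⟨k, rfl⟩
        rw [((hz g).zpow_right k).eq, mul_inv_cancel_right]
        exact zpow_mem (mem_zpowers _) k
      · intro f hf h p hp
        obtain ⟨k, hk⟩ := h p hp
        refine commute_of_chain hf (d := f * p * f⁻¹ * p⁻¹) (by group) (hk ▸ (hz f).zpow_right k) ?_
        rw [← hk, ← zpow_add, ← two_mul, zpow_mul, show D.z ^ (2 : ℤ) = 1 by
          rw [zpow_two]; exact D.sq_iff.2 (by decide +kernel), one_zpow]
      · intro p hp
        obtain ⟨a, ha, rfl⟩ := hx
        obtain ⟨b, hb, rfl⟩ := hPQ hp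
        rw [← D.map_cc]
        rcases (by decide +kernel : ∀ a, inQ a → ∀ b, inQ b → cc a b = 0 ∨ cc a b = zc) a ha b hb with e | e
        · rw [e, D.map_zero]; exact one_mem _
        · rw [e]; exact mem_zpowers _
    · exfalso
      obtain ⟨p, hp, hpQ⟩ := SetLike.not_le_iff_exists.1 hPQ
      obtain ⟨v, rfl⟩ := D.exists_code (hPT hp)
      have hv : ¬ inQ v := fun h => hpQ (D.mem_sub.2 h)
      have hconj : ∀ h, D.φ (mc h v) ∈ P := fun h => by rw [D.map_conj]; exact hPn.conj_mem _ hp _
      by_cases hvA : inA v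
      · refine hAP ?_
        rintro - ⟨b, hb, rfl⟩
        refine D.mem_span (l := [v, mc 16 v, mc 32 v, mc 48 v]) ?_
          ((by decide +kernel : ∀ v, inA v → ¬ inQ v → ∀ b, inA b →
            b ∈ span [v, mc 16 v, mc 32 v, mc 48 v]) v hvA hv b hb)
        intro y hy
        simp only [List.mem_cons, List.not_mem_nil, or_false] at hy
        rcases hy with rfl | rfl | rfl | rfl
        exacts [hp, hconj _, hconj _, hconj _]
      · obtain ⟨a, ha, haP⟩ := SetLike.not_le_iff_exists.1 hAP
        let F : Subgroup L := closure ((fun p => p * p) '' (P : Set L))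
        have hFsq : ∀ {x}, x ∈ P → x * x ∈ F := fun {x} hx => subset_closure ⟨x, hx, rfl⟩
        refine haP (kernel_le hPdef hC hPT F ?_ ?_ D ?_)
        · intro g x hx
          induction hx using closure_induction with
          | mem x hx =>
            obtain ⟨q, hq, rfl⟩ := hx
            rw [show g * (q * q) * g⁻¹ = (g * q * g⁻¹) * (g * q * g⁻¹) by group]
            exact hFsq (hPn.conj_mem q hq g)
          | one => simp
          | mul x y _ _ hx hy =>
            rw [show g * (x * y) * g⁻¹ = g * x * g⁻¹ * (g * y * g⁻¹) by group]; exact mul_mem hx hy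
          | inv x _ hx => rw [← conj_inv]; exact inv_mem hx
        · intro f hf h q hq
          have hfr : F ≤ (frattini P).map P.subtype := by
            rw [closure_le]
            rintro - ⟨x, hx, rfl⟩
            exact ⟨⟨x, hx⟩ ^ 2, BurnsideBasis.pow_mem_frattini (T.2.to_le hPT) _, by simp [pow_two]⟩
          haveI := hPn
          have hα : (MulAut.conjNormal f : MulAut P) = 1 := by
            refine BicyclicFusion.eq_one_of_frattini (T.2.to_le hPT) ?_ fun x => ?_
            · refine Nat.coprime_two_right.2 (hf.of_dvd_nat (orderOf_map_dvd _ f))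
            · obtain ⟨d, hd, hde⟩ := hfr (h x x.2)
              have : x⁻¹ * MulAut.conjNormal f x = x⁻¹ * d * x := Subtype.ext (by
                push_cast
                rw [MulAut.conjNormal_apply, show (d : L) = f * x * f⁻¹ * (x : L)⁻¹ from hde]; group)
              rw [this]
              have hn := (inferInstance : (frattini P).Normal).conj_mem d hd x⁻¹
              rwa [inv_inv] at hn
          have := congrArg Subtype.val (DFunLike.congr_fun hα ⟨q, hq⟩)
          rw [MulAut.conjNormal_apply] at this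
          exact mul_inv_eq_iff_eq_mul.1 this
        · intro q hq
          obtain ⟨b, rfl⟩ := D.exists_code (hPT hq)
          obtain ⟨c, hc, rfl⟩ := ha
          rw [← D.map_cc]
          refine D.mem_span (l := [mm v v, mm (mc 16 v) (mc 16 v), mm (mc 32 v) (mc 32 v), mm b b,
            mm (mm v b) (mm v b)]) ?_ ((by decide +kernel : ∀ v, ¬ inA v → ¬ inQ v → ∀ a, inA a → ∀ b,
              cc a b ∈ span [mm v v, mm (mc 16 v) (mc 16 v), mm (mc 32 v) (mc 32 v), mm b b,
                mm (mm v b) (mm v b)]) v hvA hv c hc b)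
          intro y hy
          simp only [List.mem_cons, List.not_mem_nil, or_false] at hy
          rcases hy with rfl | rfl | rfl | rfl | rfl <;> simp only [D.map_mul]
          exacts [hFsq hp, hFsq (hconj _), hFsq (hconj _), hFsq hq, hFsq (mul_mem hp hq)]

end Data

end Cfsg.Agent.AltEightType
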