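/-
Klein four Sylow 2-subgroups and soluble involution centralisers: odd signalizers.

* `odd_eq_bot` : with trivial odd core, a subgroup of odd order normalised by the involution centralisers of the
  Sylow four-group and by an element cycling it is trivial
-/
import Cfsg.Agent.Lib.GWKlein.General.Main
import Cfsg.Agent.Lib.GWKlein.General.L2Embedded
import Cfsg.Agent.Lib.AbelianSylowTwo.SolvCent
import Cfsg.Agent.Lib.PSL2.Dihedral
import Cfsg.Agent.Lib.PSL2.Groups
import Cfsg.Agent.Lib.SubThree.PSLFacts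
import Cfsg.Agent.Lib.Coprime.Generation
import Cfsg.Agent.Lib.Solvable.Basic

set_option autoImplicit false
set_option linter.style.haveILetI false

namespace Cfsg.Agent.AltEightType

open Subgroup GWKlein

universe u

theorem eq_one_of_two_odd {Y : Type u} [Group Y] {x : Y} {k : ℕ} (h2 : x ^ 2 ^ k = 1) (ho : Odd (orderOf x)) :
    x = 1 :=
  orderOf_eq_one_iff.1 (Nat.eq_one_of_dvd_coprimes ((Nat.coprime_two_right.2 ho).pow_right k) dvd_rfl
    (orderOf_dvd_of_pow_eq_one h2))

/-- The centraliser of an involution is maximal in `PSL(2,q)` when `n ≥ 3`. -/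
theorem isCoatom_centralizer {F : Type} [Field F] [Finite F] {n : ℕ} (hn : L2.TorusOrder F n) (h3 : 3 ≤ n)
    (h8 : Nat.card F % 8 = 3 ∨ Nat.card F % 8 = 5) {u : PSL2.PSL2 F} (hu : orderOf u = 2) :
    IsCoatom (centralizer ({u} : Set (PSL2.PSL2 F))) := by
  obtain ⟨y, hy, hyu, hside⟩ := hn.exists_torus hu
  obtain ⟨p, hp⟩ := CharP.exists F
  haveI : Fact p.Prime := ⟨CharP.char_is_prime F p⟩
  have hyp : ¬ orderOf y ∣ p := by
    rw [hy]
    intro h
    rcases (Nat.dvd_prime (Fact.out : p.Prime)).1 h with h | h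
    · omega
    · have h2 : p = 2 := ((Nat.prime_dvd_prime_iff_eq Nat.prime_two Fact.out).1 (h ▸ dvd_mul_right 2 n)).symm
      omega
  obtain ⟨w, hw, hwy⟩ := PSL2.exists_inverting p hyp
  have hy2 : y ^ 2 ≠ 1 := fun e => by
    have := Nat.le_of_dvd two_pos (orderOf_dvd_of_pow_eq_one e)
    omega
  have hw1 : w ≠ 1 := by
    rintro rfl
    rw [one_mul, inv_one, mul_one] at hwy
    exact hy2 (by rw [pow_two]; nth_rewrite 1 [hwy]; exact inv_mul_cancel y)
  have huinv : u⁻¹ = u := Involution.inv_eq hu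
  have hwC : w ∈ centralizer ({u} : Set (PSL2.PSL2 F)) := mem_centralizer_singleton_iff.2 (by
    refine mul_inv_eq_iff_eq_mul.1 ?_
    rw [← hyu, ← conj_pow, hwy, inv_pow, hyu, huinv])
  have hyC : y ∈ centralizer ({u} : Set (PSL2.PSL2 F)) :=
    mem_centralizer_singleton_iff.2 (hyu ▸ (Commute.refl y).pow_right n).eq
  obtain ⟨e⟩ := PSL2.mulEquiv_dihedral (G := centralizer ({u} : Set (PSL2.PSL2 F))) (n := 2 * n)
    (by rw [hn.card_centralizer hu]; ring) (by omega) ⟨y, hyC⟩ ⟨w, hwC⟩
    (by rw [Subgroup.orderOf_mk, hy])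
    (by rw [Subgroup.orderOf_mk]; exact orderOf_eq_prime (by rw [pow_two, hw]) hw1)
    (Subtype.ext (by
      show w * y * w = y⁻¹
      have hwi : w⁻¹ = w := inv_eq_of_mul_eq_one_right hw
      rw [hwi] at hwy
      exact hwy))
    (by
      rintro ⟨i, hi⟩
      have hi' : y ^ i = w := congrArg Subtype.val hi
      rw [← hi', ((Commute.refl y).zpow_left i).eq, mul_inv_cancel_right] at hwy
      exact hy2 (by rw [pow_two]; nth_rewrite 1 [hwy]; exact inv_mul_cancel y))
  refine PSL2.dihedral_isCoatom (by omega) (hy ▸ hside) (by omega) (by omega) (by omega) ?_ e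
  intro h11
  rcases hn.eq with h | h <;> omega

variable {Y : Type u} [Group Y] [Finite Y]

/-- The case of a normal `PSL(2,q)` with trivial centraliser. -/
theorem odd_eq_bot_psl (V : Sylow 2 Y) [IsKleinFour (V : Subgroup Y)] (K : Subgroup Y)
    (hK : Odd (Nat.card K))
    (hKC : ∀ v ∈ V, orderOf v = 2 → centralizer ({v} : Set Y) ≤ normalizer (K : Set Y)) (x : Y)
    (hxV : x ∈ normalizer ((V : Subgroup Y) : Set Y)) (hxK : x ∈ normalizer (K : Set Y))
    (hx : x ∉ centralizer ((V : Subgroup Y) : Set Y)) {F : Type} [Field F] [Finite F]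
    (h8 : Nat.card F % 8 = 3 ∨ Nat.card F % 8 = 5) (h3 : 3 < Nat.card F) (ι : PSL2.PSL2 F →* Y)
    (hinj : Function.Injective ι) (hnor : ι.range.Normal)
    (hcen : centralizer (ι.range : Set Y) = ⊥) : K = ⊥ := by
  classical
  haveI : Fact (Nat.Prime 2) := ⟨Nat.prime_two⟩
  by_contra hK0
  have hV4 : Nat.card (V : Subgroup Y) = 4 := IsKleinFour.card_four
  have hcomm : ∀ a ∈ (V : Subgroup Y), ∀ b ∈ (V : Subgroup Y), Commute a b := fun a ha b hb =>
    congrArg Subtype.val (mul_comm_of_exponent_two IsKleinFour.exponent_two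
      (⟨a, ha⟩ : (V : Subgroup Y)) ⟨b, hb⟩)
  have hsq : ∀ a ∈ (V : Subgroup Y), a * a = 1 := fun a ha =>
    congrArg Subtype.val (IsKleinFour.mul_self (⟨a, ha⟩ : (V : Subgroup Y)))
  have hord : ∀ a ∈ (V : Subgroup Y), a ≠ 1 → orderOf a = 2 := fun a ha h1 =>
    orderOf_eq_prime (by rw [pow_two, hsq a ha]) h1
  have hemb : ∀ t ∈ (V : Subgroup Y), ∀ r ∈ (V : Subgroup Y), t ≠ 1 → r ≠ 1 → t ≠ r →
      L2.Embedded ι t r ∧ closure ({t, r} : Set Y) = (V : Subgroup Y) := by
    intro t ht r hr ht1 hr1 hne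
    have hmem : ∀ y ∈ (V : Subgroup Y), y = 1 ∨ y = t ∨ y = r ∨ y = t * r := by
      intro y hy
      by_cases h1 : y = 1
      · exact Or.inl h1
      by_cases h2 : y = t
      · exact Or.inr (Or.inl h2)
      by_cases h3 : y = r
      · exact Or.inr (Or.inr (Or.inl h3))
      refine Or.inr (Or.inr (Or.inr ?_))
      exact congrArg Subtype.val (IsKleinFour.eq_mul_of_ne_all (x := (⟨t, ht⟩ : (V : Subgroup Y)))
        (y := ⟨r, hr⟩) (z := ⟨y, hy⟩) (fun e => ht1 (congrArg Subtype.val e))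
        (fun e => hr1 (congrArg Subtype.val e)) (fun e => hne (congrArg Subtype.val e))
        (fun e => h1 (congrArg Subtype.val e)) (fun e => h2 (congrArg Subtype.val e))
        (fun e => h3 (congrArg Subtype.val e)))
    have hcl : closure ({t, r} : Set Y) = (V : Subgroup Y) := by
      refine le_antisymm ((closure_le _).2 (by rintro z (rfl | rfl) <;> assumption)) fun y hy => ?_
      rcases hmem y hy with rfl | rfl | rfl | rfl
      exacts [one_mem _, subset_closure (Set.mem_insert _ _),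
        subset_closure (Set.mem_insert_of_mem _ rfl),
        mul_mem (subset_closure (Set.mem_insert _ _)) (subset_closure (Set.mem_insert_of_mem _ rfl))]
    exact ⟨⟨hinj, hnor, h8, ht1, hr1, hne, hsq t ht, hsq r hr, hcomm t ht r hr,
      fun y hy => hmem y (hcl ▸ hy), hcl.symm ▸ V.isPGroup',
      fun S hS hle => by rw [hcl] at hle ⊢; exact V.is_maximal' hS hle⟩, hcl⟩
  have hother : ∀ t ∈ (V : Subgroup Y), ∃ r ∈ (V : Subgroup Y), r ≠ 1 ∧ r ≠ t := by
    intro t ht
    by_contra hno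
    push Not at hno
    have hsub : ((V : Subgroup Y) : Set Y) ⊆ {1, t} := fun r hr => by
      by_cases h : r = 1
      · exact Or.inl h
      · exact Or.inr (hno r hr h)
    have := Set.ncard_le_ncard hsub (Set.toFinite _)
    rw [← Nat.card_coe_set_eq, SetLike.coe_sort_coe, hV4] at this
    have h2 : ({1, t} : Set Y).ncard ≤ 2 := (Set.ncard_insert_le _ _).trans (by rw [Set.ncard_singleton])
    omega
  set H := normalizer (K : Set Y) with hH
  have hVH : (V : Subgroup Y) ≤ H := fun v hv => by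
    obtain ⟨r, hr, hr1, -⟩ := hother v hv
    exact hKC r hr (hord r hr hr1) (mem_centralizer_singleton_iff.2 (hcomm v hv r hr).eq)
  have hKH : K ≤ H := le_normalizer
  haveI : (K.subgroupOf H).Normal := Subgroup.normal_in_normalizer
  haveI : Group.IsSolvable (K.subgroupOf H) := OddOrderTheorem.solvable_of_card _ _ rfl (by
    rwa [Nat.card_congr (subgroupOfEquivOfLe hKH).toEquiv])
  obtain ⟨p, hp, M, hMn, hM0, hMK, -, hMp, -, -⟩ := Solvable.exists_minimal_normal_pGroup
    (N := K.subgroupOf H) (fun h => hK0 (by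
      rw [subgroupOf_eq_bot, disjoint_iff, inf_eq_left.2 hKH] at h
      exact h))
  set R := M.map H.subtype with hR
  have hRK : R ≤ K := by
    rintro _ ⟨m, hm, rfl⟩
    exact mem_subgroupOf.1 (hMK hm)
  have hRp : IsPGroup p R := hMp.map _
  have hR0 : R ≠ ⊥ := fun h => hM0 ((map_eq_bot_iff_of_injective _ H.subtype_injective).1 h)
  have hRn : ∀ g ∈ H, ∀ a ∈ R, g * a * g⁻¹ ∈ R := by
    rintro g hg _ ⟨m, hm, rfl⟩
    exact ⟨⟨g, hg⟩ * m * ⟨g, hg⟩⁻¹, hMn.conj_mem m hm _, rfl⟩
  have hRodd : Odd (Nat.card R) := hK.of_dvd_nat (card_dvd_of_le hRK)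
  have hodd : ∀ a ∈ R, Odd (orderOf a) := fun a ha => hRodd.of_dvd_nat (orderOf_dvd_natCard _ ha)
  have hp2 : p ≠ 2 := by
    rintro rfl
    haveI : Nontrivial R := (nontrivial_iff_ne_bot R).2 hR0
    obtain ⟨k, hk, hc⟩ := hRp.nontrivial_iff_card.1 inferInstance
    exact Nat.not_even_iff_odd.2 hRodd (hc ▸ (Nat.even_pow.2 ⟨even_two, by omega⟩))
  obtain ⟨n, hn⟩ := L2.exists_torusOrder F h8 h3
  -- nothing in `R` is centralised by one involution and inverted by the others
  have key : ∀ t ∈ (V : Subgroup Y), ∀ r ∈ (V : Subgroup Y), t ≠ 1 → r ≠ 1 → t ≠ r →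
      ∀ a ∈ R, Commute a t → r * a * r⁻¹ = a⁻¹ → a = 1 := by
    intro t ht r hr ht1 hr1 hne a ha hat hai
    set t' := x * t * x⁻¹ with ht'
    have ht'V : t' ∈ (V : Subgroup Y) := (mem_normalizer_iff.1 hxV t).1 ht
    have ht'1 : t' ≠ 1 := fun e => ht1 (conj_eq_one_iff.1 e)
    obtain ⟨E, hcl⟩ := hemb t ht r hr ht1 hr1 hne
    have ht't : t' ≠ t := by
      intro e
      have hxt : Commute x t := mul_inv_eq_iff_eq_mul.1 e
      have hxn : x ∈ normalizer (closure ({t, r} : Set Y) : Set Y) := by rw [hcl]; exact hxV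
      have hxr : Commute x r := E.commute_r_of_fix hxn hxt
      refine hx (mem_centralizer_iff.2 fun v hv => ?_)
      rcases E.mem v (hcl.symm ▸ hv) with rfl | rfl | rfl | rfl
      exacts [(Commute.one_left x).eq, hxt.eq.symm, hxr.eq.symm, (hxt.mul_right hxr).eq.symm]
    -- every other involution inverts `a`
    have hinv : ∀ v ∈ (V : Subgroup Y), v ≠ 1 → v ≠ t → v * a * v⁻¹ = a⁻¹ := by
      intro v hv hv1 hvt
      rcases E.mem v (hcl.symm ▸ hv) with e | e | e | e
      · exact absurd e hv1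
      · exact absurd e hvt
      · rw [e]; exact hai
      · rw [e, show t * r * a * (t * r)⁻¹ = t * (r * a * r⁻¹) * t⁻¹ by group, hai]
        rw [(hat.inv_left.symm).eq, mul_inv_cancel_right]
    have hb : x * a * x⁻¹ ∈ R := hRn x hxK a ha
    have hbi : t * (x * a * x⁻¹) * t⁻¹ = (x * a * x⁻¹)⁻¹ := by
      have hv : x⁻¹ * t * x ∈ (V : Subgroup Y) := by
        have := (mem_normalizer_iff.1 (inv_mem hxV) t).1 ht
        rwa [inv_inv] at this
      have h := hinv _ hv (fun e => ht1 (by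
          rw [show t = x * (x⁻¹ * t * x) * x⁻¹ by group, e, mul_one, mul_inv_cancel]))
        (fun e => ht't (by
          calc t' = x * (x⁻¹ * t * x) * x⁻¹ := by rw [e]
            _ = t := by group))
      rw [show t * (x * a * x⁻¹) * t⁻¹ = x * (x⁻¹ * t * x * a * (x⁻¹ * t * x)⁻¹) * x⁻¹ by group, h]
      group
    rcases E.eq_one_of_pgroup hn hp hp2 hRp ha hb hat hai hbi with h | h
    · exact h
    · exact conj_eq_one_iff.1 h
  -- so the four-group centralises `R`
  have hRV : R ≤ centralizer ((V : Subgroup Y) : Set Y) := by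
    haveI : IsMulCommutative (V : Subgroup Y) :=
      ⟨⟨fun a b => Subtype.ext (hcomm a.1 a.2 b.1 b.2).eq⟩⟩
    refine Coprime.le_of_noncyclic (A := (V : Subgroup Y)) IsKleinFour.not_isCyclic
      (fun v hv => Coprime.mem_normalizer_of_forall fun a ha => hRn v (hVH hv) a ha)
      (by rw [hV4, show (4 : ℕ) = 2 ^ 2 from rfl]; exact (Nat.coprime_two_left.2 hRodd).pow_left 2) ?_
    rintro t ht ht1 a ⟨haR, hat⟩
    have hat' : Commute a t := mem_centralizer_singleton_iff.1 hat
    refine mem_centralizer_iff.2 fun r hr => ?_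
    by_cases hr1 : r = 1
    · rw [hr1, one_mul, mul_one]
    by_cases hrt : r = t
    · rw [hrt]; exact hat'.eq.symm
    have hrr := hsq r hr
    have hri : r⁻¹ = r := inv_eq_of_mul_eq_one_right hrr
    have hrt' : Commute r t := hcomm r hr t ht
    have h1 := key t ht r hr ht1 hr1 (Ne.symm hrt) (a⁻¹ * (r * a * r⁻¹))
      (mul_mem (inv_mem haR) (hRn r (hVH hr) a haR))
      (hat'.inv_left.mul_left ((hrt'.mul_left hat').mul_left hrt'.inv_left))
      (by
        calc r * (a⁻¹ * (r * a * r⁻¹)) * r⁻¹ = (r * a⁻¹ * r) * a * (r * r)⁻¹ := by group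
          _ = (r * a⁻¹ * r⁻¹) * a := by rw [hrr, inv_one, mul_one, hri]
          _ = (a⁻¹ * (r * a * r⁻¹))⁻¹ := by group)
    exact mul_inv_eq_iff_eq_mul.1 (inv_mul_eq_one.1 h1).symm
  obtain ⟨t, ht, ht1, -⟩ := hother 1 (one_mem _)
  obtain ⟨r, hr, hr1, hrt⟩ := hother t ht
  obtain ⟨E, hcl⟩ := hemb t ht r hr ht1 hr1 (Ne.symm hrt)
  -- `R` meets the normal `PSL(2,q)` trivially
  have hRL : ∀ a ∈ R, a ∈ ι.range → a = 1 := by
    intro a ha haL
    have h1 : a ∈ ι.range ⊓ centralizer ({t, r} : Set Y) := by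
      refine ⟨haL, mem_centralizer_iff.2 ?_⟩
      rintro v (rfl | rfl)
      exacts [mem_centralizer_iff.1 (hRV ha) v ht, mem_centralizer_iff.1 (hRV ha) v hr]
    rw [E.range_inf_cent, hcl] at h1
    exact eq_one_of_two_odd (k := 1) (by rw [pow_one, pow_two, hsq a h1]) (hodd a ha)
  obtain ⟨a, haR, ha1⟩ : ∃ a ∈ R, a ≠ 1 := by
    obtain ⟨⟨a, ha⟩, ha1⟩ := (ne_bot_iff_exists_ne_one.1 hR0)
    exact ⟨a, ha, fun e => ha1 (Subtype.ext e)⟩
  have hfix : ∀ z, ι z ∈ H → Commute a (ι z) := by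
    intro z hz
    have h1 : ι z * a * (ι z)⁻¹ * a⁻¹ ∈ R := mul_mem (hRn _ hz a haR) (inv_mem haR)
    have h2 : ι z * a * (ι z)⁻¹ * a⁻¹ ∈ ι.range := by
      rw [show ι z * a * (ι z)⁻¹ * a⁻¹ = ι z * (a * (ι z)⁻¹ * a⁻¹) by group]
      exact mul_mem ⟨z, rfl⟩ (hnor.conj_mem _ (inv_mem ⟨z, rfl⟩) a)
    have h3 := hRL _ h1 h2
    rw [mul_inv_eq_one, mul_inv_eq_iff_eq_mul] at h3
    exact h3.symm
  have hfin : ∀ z, (∀ w, Commute (z * a) (ι w)) → z * a = 1 := by
    intro z hz
    have : z * a ∈ centralizer (ι.range : Set Y) := mem_centralizer_iff.2 (by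
      rintro _ ⟨w, rfl⟩
      exact (hz w).eq.symm)
    rwa [hcen, mem_bot] at this
  obtain ⟨u, v, hu, hv, hu2, hv2⟩ := E.exists_preimages
  rcases Nat.lt_or_ge n 3 with hn3 | hn3
  · -- `q = 5`
    have hq : (Nat.card F).Prime := by
      obtain ⟨j, hj⟩ := hn.odd
      have := hn.three
      have h5 : Nat.card F = 5 := by rcases hn.eq with h | h <;> omega
      rw [h5]; exact Nat.prime_five
    obtain ⟨P, hP⟩ := E.exists_sylow
    haveI := hnor
    let eL := MonoidHom.ofInjective hinj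
    let α : MulAut (PSL2.PSL2 F) := eL.trans ((MulAut.conjNormal a : MulAut ι.range).trans eL.symm)
    have hα : ∀ z, ι (α z) = a * ι z * a⁻¹ := by
      intro z
      have h1 : eL (α z) = (MulAut.conjNormal a : MulAut ι.range) (eL z) := eL.apply_symm_apply _
      have h2 := congrArg Subtype.val h1
      rw [MulAut.conjNormal_apply] at h2
      exact h2
    obtain ⟨w, hw, hαw⟩ := PSL2.aut_fixing_klein E.odd_q h8 (V := (P : Subgroup (PSL2.PSL2 F)))
      (E.klein P) (α := α) (Or.inr hq) fun z hz => hinj (by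
        rw [hP, mem_comap, hcl] at hz
        rw [hα, (hfix z (hVH hz)).eq, mul_inv_cancel_right])
    have h1 := hfin (ι w)⁻¹ fun z => by
      have h2 : a * ι z * a⁻¹ = ι w * ι z * (ι w)⁻¹ := by
        rw [← hα, hαw, MulAut.conj_apply, map_mul, map_mul, map_inv]
      show (ι w)⁻¹ * a * ι z = ι z * ((ι w)⁻¹ * a)
      calc (ι w)⁻¹ * a * ι z = (ι w)⁻¹ * (a * ι z * a⁻¹) * a := by group
        _ = ι z * ((ι w)⁻¹ * a) := by rw [h2]; group
    exact ha1 (hRL a haR ⟨w, (inv_mul_eq_one.1 h1)⟩)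
  · let D := (centralizer ({a} : Set Y)).comap ι
    have hDle : ∀ s z : PSL2.PSL2 F, ι s ∈ (V : Subgroup Y) → orderOf s = 2 → Commute z s → z ∈ D := by
      intro s z hs hs2 hz
      refine mem_comap.2 (mem_centralizer_singleton_iff.2 (hfix z ?_).eq.symm)
      exact hKC _ hs ((orderOf_injective ι hinj s).trans hs2)
        (mem_centralizer_singleton_iff.2 (hz.map ι).eq)
    have hCu : centralizer ({u} : Set (PSL2.PSL2 F)) ≤ D := fun z hz =>
      hDle u z (hu ▸ ht) hu2 (mem_centralizer_singleton_iff.1 hz)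
    have hCv : centralizer ({v} : Set (PSL2.PSL2 F)) ≤ D := fun z hz =>
      hDle v z (hv ▸ hr) hv2 (mem_centralizer_singleton_iff.1 hz)
    have hD : D = ⊤ := by
      rcases eq_or_lt_of_le hCu with h | h
      · exfalso
        rw [← h] at hCv
        have he := eq_of_le_of_card_ge hCv (by rw [hn.card_centralizer hu2, hn.card_centralizer hv2])
        obtain ⟨y, hy, hyu, -⟩ := hn.exists_torus hu2
        have hyC : y ∈ centralizer ({u} : Set (PSL2.PSL2 F)) :=
          mem_centralizer_singleton_iff.2 (hyu ▸ (Commute.refl y).pow_right n).eq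
        have hyt : Commute (ι y) t := hu ▸ Commute.map (mem_centralizer_singleton_iff.1 hyC) ι
        have hyr : Commute (ι y) r := hv ▸ Commute.map (mem_centralizer_singleton_iff.1 (he.symm ▸ hyC)) ι
        have h4 := E.eq_four hyt hyr
        rw [hcl] at h4
        have h5 : y ^ 2 = 1 := hinj (by rw [map_pow, pow_two, hsq _ h4, map_one])
        have := Nat.le_of_dvd two_pos (orderOf_dvd_of_pow_eq_one h5)
        omega
      · exact (isCoatom_centralizer hn hn3 h8 hu2).2 _ h
    have h1 := hfin 1 fun z => by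
      rw [one_mul]
      have : z ∈ D := hD ▸ mem_top z
      exact (mem_centralizer_singleton_iff.1 (mem_comap.1 this) : Commute (ι z) a).symm
    rw [one_mul] at h1
    exact ha1 h1

/-- A subgroup of odd order normalised by the involution centralisers of a Sylow four-group and by an element
acting nontrivially on it is trivial. -/
theorem odd_eq_bot (hO : Cfsg.oddCore Y = ⊥) (V : Sylow 2 Y) [IsKleinFour (V : Subgroup Y)]
    (hC : ∀ v : Y, orderOf v = 2 → Group.IsSolvable (centralizer ({v} : Set Y))) (K : Subgroup Y)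
    (hK : Odd (Nat.card K))
    (hKC : ∀ v ∈ V, orderOf v = 2 → centralizer ({v} : Set Y) ≤ normalizer (K : Set Y)) (x : Y)
    (hxV : x ∈ normalizer ((V : Subgroup Y) : Set Y)) (hxK : x ∈ normalizer (K : Set Y))
    (hx : x ∉ centralizer ((V : Subgroup Y) : Set Y)) : K = ⊥ := by
  haveI : Fact (Nat.Prime 2) := ⟨Nat.prime_two⟩
  have hV4 : Nat.card (V : Subgroup Y) = 4 := IsKleinFour.card_four
  have hVc : IsMulCommutative (V : Subgroup Y) :=
    ⟨⟨fun a b => mul_comm_of_exponent_two IsKleinFour.exponent_two a b⟩⟩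
  haveI := hVc
  have hdis : ∀ a ∈ K, a ∈ (V : Subgroup Y) → a = 1 := fun a ha hav =>
    eq_one_of_two_odd (k := 1) (by
      rw [pow_one, pow_two]
      exact congrArg Subtype.val (IsKleinFour.mul_self (⟨a, hav⟩ : (V : Subgroup Y))))
      (hK.of_dvd_nat (orderOf_dvd_natCard _ ha))
  rcases AbelianSylowTwo.solvable_or_psl GWKlein.kleinGWSolvable V hVc hC with hs | ⟨F, iF, iFF, hF, N, hNn, ⟨eN⟩, hNc⟩
  · haveI := hs
    have hQV : Cfsg.pCore 2 Y ≤ (V : Subgroup Y) := Cores.pCore_le_sylow V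
    have hcQ := Solvable.centralizer_pCore_le_of_isSolvable (p := 2) (G := Y) hO
    have hVQ : (V : Subgroup Y) ≤ Cfsg.pCore 2 Y := fun v hv => hcQ (mem_centralizer_iff.2 fun q hq =>
      congrArg Subtype.val (mul_comm' (⟨q, hQV hq⟩ : (V : Subgroup Y)) ⟨v, hv⟩))
    have hVn : (V : Subgroup Y).Normal := le_antisymm hVQ hQV ▸ Cores.pCore_normal 2 Y
    refine (eq_bot_iff_forall K).2 fun k hk => hdis k hk (hQV (hcQ (mem_centralizer_iff.2 fun q hq => ?_)))
    have hqV := hQV hq
    by_cases hq1 : q = 1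
    · rw [hq1, one_mul, mul_one]
    have hq2 : orderOf q = 2 := orderOf_eq_prime (by
      rw [pow_two]
      exact congrArg Subtype.val (IsKleinFour.mul_self (⟨q, hqV⟩ : (V : Subgroup Y)))) hq1
    have hqK : q ∈ normalizer (K : Set Y) := hKC q hqV hq2 (mem_centralizer_singleton_iff.2 rfl)
    have h1 : q * k * q⁻¹ * k⁻¹ ∈ K := mul_mem ((mem_normalizer_iff.1 hqK k).1 hk) (inv_mem hk)
    have h2 : q * k * q⁻¹ * k⁻¹ ∈ (V : Subgroup Y) := by
      rw [show q * k * q⁻¹ * k⁻¹ = q * (k * q⁻¹ * k⁻¹) by group]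
      exact mul_mem hqV (hVn.conj_mem _ (inv_mem hqV) k)
    have h3 := hdis _ h1 h2
    rw [mul_inv_eq_one, mul_inv_eq_iff_eq_mul] at h3
    exact h3
  · haveI : (Cfsg.oddCore Y).Normal := Cores.pPrimeCore_normal 2 Y
    let π := QuotientGroup.mk' (Cfsg.oddCore Y)
    have hπ : Function.Bijective π :=
      ⟨(MonoidHom.ker_eq_bot_iff π).1 ((QuotientGroup.ker_mk' _).trans hO), QuotientGroup.mk'_surjective _⟩
    let e : Y ≃* Y ⧸ Cfsg.oddCore Y := MulEquiv.ofBijective π hπ
    let ι : Matrix.ProjectiveSpecialLinearGroup (Fin 2) F →* Y :=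
      (e.symm.toMonoidHom.comp N.subtype).comp eN.symm.toMonoidHom
    have hinj : Function.Injective ι := (e.symm.injective.comp N.subtype_injective).comp eN.symm.injective
    have hrange : ι.range = N.comap e.toMonoidHom := by
      ext y
      constructor
      · rintro ⟨z, rfl⟩
        show e (e.symm _) ∈ N
        rw [MulEquiv.apply_symm_apply]
        exact (eN.symm z).2
      · intro hy
        exact ⟨eN ⟨e y, hy⟩, show e.symm (eN.symm (eN ⟨e y, hy⟩) : Y ⧸ Cfsg.oddCore Y) = y by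
          rw [MulEquiv.symm_apply_apply]; exact e.symm_apply_apply y⟩
    haveI := hNn
    have hnor : ι.range.Normal := hrange ▸ inferInstance
    have hcen : centralizer (ι.range : Set Y) = ⊥ := by
      refine (eq_bot_iff_forall _).2 fun c hc => e.map_eq_one_iff.1 ?_
      have h1 : e c ∈ centralizer (N : Set (Y ⧸ Cfsg.oddCore Y)) := mem_centralizer_iff.2 fun w hw => by
        have h2 : e.symm w ∈ ι.range := by
          rw [hrange]
          show e (e.symm w) ∈ N
          rw [MulEquiv.apply_symm_apply]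
          exact hw
        have := congrArg e (mem_centralizer_iff.1 hc _ h2)
        rwa [map_mul, map_mul, MulEquiv.apply_symm_apply] at this
      rwa [hNc, mem_bot] at h1
    rcases hF with ⟨h8, h5⟩ | ⟨m, hm, hFm⟩
    · rw [← Nat.card_eq_fintype_card] at h8 h5
      exact odd_eq_bot_psl V K hK hKC x hxV hxK hx h8 (by omega) ι hinj hnor hcen
    · rw [← Nat.card_eq_fintype_card] at hFm
      have hm2 : m = 2 := by
        by_contra hne
        have hd : Nat.card (PSL2.PSL2 F) ∣ Nat.card Y := card_dvd_of_injective ι hinj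
        have hc := PSL2.card_psl_mul (F := F)
        rw [hFm, Nat.Coprime.gcd_eq_one (Nat.coprime_two_left.2 (Nat.odd_iff.2 (by
          have := dvd_pow_self 2 (show m ≠ 0 by omega)
          have := Nat.one_le_pow m 2 two_pos
          omega))), one_mul] at hc
        have h8 : 2 ^ 3 ∣ Nat.card Y :=
          (pow_dvd_pow 2 (show 3 ≤ m by omega)).trans ((Dvd.intro _ hc.symm).trans hd)
        rw [← (V : Subgroup Y).card_mul_index, hV4, show (2 : ℕ) ^ 3 = 4 * 2 from rfl] at h8
        exact V.not_dvd_index (Nat.dvd_of_mul_dvd_mul_left (by norm_num) h8)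
      obtain ⟨e4⟩ := PSL2.mulEquiv_alternatingFive_of_four (F := F) (by rw [hFm, hm2]; rfl)
      haveI : Fact (Nat.Prime 5) := ⟨Nat.prime_five⟩
      obtain ⟨e5⟩ := SubThree.psl_five
      let f := e5.trans e4.symm
      have hfr : (ι.comp f.toMonoidHom).range = ι.range := by
        rw [MonoidHom.range_comp, MonoidHom.range_eq_top.2 f.surjective, ← MonoidHom.range_eq_map]
      exact odd_eq_bot_psl V K hK hKC x hxV hxK hx (F := ZMod 5) (by rw [Nat.card_zmod]; norm_num)
        (by rw [Nat.card_zmod]; norm_num) (ι.comp f.toMonoidHom) (hinj.comp f.injective)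
        (hfr ▸ hnor) (hfr ▸ hcen)

end Cfsg.Agent.AltEightType
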