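/-
A central involution `t` and an involution `b` of a Sylow 2-subgroup whose conjugates there are `b` and `bt`.

* `pair_core` : the stabiliser of the pair `{b, bt}` covers the group modulo the odd core
* `solvable_of_pair` : the group is soluble when the centraliser of `b` is
-/
import Cfsg.Agent.Lib.ZStar.Apply
import Cfsg.Agent.Lib.ZStar.Unique
import Cfsg.Agent.Lib.OddOrderTheorem.Basic
import Cfsg.Prelude.Def_CaseTheorems

set_option autoImplicit false
set_option linter.style.haveILetI false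

namespace Cfsg.Agent.AltEightType

open Subgroup Cfsg

universe u

variable {M : Type u} [Group M]

/-- An involution `o * c` with `o` of odd order is conjugate to the involution `c` by a power of `o`. -/
theorem exists_conj_of_odd {o c : M} (ho : Odd (orderOf o)) (hc : c * c = 1) (h : o * c * (o * c) = 1) :
    ∃ m ∈ zpowers o, m * c * m⁻¹ = o * c := by
  obtain ⟨k, hk⟩ := ho
  have h1 : SemiconjBy c o o⁻¹ := by
    show c * o = o⁻¹ * c
    calc c * o = o⁻¹ * (o * c * (o * c)) * c⁻¹ := by group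
      _ = o⁻¹ * c⁻¹ := by rw [h, mul_one]
      _ = o⁻¹ * c := by rw [inv_eq_of_mul_eq_one_right hc]
  have h2 : c * o ^ (k + 1) = (o ^ (k + 1))⁻¹ * c := by
    rw [← inv_pow]; exact h1.pow_right (k + 1)
  have h3 : o ^ (k + 1) * c * (o ^ (k + 1))⁻¹ = o ^ (k + 1) * o ^ (k + 1) * c := by
    calc o ^ (k + 1) * c * (o ^ (k + 1))⁻¹
        = o ^ (k + 1) * o ^ (k + 1) * ((o ^ (k + 1))⁻¹ * c) * (o ^ (k + 1))⁻¹ := by group
      _ = o ^ (k + 1) * o ^ (k + 1) * (c * o ^ (k + 1)) * (o ^ (k + 1))⁻¹ := by rw [h2]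
      _ = o ^ (k + 1) * o ^ (k + 1) * c := by group
  refine ⟨o ^ (k + 1), pow_mem (mem_zpowers o) _, ?_⟩
  rw [h3, ← pow_add, show k + 1 + (k + 1) = orderOf o + 1 by omega, pow_succ, pow_orderOf_eq_one, one_mul]

theorem odd_card_oddCore [Finite M] : Odd (Nat.card (oddCore M)) :=
  Nat.coprime_two_right.1 (Cores.coprime_card_pPrimeCore 2)

/-- The stabiliser of the pair `{b, bt}`. -/
def pairStab (t b : M) (ht : t ∈ center M) (ht2 : t * t = 1) : Subgroup M where
  carrier := {n | n * b * n⁻¹ = b ∨ n * b * n⁻¹ = b * t}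
  one_mem' := Or.inl (by group)
  mul_mem' := by
    intro x y hx hy
    have e : x * y * b * (x * y)⁻¹ = x * (y * b * y⁻¹) * x⁻¹ := by group
    have e' : x * (b * t) * x⁻¹ = x * b * x⁻¹ * t := by
      rw [← mul_assoc, mul_assoc (x * b) t, ← (mem_center_iff.1 ht x⁻¹)]; group
    show x * y * b * (x * y)⁻¹ = b ∨ x * y * b * (x * y)⁻¹ = b * t
    rw [e]
    rcases hy with hy | hy <;> rw [hy]
    · exact hx
    · rw [e']
      rcases hx with hx | hx <;> rw [hx]
      · exact Or.inr rfl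
      · left; rw [mul_assoc, ht2, mul_one]
  inv_mem' := by
    intro x hx
    show x⁻¹ * b * x⁻¹⁻¹ = b ∨ x⁻¹ * b * x⁻¹⁻¹ = b * t
    rcases hx with hx | hx
    · left
      calc x⁻¹ * b * x⁻¹⁻¹ = x⁻¹ * (x * b * x⁻¹) * x⁻¹⁻¹ := by rw [hx]
        _ = b := by group
    · right
      calc x⁻¹ * b * x⁻¹⁻¹ = x⁻¹ * (b * (t * t)) * x⁻¹⁻¹ := by rw [ht2, mul_one]
        _ = x⁻¹ * (x * b * x⁻¹ * t) * x⁻¹⁻¹ := by rw [hx, mul_assoc b t t]
        _ = b * x⁻¹ * (t * x) := by group
        _ = b * x⁻¹ * (x * t) := by rw [mem_center_iff.1 ht x]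
        _ = b * t := by group

theorem mem_pairStab {t b : M} {ht : t ∈ center M} {ht2 : t * t = 1} {n : M} :
    n ∈ pairStab t b ht ht2 ↔ (n * b * n⁻¹ = b ∨ n * b * n⁻¹ = b * t) := Iff.rfl

/-- `Z*` in `M / ⟨t⟩` and the Frattini argument. -/
theorem pair_core [Finite M] (P : Sylow 2 M) {t b : M} (ht : t ∈ center M) (ht2 : orderOf t = 2)
    (hb2 : orderOf b = 2) (hbt : b ≠ t) (hbP : b ∈ P)
    (hiso : ∀ g : M, g * b * g⁻¹ ∈ P → g * b * g⁻¹ = b ∨ g * b * g⁻¹ = b * t) :
    ∀ g : M, ∃ o ∈ oddCore M, ∃ n : M, g = o * n ∧ (n * b * n⁻¹ = b ∨ n * b * n⁻¹ = b * t) := by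
  haveI : Fact (Nat.Prime 2) := ⟨Nat.prime_two⟩
  set N : Subgroup M := oddCore M with hN
  haveI : N.Normal := Cores.pPrimeCore_normal 2 M
  have hodd : ∀ o ∈ N, Odd (orderOf o) := fun o ho =>
    odd_card_oddCore.of_dvd_nat (orderOf_dvd_natCard _ ho)
  have hcop : ∀ x : M, x ∈ N → x * x = 1 → x = 1 := fun x hx h =>
    ZStar.eq_one_of_odd_of_sq (hodd x hx) (by rw [pow_two, h])
  have hbb : b * b = 1 := Involution.mul_self hb2
  have htt : t * t = 1 := Involution.mul_self ht2
  have htb : t * b = b * t := (mem_center_iff.1 ht b).symm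
  have hbt2 : b * t * (b * t) = 1 := by
    rw [mul_assoc, ← mul_assoc t b t, htb, mul_assoc b t t, htt, mul_one, hbb]
  let f := QuotientGroup.mk' N
  have hf : Function.Surjective f := QuotientGroup.mk'_surjective N
  have hft : f t ∈ center (M ⧸ N) := mem_center_iff.2 fun y => by
    obtain ⟨y, rfl⟩ := hf y
    rw [← map_mul, ← map_mul, mem_center_iff.1 ht y]
  have hfne : ∀ x : M, x * x = 1 → x ≠ 1 → f x ≠ 1 := fun x h h1 he =>
    h1 (hcop x ((QuotientGroup.eq_one_iff x).1 he) h)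
  have hft2 : orderOf (f t) = 2 :=
    Involution.orderOf_of_sq (by rw [← map_mul, htt, map_one]) (hfne t htt (Involution.ne_one ht2))
  set W := zpowers (f t) with hW
  haveI : W.Normal := ⟨fun m hm g => by
    rwa [mem_center_iff.1 ((zpowers_le.2 hft) hm) g, mul_inv_cancel_right]⟩
  have hWmem : ∀ y ∈ W, y = 1 ∨ y = f t := by
    intro y hy
    obtain ⟨k, rfl⟩ := mem_zpowers_iff.1 hy
    rcases Int.even_or_odd k with ⟨l, hl⟩ | ⟨l, hl⟩
    · left; rw [hl, ← two_mul, zpow_mul, zpow_two, Involution.mul_self hft2, one_zpow]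
    · right; rw [hl, zpow_add_one, zpow_mul, zpow_two, Involution.mul_self hft2, one_zpow, one_mul]
  let q : M →* (M ⧸ N) ⧸ W := (QuotientGroup.mk' W).comp f
  have hq : Function.Surjective q := (QuotientGroup.mk'_surjective W).comp hf
  -- elements with the same image differ by `1` or `t` modulo `N`
  have hqeq : ∀ x y : M, q x = q y → (∃ o ∈ N, x = o * y) ∨ ∃ o ∈ N, x = o * (y * t) := by
    intro x y he
    have hm : f (x * y⁻¹) ∈ W := by
      refine (QuotientGroup.eq_one_iff _).1 ?_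
      show q (x * y⁻¹) = 1
      rw [map_mul, he, map_inv, mul_inv_cancel]
    rcases hWmem _ hm with h | h
    · exact Or.inl ⟨x * y⁻¹, (QuotientGroup.eq_one_iff _).1 h, by group⟩
    · refine Or.inr ⟨x * y⁻¹ * t, (QuotientGroup.eq_one_iff _).1 ?_, ?_⟩
      · show f (x * y⁻¹ * t) = 1
        rw [map_mul, h, Involution.mul_self hft2]
      · rw [mul_assoc (x * y⁻¹), ← mul_assoc t y t, show t * y = y * t from (mem_center_iff.1 ht y).symm,
          mul_assoc y t t, htt, mul_one]
        group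
  have hqb : q b ≠ 1 := by
    intro he
    rcases hqeq b 1 (by rw [he, map_one]) with ⟨o, ho, h⟩ | ⟨o, ho, h⟩
    · rw [mul_one] at h
      exact Involution.ne_one hb2 (hcop b (h ▸ ho) hbb)
    · rw [one_mul] at h
      have h1 : b * t ∈ N := by rw [h, mul_assoc, htt, mul_one]; exact ho
      exact hbt (by rw [← inv_eq_of_mul_eq_one_left (hcop _ h1 hbt2), Involution.inv_eq ht2])
  have hisoQ : IsIsolatedInvolution (q b) := by
    refine ZStar.isolated_of_sylow (P.mapSurjective hq)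
      (Involution.orderOf_of_sq (by rw [← map_mul, hbb, map_one]) hqb) ⟨b, hbP, rfl⟩ fun y hy => ?_
    obtain ⟨g, rfl⟩ := hq y
    rw [← map_inv, ← map_mul, ← map_mul] at hy ⊢
    obtain ⟨p₀, hp₀, hpq⟩ := hy
    have hxx : g * b * g⁻¹ * (g * b * g⁻¹) = 1 := by
      rw [show g * b * g⁻¹ * (g * b * g⁻¹) = g * (b * b) * g⁻¹ by group, hbb, mul_one, mul_inv_cancel]
    -- the representative in `P`
    obtain ⟨o, ho, p, hp, hx⟩ : ∃ o ∈ N, ∃ p ∈ P, g * b * g⁻¹ = o * p := by
      rcases hqeq _ _ hpq.symm with ⟨o, ho, h⟩ | ⟨o, ho, h⟩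
      · exact ⟨o, ho, p₀, hp₀, h⟩
      · refine ⟨o, ho, p₀ * t, (P : Subgroup M).mul_mem hp₀ ?_, h⟩
        haveI : (zpowers t).Normal := ⟨fun m hm g => by
          rwa [mem_center_iff.1 ((zpowers_le.2 ht) hm) g, mul_inv_cancel_right]⟩
        exact ((IsPGroup.of_card (p := 2) (n := 1) (by rw [Nat.card_zpowers, ht2, pow_one])).le_sylow_of_normal
          P) (mem_zpowers t)
    have hpp : p * p = 1 := by
      have h1 : p * p ∈ N := by
        refine (QuotientGroup.eq_one_iff _).1 ?_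
        show f (p * p) = 1
        have h2 := congrArg f hxx
        rw [hx, map_mul f (o * p) (o * p), map_mul f o p, show f o = 1 from (QuotientGroup.eq_one_iff o).2 ho,
          one_mul, map_one, ← map_mul] at h2
        exact h2
      obtain ⟨k, hk⟩ := IsPGroup.iff_orderOf.1 P.isPGroup' ⟨p * p, (P : Subgroup M).mul_mem hp hp⟩
      rw [← Subgroup.orderOf_coe] at hk
      have h3 : (orderOf (p * p)).Coprime (2 ^ k) := (Nat.coprime_two_right.2 (hodd _ h1)).pow_right k
      rw [← hk, Nat.coprime_self] at h3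
      exact orderOf_eq_one_iff.1 h3
    obtain ⟨m, -, hm⟩ := exists_conj_of_odd (hodd o ho) hpp (hx ▸ hxx)
    have hm2 : m⁻¹ * g * b * (m⁻¹ * g)⁻¹ = p := by
      rw [show m⁻¹ * g * b * (m⁻¹ * g)⁻¹ = m⁻¹ * (g * b * g⁻¹) * m by group, hx, ← hm]
      group
    have hqt : q t = 1 := (QuotientGroup.eq_one_iff _).2 (mem_zpowers (f t))
    have hqo : q o = 1 := by
      show QuotientGroup.mk' W (f o) = 1
      rw [show f o = 1 from (QuotientGroup.eq_one_iff o).2 ho, map_one]
    rw [hx, map_mul, hqo, one_mul]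
    rcases hiso (m⁻¹ * g) (by rw [hm2]; exact hp) with h | h <;> rw [hm2] at h <;> rw [h]
    rw [map_mul, hqt, mul_one]
  intro g
  have hz : q g * q b * (q g)⁻¹ = q b := by
    have hO1 : pPrimeCore 2 ((M ⧸ N) ⧸ W) = ⊥ :=
      ZStar.core_quotient_central (Cores.pPrimeCore_quotient_self (p := 2)) hft hft2
    have h := mem_center_iff.1 (ZStar.isolated_mem_center ZStar.uniqueInvolution hisoQ hO1) (q g)
    rw [h, mul_inv_cancel_right]
  rw [← map_inv, ← map_mul, ← map_mul] at hz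
  obtain ⟨o, ho, c, hc, hx⟩ : ∃ o ∈ N, ∃ c, (c = b ∨ c = b * t) ∧ g * b * g⁻¹ = o * c := by
    rcases hqeq _ _ hz with ⟨o, ho, h⟩ | ⟨o, ho, h⟩
    · exact ⟨o, ho, b, Or.inl rfl, h⟩
    · exact ⟨o, ho, b * t, Or.inr rfl, h⟩
  have hcc : c * c = 1 := by rcases hc with rfl | rfl; exacts [hbb, hbt2]
  obtain ⟨m, hm, hme⟩ := exists_conj_of_odd (hodd o ho) hcc (by
    rw [← hx, show g * b * g⁻¹ * (g * b * g⁻¹) = g * (b * b) * g⁻¹ by group, hbb, mul_one, mul_inv_cancel])
  have hm2 : m⁻¹ * g * b * (m⁻¹ * g)⁻¹ = c := by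
    rw [show m⁻¹ * g * b * (m⁻¹ * g)⁻¹ = m⁻¹ * (g * b * g⁻¹) * m by group, hx, ← hme]
    group
  exact ⟨m, zpowers_le.2 ho hm, m⁻¹ * g, by group, by rw [hm2]; exact hc⟩

/-- The group is soluble when the centraliser of `b` is. -/
theorem solvable_of_pair [Finite M] (P : Sylow 2 M) {t b : M} (ht : t ∈ center M) (ht2 : orderOf t = 2)
    (hb2 : orderOf b = 2) (hbt : b ≠ t) (hbP : b ∈ P)
    (hiso : ∀ g : M, g * b * g⁻¹ ∈ P → g * b * g⁻¹ = b ∨ g * b * g⁻¹ = b * t)
    (hC : Group.IsSolvable (centralizer ({b} : Set M))) : Group.IsSolvable M := by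
  set N : Subgroup M := oddCore M with hN
  haveI : N.Normal := Cores.pPrimeCore_normal 2 M
  haveI : Group.IsSolvable N := OddOrderTheorem.solvable_of_card _ N rfl odd_card_oddCore
  have htt : t * t = 1 := Involution.mul_self ht2
  set S := pairStab t b ht htt with hS
  let φ : S →* M :=
    { toFun := fun n => b⁻¹ * ((n : M) * b * (n : M)⁻¹)
      map_one' := by simp
      map_mul' := fun x y => by
        show b⁻¹ * ((x : M) * (y : M) * b * ((x : M) * (y : M))⁻¹)
          = b⁻¹ * ((x : M) * b * (x : M)⁻¹) * (b⁻¹ * ((y : M) * b * (y : M)⁻¹))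
        have e : (x : M) * (y : M) * b * ((x : M) * (y : M))⁻¹
            = (x : M) * ((y : M) * b * (y : M)⁻¹) * (x : M)⁻¹ := by group
        rw [e]
        rcases mem_pairStab.1 y.2 with h | h <;> rw [h]
        · rw [inv_mul_cancel, mul_one]
        · rw [inv_mul_cancel_left, ← mul_assoc (x : M) b t, mul_assoc ((x : M) * b) t,
            ← mem_center_iff.1 ht (x : M)⁻¹]
          group }
  haveI hker : Group.IsSolvable φ.ker := by
    haveI := hC
    let ι : φ.ker →* centralizer ({b} : Set M) :=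
      (S.subtype.comp φ.ker.subtype).codRestrict _ fun n => mem_centralizer_singleton_iff.2 (by
        have h : b⁻¹ * ((n : S) * b * ((n : S) : M)⁻¹) = 1 := n.2
        exact mul_inv_eq_iff_eq_mul.1 (inv_mul_eq_one.1 h).symm)
    exact Group.isSolvable_of_isSolvable_injective (f := ι) fun x y h =>
      Subtype.ext (Subtype.ext (congrArg Subtype.val h :))
  haveI hrange : Group.IsSolvable φ.range := by
    have hle : φ.range ≤ zpowers t := by
      rintro _ ⟨n, rfl⟩
      show b⁻¹ * ((n : M) * b * (n : M)⁻¹) ∈ zpowers t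
      rcases mem_pairStab.1 n.2 with h | h <;> rw [h]
      · rw [inv_mul_cancel]; exact one_mem _
      · rw [inv_mul_cancel_left]; exact mem_zpowers t
    exact Group.isSolvable_of_comm fun x y =>
      Subtype.ext (show (x : M) * (y : M) = (y : M) * (x : M) from
        congrArg Subtype.val (mul_comm' (⟨(x : M), hle x.2⟩ : zpowers t) ⟨(y : M), hle y.2⟩))
  haveI hSsol : Group.IsSolvable S :=
    Group.isSolvable_of_ker_le_range φ.ker.subtype φ.rangeRestrict (by rw [MonoidHom.ker_rangeRestrict, range_subtype])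
  let π : S →* M ⧸ N := (QuotientGroup.mk' N).comp S.subtype
  have hπ : Function.Surjective π := by
    intro y
    obtain ⟨g, rfl⟩ := QuotientGroup.mk'_surjective N y
    obtain ⟨o, ho, n, rfl, hn⟩ := pair_core P ht ht2 hb2 hbt hbP hiso g
    refine ⟨⟨n, hn⟩, ?_⟩
    show QuotientGroup.mk' N n = QuotientGroup.mk' N (o * n)
    rw [map_mul, show QuotientGroup.mk' N o = 1 from (QuotientGroup.eq_one_iff o).2 ho, one_mul]
  haveI := Group.isSolvable_of_surjective hπ
  exact (Group.isSolvable_iff_subgroup_quotient N).2 ⟨inferInstance, inferInstance⟩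

end Cfsg.Agent.AltEightType
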