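/-
An involution `t` and a second involution `b` with fused pair: the odd signalizer `W` at `t`.

* `core_le` : `O(C(t)) ≤ W` from a four-group of good involutions
* `inf_centralizer_le` : `W ⊓ C(t) = O(C(t))`
* `centralizer_le_normalizer` : `C(t) ≤ N(W)`
-/
import Cfsg.Agent.Lib.AltEightType.Pair
import Cfsg.Agent.Lib.AltEightType.OddKlein
import Cfsg.Agent.Lib.Signalizer.Core
import Cfsg.Agent.Lib.Signalizer.GraphTrivial
import Cfsg.Agent.Lib.PQAutomizer.Key
import Cfsg.Agent.Lib.Transfer.Focal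

set_option autoImplicit false
set_option linter.style.haveILetI false

namespace Cfsg.Agent.AltEightType

open Subgroup Cfsg

universe u

variable {G : Type u} [Group G]

/-- Membership of `{1, t, b, bt}`. -/
def InPair (t b a : G) : Prop := a = 1 ∨ a = t ∨ a = b ∨ a = b * t

/-- The four-group `{1, t, b, bt}`. -/
def pairGroup (t b : G) (ht : t * t = 1) (hb : b * b = 1) (hc : t * b = b * t) : Subgroup G where
  carrier := {a | InPair t b a}
  one_mem' := Or.inl rfl
  mul_mem' := by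
    have e1 : t * (b * t) = b := by rw [← mul_assoc, hc, mul_assoc, ht, mul_one]
    have e2 : b * (b * t) = t := by rw [← mul_assoc, hb, one_mul]
    have e3 : b * t * t = b := by rw [mul_assoc, ht, mul_one]
    have e4 : b * t * b = t := by rw [mul_assoc, hc, e2]
    have e5 : b * t * (b * t) = 1 := by rw [← mul_assoc, e4, ht]
    intro x y hx hy
    show InPair t b (x * y)
    rcases hx with rfl | rfl | rfl | rfl <;> rcases hy with rfl | rfl | rfl | rfl <;>
      simp [InPair, ht, hb, hc, e1, e2, e3, e4, e5]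
  inv_mem' := by
    intro x hx
    show InPair t b x⁻¹
    have e5 : b * t * (b * t) = 1 := by
      rw [mul_assoc, ← mul_assoc t b t, hc, mul_assoc b t t, ht, mul_one, hb]
    rcases hx with rfl | rfl | rfl | rfl
    · exact Or.inl inv_one
    · exact Or.inr (Or.inl (inv_eq_of_mul_eq_one_right ht))
    · exact Or.inr (Or.inr (Or.inl (inv_eq_of_mul_eq_one_right hb)))
    · exact Or.inr (Or.inr (Or.inr (inv_eq_of_mul_eq_one_right e5)))

theorem mem_pairGroup {t b : G} {ht : t * t = 1} {hb : b * b = 1} {hc : t * b = b * t} {a : G} :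
    a ∈ pairGroup t b ht hb hc ↔ InPair t b a := Iff.rfl

theorem card_pairGroup {t b : G} (ht : t * t = 1) (hb : b * b = 1) (hc : t * b = b * t) (ht1 : t ≠ 1)
    (hb1 : b ≠ 1) (hbt : b ≠ t) : Nat.card (pairGroup t b ht hb hc) = 4 := by
  have e : (pairGroup t b ht hb hc : Set G) = {1, t, b, b * t} := rfl
  rw [← SetLike.coe_sort_coe, e, Nat.card_coe_set_eq]
  have h1 : b * t ≠ 1 := fun h => hbt (by rw [eq_inv_of_mul_eq_one_left h, inv_eq_of_mul_eq_one_right ht])
  have h2 : b * t ≠ t := fun h => hb1 (mul_eq_right.1 h)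
  have h3 : b * t ≠ b := fun h => ht1 (mul_eq_left.1 h)
  rw [Set.ncard_insert_of_notMem, Set.ncard_insert_of_notMem, Set.ncard_pair h3.symm]
  · simp [hbt.symm, h2.symm]
  · simp [ht1.symm, hb1.symm, h1.symm]

theorem isKleinFour_of_card {X : Type*} [Group X] (h4 : Nat.card X = 4) (hsq : ∀ a : X, a * a = 1) :
    IsKleinFour X := by
  haveI : Finite X := Nat.finite_of_card_ne_zero (by omega)
  haveI : Nontrivial X := Finite.one_lt_card_iff_nontrivial.1 (by omega)
  haveI : Fact (Nat.Prime 2) := ⟨Nat.prime_two⟩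
  exact ⟨h4, (Monoid.exponent_eq_prime_iff Nat.prime_two).2 fun a ha =>
    orderOf_eq_prime (by rw [pow_two, hsq a]) ha⟩

variable [Finite G]

theorem odd_card_core (a : G) : Odd (Nat.card (centralizerPPrimeCore 2 a)) := by
  rw [centralizerPPrimeCore, Cores.card_map_subtype]
  exact odd_card_oddCore

/-- The core of `t` is generated by its intersections with the centralisers of a good four-group. -/
theorem core_le (W : Subgroup G) {t : G} (ht : t * t = 1) (F : Subgroup G) (hF4 : Nat.card F = 4)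
    (hFsq : ∀ f ∈ F, f * f = 1) (hFt : F ≤ centralizer ({t} : Set G))
    (hFC : ∀ f ∈ F, f ≠ 1 → Group.IsSolvable (centralizer ({f} : Set G)))
    (hFW : ∀ f ∈ F, f ≠ 1 → centralizerPPrimeCore 2 f ≤ W) : centralizerPPrimeCore 2 t ≤ W := by
  haveI : Fact (Nat.Prime 2) := ⟨Nat.prime_two⟩
  haveI : IsKleinFour F := isKleinFour_of_card hF4 fun a => Subtype.ext (hFsq a.1 a.2)
  haveI : IsMulCommutative F := ⟨⟨fun a b => mul_comm_of_exponent_two IsKleinFour.exponent_two a b⟩⟩
  refine Coprime.le_of_noncyclic (A := F) IsKleinFour.not_isCyclic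
    (hFt.trans (Signalizer.centralizer_le_normalizer_core t))
    (by rw [hF4, show (4 : ℕ) = 2 ^ 2 from rfl]; exact (Nat.coprime_two_left.2 (odd_card_core t)).pow_left 2) ?_
  intro f hf hf1
  haveI := hFC f hf hf1
  exact (Signalizer.core_inf_centralizer_le_core (p := 2) (by rw [pow_two, ht])
    (mem_centralizer_singleton_iff.1 (hFt hf)).symm HallHigman.isPConstrained_of_isSolvable).trans
      (hFW f hf hf1)

set_option maxHeartbeats 800000 in
/-- `W ⊓ C(t) = O(C(t))`. -/
theorem inf_centralizer_le (W : Subgroup G) (hW : Odd (Nat.card W)) {t b : G} (ht2 : orderOf t = 2)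
    (hb2 : orderOf b = 2) (hbt : b ≠ t) (A : Subgroup G) (hA : Nat.card A = 16)
    (hAsq : ∀ a ∈ A, a * a = 1) (htA : t ∈ A) (hbA : b ∈ A) (T : Subgroup G) (hT2 : IsPGroup 2 T)
    (hTt : T ≤ centralizer ({t} : Set G))
    (hTmax : ∀ R : Subgroup G, IsPGroup 2 R → T ≤ R → R ≤ centralizer ({t} : Set G) → R = T)
    (hbT : b ∈ T)
    (hiso : ∀ g : G, g ∈ centralizer ({t} : Set G) → g * b * g⁻¹ ∈ T →
      g * b * g⁻¹ = b ∨ g * b * g⁻¹ = b * t)
    (hAmax : ∀ R : Subgroup G, IsPGroup 2 R → A ≤ R →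
      R ≤ centralizer ({t} : Set G) ⊓ centralizer ({b} : Set G) → R = A)
    (F : Subgroup G) (hFA : F ≤ A) (hF4 : Nat.card F = 4)
    (hFC : ∀ f ∈ F, f ≠ 1 → Group.IsSolvable (centralizer ({f} : Set G)))
    (hrep : ∀ a ∈ A, ¬ InPair t b a →
      ∃ f ∈ A, Group.IsSolvable (centralizer ({f} : Set G)) ∧ InPair t b (f * a⁻¹))
    (hN : ∀ f ∈ A, orderOf f = 2 → Group.IsSolvable (centralizer ({f} : Set G)) →
      centralizer ({f} : Set G) ≤ normalizer (W : Set G))
    (hcore : ∀ f ∈ A, orderOf f = 2 → Group.IsSolvable (centralizer ({f} : Set G)) →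
      centralizerPPrimeCore 2 f ≤ W)
    {x : G} (hxt : x ∈ centralizer ({t} : Set G)) (hxb : x ∈ centralizer ({b} : Set G))
    (hxA : x ∈ normalizer (A : Set G)) (hxW : x ∈ normalizer (W : Set G))
    (hxm : ∃ a ∈ A, ¬ InPair t b (x * a * x⁻¹ * a⁻¹)) :
    W ⊓ centralizer ({t} : Set G) = centralizerPPrimeCore 2 t := by
  classical
  haveI : Fact (Nat.Prime 2) := ⟨Nat.prime_two⟩
  have htt := Involution.mul_self ht2
  have hbb := Involution.mul_self hb2
  have hAc : ∀ a ∈ A, ∀ c ∈ A, a * c = c * a := by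
    intro a ha c hc
    have h := inv_eq_of_mul_eq_one_right (hAsq (a * c) (mul_mem ha hc))
    rwa [mul_inv_rev, inv_eq_of_mul_eq_one_right (hAsq a ha), inv_eq_of_mul_eq_one_right (hAsq c hc),
      eq_comm] at h
  have hord : ∀ f ∈ A, ¬ InPair t b f → orderOf f = 2 := fun f hf h =>
    orderOf_eq_prime (by rw [pow_two, hAsq f hf]) fun e => h (Or.inl e)
  refine le_antisymm ?_ (le_inf ?_ (Signalizer.core_le_centralizer t))
  swap
  · refine core_le W htt F hF4 (fun f hf => hAsq f (hFA hf))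
      (fun f hf => mem_centralizer_singleton_iff.2 (hAc f (hFA hf) t htA)) hFC fun f hf hf1 => ?_
    exact hcore f (hFA hf) (orderOf_eq_prime (by rw [pow_two, hAsq f (hFA hf)]) hf1) (hFC f hf hf1)
  set M := centralizer ({t} : Set G) with hM
  set Y := M ⊓ centralizer ({b} : Set G) with hY
  have hmemY : ∀ {y : G}, y ∈ Y ↔ Commute y t ∧ Commute y b := fun {y} =>
    and_congr mem_centralizer_singleton_iff mem_centralizer_singleton_iff
  have hAY : A ≤ Y := fun a ha => hmemY.2 ⟨hAc a ha t htA, hAc a ha b hbA⟩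
  -- `B` and the quotient of `Y` by `O(Y) B`
  let B := pairGroup t b htt hbb (hAc t htA b hbA)
  have hBA : B ≤ A := by
    rintro a (rfl | rfl | rfl | rfl)
    exacts [one_mem _, htA, hbA, mul_mem hbA htA]
  let BY : Subgroup Y := B.subgroupOf Y
  have hBYc : BY ≤ center Y := fun y hy => mem_center_iff.2 fun z => Subtype.ext (by
    show (z : G) * y = y * z
    obtain ⟨h1, h2⟩ := hmemY.1 z.2
    rcases mem_subgroupOf.1 hy with e | e | e | e <;> rw [e]
    exacts [(Commute.one_right _).eq, h1.eq, h2.eq, (h2.mul_right h1).eq])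
  set O : Subgroup Y := oddCore Y with hO
  haveI : O.Normal := Cores.pPrimeCore_normal 2 Y
  have hOodd : ∀ o ∈ O, Odd (orderOf o) := fun o ho =>
    odd_card_oddCore.of_dvd_nat (orderOf_dvd_natCard _ ho)
  let π₁ := QuotientGroup.mk' O
  set B₁ := BY.map π₁
  have hB₁c : B₁ ≤ center (Y ⧸ O) := by
    rintro _ ⟨β, hβ, rfl⟩
    refine mem_center_iff.2 fun z => ?_
    obtain ⟨z, rfl⟩ := QuotientGroup.mk'_surjective O z
    rw [← map_mul, ← map_mul, mem_center_iff.1 (hBYc hβ) z]
  haveI : B₁.Normal := ⟨fun m hm g => by rwa [mem_center_iff.1 (hB₁c hm) g, mul_inv_cancel_right]⟩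
  have hB2 : IsPGroup 2 B := IsPGroup.of_card (n := 2) (card_pairGroup htt hbb _ (Involution.ne_one ht2)
    (Involution.ne_one hb2) hbt)
  have hOZ : oddCore ((Y ⧸ O) ⧸ B₁) = ⊥ :=
    PQAutomizer.pPrimeCore_quotient_central (Cores.pPrimeCore_quotient_self 2)
      (hB2.comap_subtype.map π₁) hB₁c
  let π : Y →* (Y ⧸ O) ⧸ B₁ := (QuotientGroup.mk' B₁).comp π₁
  have hπ : Function.Surjective π := (QuotientGroup.mk'_surjective B₁).comp (QuotientGroup.mk'_surjective O)
  have hker : ∀ y : Y, π y = 1 → ∃ o ∈ O, ∃ β ∈ BY, y = o * β := by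
    intro y hy
    obtain ⟨β, hβ, he⟩ := (QuotientGroup.eq_one_iff (π₁ y)).1 hy
    refine ⟨y * β⁻¹, (QuotientGroup.eq_one_iff _).1 ?_, β, hβ, by group⟩
    show π₁ (y * β⁻¹) = 1
    rw [map_mul, map_inv, he, mul_inv_cancel]
  have hπO : ∀ o ∈ O, π o = 1 := fun o ho => by
    show QuotientGroup.mk' B₁ (π₁ o) = 1
    rw [show π₁ o = 1 from (QuotientGroup.eq_one_iff o).2 ho, map_one]
  have hπB : ∀ β ∈ BY, π β = 1 := fun β hβ => (QuotientGroup.eq_one_iff _).2 ⟨β, hβ, rfl⟩
  have hsqB : ∀ β ∈ BY, β * β = 1 := fun β hβ => Subtype.ext (hAsq _ (hBA hβ))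
  have hAodd : ∀ o ∈ O, (o : G) ∈ A → o = 1 := fun o ho hoA =>
    eq_one_of_two_odd (k := 1) (by rw [pow_one, pow_two]; exact Subtype.ext (hAsq _ hoA)) (hOodd o ho)
  -- the Sylow subgroup `A` of `Y`
  let SA : Sylow 2 Y :=
    { toSubgroup := A.subgroupOf Y
      isPGroup' := (IsPGroup.of_card (n := 4) (by rw [hA]; norm_num) : IsPGroup 2 A).comap_subtype
      is_maximal' := fun {R} hR hle => by
        have h := hAmax (R.map Y.subtype) (hR.map _)
          (fun a ha => ⟨⟨a, hAY ha⟩, hle (mem_subgroupOf.2 ha), rfl⟩) (map_subtype_le _)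
        refine le_antisymm (fun y hy => mem_subgroupOf.2 ?_) hle
        rw [← h]
        exact ⟨y, hy, rfl⟩ }
  haveI : IsMulCommutative (SA : Subgroup Y) :=
    ⟨⟨fun a c => Subtype.ext (Subtype.ext (hAc _ a.2 _ c.2))⟩⟩
  let V : Sylow 2 ((Y ⧸ O) ⧸ B₁) := SA.mapSurjective hπ
  haveI hV4 : IsKleinFour (V : Subgroup ((Y ⧸ O) ⧸ B₁)) := by
    refine isKleinFour_of_card ?_ ?_
    · let φ := π.comp (SA : Subgroup Y).subtype
      have hr : φ.range = (V : Subgroup ((Y ⧸ O) ⧸ B₁)) := by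
        show φ.range = (A.subgroupOf Y).map π
        rw [MonoidHom.range_comp, range_subtype]
      have hk : φ.ker = BY.subgroupOf (SA : Subgroup Y) := by
        ext a
        constructor
        · intro ha
          obtain ⟨o, ho, β, hβ, e⟩ := hker a ha
          have hoA : (o : G) ∈ A := by
            have : o = (a : Y) * β⁻¹ := by rw [e]; group
            rw [this]
            exact mul_mem (mem_subgroupOf.1 a.2) (inv_mem (hBA (mem_subgroupOf.1 hβ)))
          rw [hAodd o ho hoA, one_mul] at e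
          exact mem_subgroupOf.2 (e ▸ hβ)
        · exact fun ha => hπB _ ha
      have h := φ.ker.index_mul_card
      rw [index_ker, hr, hk, Cores.card_subgroupOf (show BY ≤ (SA : Subgroup Y) from fun y hy => hBA hy),
        Cores.card_subgroupOf (hBA.trans hAY), card_pairGroup htt hbb _ (Involution.ne_one ht2)
          (Involution.ne_one hb2) hbt, show Nat.card (SA : Subgroup Y) = 16 from
          (Cores.card_subgroupOf hAY).trans hA] at h
      omega
    · rintro ⟨_, a, ha, rfl⟩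
      refine Subtype.ext ?_
      show π a * π a = 1
      rw [← map_mul, show a * a = 1 from Subtype.ext (hAsq _ ha), map_one]
  -- centralisers in the quotient are images
  have hcent : ∀ f : Y, (f : G) ∈ A → ¬ InPair t b f → ∀ z, Commute z (π f) →
      ∃ c : Y, Commute c f ∧ π c = z := by
    intro f hfA hfB z hz
    obtain ⟨y, rfl⟩ := hπ z
    obtain ⟨o, ho, β, hβ, e⟩ := hker (y * f * y⁻¹ * f⁻¹) (by
      rw [map_mul, map_mul, map_mul, map_inv, map_inv, hz.eq, mul_inv_cancel_right, mul_inv_cancel])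
    have hyf : y * f * y⁻¹ = o * (β * f) := by rw [← mul_assoc, ← e, inv_mul_cancel_right]
    have hff : f * f = 1 := Subtype.ext (hAsq _ hfA)
    have hβf : Commute β f := (mem_center_iff.1 (hBYc hβ) f).symm
    have hinv : β * f * (β * f) = 1 := by
      rw [hβf.eq, mul_assoc, ← mul_assoc β f β, hβf.eq, mul_assoc f β β, hsqB β hβ, mul_one, hff]
    obtain ⟨m, hm, hme⟩ := exists_conj_of_odd (hOodd o ho) hinv (by
      rw [← hyf, show y * f * y⁻¹ * (y * f * y⁻¹) = y * (f * f) * y⁻¹ by group, hff, mul_one, mul_inv_cancel])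
    have h1 : m⁻¹ * y * f * (m⁻¹ * y)⁻¹ = β * f := by
      rw [show m⁻¹ * y * f * (m⁻¹ * y)⁻¹ = m⁻¹ * (y * f * y⁻¹) * m by group, hyf, ← hme]
      group
    obtain ⟨n, hn, hne⟩ := Transfer.normalizer_control_of_comm SA f hfA (m⁻¹ * y) (by
      rw [h1]; exact mul_mem (show β ∈ (SA : Subgroup Y) from hBA hβ) hfA)
    rw [h1] at hne
    have hpow : ∀ i : ℕ, n ^ i * f * (n ^ i)⁻¹ = β ^ i * f := by
      intro i
      induction i with
      | zero => simp
      | succ i ih =>
        calc n ^ (i + 1) * f * (n ^ (i + 1))⁻¹ = n * (n ^ i * f * (n ^ i)⁻¹) * n⁻¹ := by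
              rw [pow_succ']; group
          _ = n * β ^ i * n⁻¹ * (n * f * n⁻¹) := by rw [ih]; group
          _ = β ^ (i + 1) * f := by
              rw [hne, (mem_center_iff.1 (pow_mem (hBYc hβ) i) n), mul_inv_cancel_right, pow_succ]
              group
    obtain ⟨k, j, hj, hkj⟩ := Nat.exists_eq_two_pow_mul_odd (orderOf_pos n).ne'
    have hnj : n ^ j ∈ (SA : Subgroup Y) := by
      have h2 : IsPGroup 2 (zpowers (n ^ j) ⊔ (SA : Subgroup Y) : Subgroup Y) := by
        refine IsPGroup.to_sup_of_normal_right' (IsPGroup.of_card (n := k) ?_) SA.isPGroup'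
          (zpowers_le.2 (pow_mem hn j))
        rw [Nat.card_zpowers, orderOf_pow_of_dvd hj.pos.ne' (hkj ▸ dvd_mul_left j _), hkj,
          Nat.mul_div_cancel _ hj.pos]
      rw [← SA.is_maximal' h2 le_sup_right]
      exact mem_sup_left (mem_zpowers _)
    have hb1 : β ^ j * f = f := by
      rw [← hpow j, show n ^ j * f = f * n ^ j from congrArg Subtype.val
        (mul_comm' (⟨_, hnj⟩ : (SA : Subgroup Y)) ⟨f, hfA⟩), mul_inv_cancel_right]
    have hβ1 : β = 1 := by
      obtain ⟨i, rfl⟩ := hj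
      have h2 := mul_eq_right.1 hb1
      rwa [pow_succ, pow_mul, pow_two, hsqB β hβ, one_pow, one_mul] at h2
    rw [hβ1, one_mul] at h1
    refine ⟨m⁻¹ * y, mul_inv_eq_iff_eq_mul.1 h1, ?_⟩
    rw [map_mul, map_inv, hπO m (zpowers_le.2 ho hm), inv_one, one_mul]
  -- representatives
  have hlift : ∀ v ∈ (V : Subgroup ((Y ⧸ O) ⧸ B₁)), v ≠ 1 → ∃ f : Y, (f : G) ∈ A ∧ ¬ InPair t b f ∧
      Group.IsSolvable (centralizer ({(f : G)} : Set G)) ∧ π f = v := by
    rintro _ ⟨a, ha, rfl⟩ hv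
    have haB : ¬ InPair t b (a : G) := fun h => hv (hπB a (mem_subgroupOf.2 (mem_pairGroup.2 h)))
    obtain ⟨f, hfA, hfs, hfa⟩ := hrep _ ha haB
    refine ⟨⟨f, hAY hfA⟩, hfA, fun h => haB ?_, hfs, ?_⟩
    · have : (f * (a : G)⁻¹)⁻¹ * f ∈ B := mul_mem (inv_mem (mem_pairGroup.2 hfa)) (mem_pairGroup.2 h)
      rwa [mul_inv_rev, inv_inv, inv_mul_cancel_right] at this
    · have h := hπB (⟨f, hAY hfA⟩ * a⁻¹) (mem_subgroupOf.2 (mem_pairGroup.2 hfa))
      rwa [map_mul, map_inv, mul_inv_eq_one] at h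
  have hCs : ∀ v : (Y ⧸ O) ⧸ B₁, orderOf v = 2 → Group.IsSolvable (centralizer ({v} : Set ((Y ⧸ O) ⧸ B₁))) := by
    intro v hv
    obtain ⟨R, hR⟩ := (IsPGroup.of_card (n := 1) (by rw [Nat.card_zpowers, hv, pow_one]) :
      IsPGroup 2 (zpowers v)).exists_le_sylow
    obtain ⟨g, hg⟩ := MulAction.exists_smul_eq ((Y ⧸ O) ⧸ B₁) R V
    have hgv : g * v * g⁻¹ ∈ (V : Subgroup ((Y ⧸ O) ⧸ B₁)) := hg ▸ ⟨v, hR (mem_zpowers v), rfl⟩
    obtain ⟨f, hfA, hfB, hfs, hfe⟩ := hlift _ hgv fun e => Involution.ne_one hv (conj_eq_one_iff.1 e)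
    haveI := hfs
    haveI : Group.IsSolvable (centralizer ({f} : Set Y)) :=
      Group.isSolvable_of_isSolvable_injective (f := (Y.subtype.comp (centralizer ({f} : Set Y)).subtype).codRestrict
        (centralizer ({(f : G)} : Set G)) fun c => mem_centralizer_singleton_iff.2
          (congrArg Subtype.val (mem_centralizer_singleton_iff.1 c.2)))
        fun a c h => Subtype.ext (Subtype.ext (congrArg Subtype.val h :))
    haveI : Group.IsSolvable ((centralizer ({f} : Set Y)).map π) :=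
      Group.isSolvable_of_surjective (π.subgroupMap_surjective _)
    refine Group.isSolvable_of_isSolvable_injective
      (f := ((MulAut.conj g).toMonoidHom.comp (centralizer ({v} : Set ((Y ⧸ O) ⧸ B₁))).subtype).codRestrict
        ((centralizer ({f} : Set Y)).map π) fun c => ?_)
      fun a c h => Subtype.ext ((MulAut.conj g).injective (congrArg Subtype.val h))
    obtain ⟨d, hd, hde⟩ := hcent f hfA hfB (g * c * g⁻¹) (by
      rw [hfe]
      exact (Commute.map (mem_centralizer_singleton_iff.1 c.2) (MulAut.conj g).toMonoidHom))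
    exact ⟨d, mem_centralizer_singleton_iff.2 hd, hde⟩
  set K := (W.subgroupOf Y).map π
  have hKN : ∀ y : Y, (y : G) ∈ normalizer (W : Set G) → π y ∈ normalizer (K : Set ((Y ⧸ O) ⧸ B₁)) := by
    intro y hy
    refine Coprime.mem_normalizer_of_forall ?_
    rintro _ ⟨w, hw, rfl⟩
    exact ⟨y * w * y⁻¹, mem_subgroupOf.2 ((mem_normalizer_iff.1 hy _).1 hw), by simp⟩
  let xY : Y := ⟨x, hxt, hxb⟩
  have hKbot : K = ⊥ := by
    refine odd_eq_bot hOZ V hCs K (hW.of_dvd_nat ((card_map_dvd _ _).trans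
      (card_comap_dvd_of_injective W Y.subtype Y.subtype_injective))) ?_ (π xY) ?_ (hKN xY hxW) ?_
    · intro v hv hv2 z hz
      obtain ⟨f, hfA, hfB, hfs, hfe⟩ := hlift v hv (Involution.ne_one hv2)
      obtain ⟨c, hc, rfl⟩ := hcent f hfA hfB z (hfe ▸ mem_centralizer_singleton_iff.1 hz)
      exact hKN c (hN _ hfA (hord _ hfA hfB) hfs
        (mem_centralizer_singleton_iff.2 (congrArg Subtype.val hc.eq)))
    · refine Coprime.mem_normalizer_of_forall ?_
      rintro _ ⟨a, ha, rfl⟩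
      exact ⟨xY * a * xY⁻¹, (mem_normalizer_iff.1 hxA _).1 ha, by simp⟩
    · intro hxC
      obtain ⟨a, ha, hna⟩ := hxm
      have h := mem_centralizer_iff.1 hxC (π ⟨a, hAY ha⟩) ⟨⟨a, hAY ha⟩, ha, rfl⟩
      obtain ⟨o, ho, β, hβ, e⟩ := hker (xY * ⟨a, hAY ha⟩ * xY⁻¹ * ⟨a, hAY ha⟩⁻¹) (by
        rw [map_mul, map_mul, map_mul, map_inv, map_inv, ← h, mul_inv_cancel_right, mul_inv_cancel])
      have hoA : (o : G) ∈ A := by
        have h' : o = xY * ⟨a, hAY ha⟩ * xY⁻¹ * ⟨a, hAY ha⟩⁻¹ * β⁻¹ := by rw [e]; group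
        rw [h']
        exact mul_mem (mul_mem ((mem_normalizer_iff.1 hxA a).1 ha) (inv_mem ha))
          (inv_mem (hBA (mem_subgroupOf.1 hβ)))
      rw [hAodd o ho hoA, one_mul] at e
      have h1 : x * a * x⁻¹ * a⁻¹ = (β : G) := congrArg Subtype.val e
      refine hna ?_
      rw [h1]
      exact mem_pairGroup.1 (mem_subgroupOf.1 hβ)
  have hWY : ∀ w : Y, (w : G) ∈ W → w ∈ O := by
    intro w hw
    have h1 : π w ∈ K := ⟨w, mem_subgroupOf.2 hw, rfl⟩
    rw [hKbot, mem_bot] at h1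
    obtain ⟨o, ho, β, hβ, rfl⟩ := hker w h1
    have h2 : (o * β) * (o * β) ∈ O := by
      rw [mul_assoc, ← mul_assoc β, ← mem_center_iff.1 (hBYc hβ) o, mul_assoc o β β, hsqB β hβ, mul_one]
      exact mul_mem ho ho
    obtain ⟨k, hk⟩ : Odd (orderOf (o * β)) := by
      rw [← Subgroup.orderOf_coe]
      exact hW.of_dvd_nat (orderOf_dvd_natCard _ hw)
    have he : o * β = (o * β * (o * β)) ^ (k + 1) := by
      rw [← pow_two, ← pow_mul, show 2 * (k + 1) = orderOf (o * β) + 1 by omega, pow_succ,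
        pow_orderOf_eq_one, one_mul]
    rw [he]
    exact pow_mem h2 _
  -- pass to `C(t)`
  let T' : Sylow 2 M :=
    { toSubgroup := T.subgroupOf M
      isPGroup' := hT2.comap_subtype
      is_maximal' := fun {R} hR hle => by
        have h := hTmax (R.map M.subtype) (hR.map _)
          (fun a ha => ⟨⟨a, hTt ha⟩, hle (mem_subgroupOf.2 ha), rfl⟩) (map_subtype_le _)
        refine le_antisymm (fun y hy => mem_subgroupOf.2 ?_) hle
        rw [← h]
        exact ⟨y, hy, rfl⟩ }
  let tM : M := ⟨t, mem_centralizer_singleton_iff.2 rfl⟩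
  let bM : M := ⟨b, (hAY hbA).1⟩
  have hdec := pair_core T' (t := tM) (b := bM)
    (mem_center_iff.2 fun g => Subtype.ext (mem_centralizer_singleton_iff.1 g.2))
    ((Subgroup.orderOf_mk _ _).trans ht2) ((Subgroup.orderOf_mk _ _).trans hb2)
    (fun e => hbt (congrArg Subtype.val e)) hbT
    fun g hg => (hiso (g : G) g.2 hg).imp (fun e => Subtype.ext e) (fun e => Subtype.ext e)
  set OM : Subgroup M := oddCore M with hOM
  haveI : OM.Normal := Cores.pPrimeCore_normal 2 M
  -- `O(Y) ≤ O(C(t))`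
  set OY : Subgroup M := (O.map Y.subtype).subgroupOf M with hOY
  have hOYM : O.map Y.subtype ≤ M := (map_subtype_le _).trans inf_le_left
  have hsup : OY ⊔ OM ≤ OM := by
    have hn : (OY ⊔ OM).Normal := by
      refine normalizer_eq_top_iff.1 (eq_top_iff.2 fun g _ => ?_)
      obtain ⟨o, ho, n, rfl, hn⟩ := hdec g
      refine mul_mem (le_normalizer (mem_sup_right ho)) ?_
      have hn' : (n : G) * b * (n : G)⁻¹ = b ∨ (n : G) * b * (n : G)⁻¹ = b * t :=
        hn.imp (congrArg Subtype.val) (congrArg Subtype.val)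
      have hnt : Commute (n : G) t := mem_centralizer_singleton_iff.1 n.2
      have hnY : (n : G) ∈ normalizer (Y : Set G) := by
        refine Coprime.mem_normalizer_of_forall fun y hy => ?_
        obtain ⟨hyt, hyb⟩ := hmemY.1 hy
        have hyt' : Commute ((n : G) * y * (n : G)⁻¹) t := (hnt.mul_left hyt).mul_left hnt.inv_left
        refine hmemY.2 ⟨hyt', ?_⟩
        have hc : Commute ((n : G) * y * (n : G)⁻¹) ((n : G) * b * (n : G)⁻¹) :=
          hyb.map (MulAut.conj (n : G)).toMonoidHom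
        rcases hn' with e | e <;> rw [e] at hc
        · exact hc
        · have := hc.mul_right hyt'
          rwa [mul_assoc b t t, htt, mul_one] at this
      refine Coprime.mem_normalizer_of_forall fun w hw => ?_
      have hw' : n * w * n⁻¹ ∈ (OY ⊔ OM).map (MulAut.conj n).toMonoidHom := ⟨w, hw, rfl⟩
      rw [Subgroup.map_sup] at hw'
      refine (sup_le_sup ?_ ?_ : _ ≤ OY ⊔ OM) hw'
      · rintro _ ⟨q, hq, rfl⟩
        exact mem_subgroupOf.2 ((mem_normalizer_iff.1 (Cores.normalizer_le_normalizer_map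
          (hC := Cores.pPrimeCore_characteristic 2 Y) _ hnY) (q : G)).1 (mem_subgroupOf.1 hq))
      · rintro _ ⟨q, hq, rfl⟩
        exact ‹OM.Normal›.conj_mem q hq n
    refine Cores.le_pPrimeCore hn (Nat.coprime_two_right.2 ?_)
    refine Odd.of_dvd_nat ?_ (Cores.card_sup_dvd OY OM)
    refine Odd.mul ?_ odd_card_oddCore
    rw [hOY, Cores.card_subgroupOf hOYM, Cores.card_map_subtype]
    exact odd_card_oddCore
  -- the main inclusion
  rintro w ⟨hwW, hwM⟩
  refine ⟨⟨w, hwM⟩, ?_, rfl⟩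
  obtain ⟨o, ho, n, hgn, hn⟩ := hdec ⟨w, hwM⟩
  set wM : M := ⟨w, hwM⟩
  set c := wM * bM * wM⁻¹ * bM⁻¹ with hc
  have hcW : (c : G) ∈ W := by
    show w * b * w⁻¹ * b⁻¹ ∈ W
    rw [show w * b * w⁻¹ * b⁻¹ = w * (b * w⁻¹ * b⁻¹) by group]
    refine mul_mem hwW ((mem_normalizer_iff.1 ?_ _).1 (inv_mem hwW))
    obtain ⟨f, hf⟩ : ∃ f : F, f ≠ 1 := by
      haveI : Nontrivial F := Finite.one_lt_card_iff_nontrivial.1 (by omega)
      exact exists_ne 1
    have hf1 : (f : G) ≠ 1 := fun e => hf (Subtype.ext e)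
    exact hN _ (hFA f.2) (orderOf_eq_prime (by rw [pow_two, hAsq _ (hFA f.2)]) hf1) (hFC _ f.2 hf1)
      (mem_centralizer_singleton_iff.2 (hAc b hbA _ (hFA f.2)))
  have hcodd : Odd (orderOf c) := by
    rw [← Subgroup.orderOf_coe]
    exact hW.of_dvd_nat (orderOf_dvd_natCard _ hcW)
  have hcO : c ∈ OM := by
    have htM : ∀ g : M, g * tM = tM * g := fun g => Subtype.ext (mem_centralizer_singleton_iff.1 g.2)
    have h1 : c * c ∈ OM := by
      let q := QuotientGroup.mk' OM
      have hqo : q o = 1 := (QuotientGroup.eq_one_iff o).2 ho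
      have hqc : q c = q (n * bM * n⁻¹ * bM⁻¹) := by
        rw [hc, hgn]
        simp only [map_mul, map_inv, hqo, one_mul, mul_inv_rev, inv_one, mul_one]
      refine (QuotientGroup.eq_one_iff _).1 ?_
      show q (c * c) = 1
      rw [map_mul, hqc, ← map_mul]
      rcases hn with e | e <;> rw [e]
      · rw [mul_inv_cancel, mul_one, map_one]
      · rw [htM bM, mul_inv_cancel_right, show tM * tM = 1 from Subtype.ext htt, map_one]
    obtain ⟨k, hk⟩ := hcodd
    have he : c = (c * c) ^ (k + 1) := by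
      rw [← pow_two, ← pow_mul, show 2 * (k + 1) = orderOf c + 1 by omega, pow_succ,
        pow_orderOf_eq_one, one_mul]
    rw [he]
    exact pow_mem h1 _
  have hbbM : bM * bM = 1 := Subtype.ext hbb
  obtain ⟨m, hm, hme⟩ := exists_conj_of_odd hcodd hbbM (by
    rw [hc, inv_mul_cancel_right, show wM * bM * wM⁻¹ * (wM * bM * wM⁻¹) = wM * (bM * bM) * wM⁻¹ by group,
      hbbM, mul_one, mul_inv_cancel])
  have hmO : m ∈ OM := zpowers_le.2 hcO hm
  have hmW : (m : G) ∈ W := by
    obtain ⟨i, rfl⟩ := hm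
    exact (coe_zpow (M : Subgroup G) c i).symm ▸ zpow_mem hcW i
  rw [hc, inv_mul_cancel_right] at hme
  have hfix : Commute (m⁻¹ * wM) bM := mul_inv_eq_iff_eq_mul.1 (by
    rw [show m⁻¹ * wM * bM * (m⁻¹ * wM)⁻¹ = m⁻¹ * (wM * bM * wM⁻¹) * m by group, ← hme]
    group)
  have hinY : ((m⁻¹ * wM : M) : G) ∈ Y :=
    ⟨(m⁻¹ * wM).2, mem_centralizer_singleton_iff.2 (congrArg Subtype.val hfix.eq)⟩
  have hmw : m⁻¹ * wM ∈ OM := hsup (mem_sup_left (mem_subgroupOf.2
    ⟨⟨_, hinY⟩, hWY ⟨_, hinY⟩ (mul_mem (inv_mem hmW) hwW), rfl⟩))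
  have := mul_mem hmO hmw
  rwa [mul_inv_cancel_left] at this

/-- `C(t)` normalises `W`. -/
theorem centralizer_le_normalizer (W : Subgroup G) (hW : Odd (Nat.card W)) {t b : G} (ht2 : orderOf t = 2)
    (hb2 : orderOf b = 2) (hbt : b ≠ t) (hc : t * b = b * t) (htW : t ∈ normalizer (W : Set G))
    (hbW : b ∈ normalizer (W : Set G))
    (hu : ∀ u : G, InPair t b u → u ≠ 1 → W ⊓ centralizer ({u} : Set G) = centralizerPPrimeCore 2 u)
    (T : Subgroup G) (hT2 : IsPGroup 2 T) (hTt : T ≤ centralizer ({t} : Set G))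
    (hTmax : ∀ R : Subgroup G, IsPGroup 2 R → T ≤ R → R ≤ centralizer ({t} : Set G) → R = T)
    (hbT : b ∈ T)
    (hiso : ∀ g : G, g ∈ centralizer ({t} : Set G) → g * b * g⁻¹ ∈ T →
      g * b * g⁻¹ = b ∨ g * b * g⁻¹ = b * t) :
    centralizer ({t} : Set G) ≤ normalizer (W : Set G) := by
  classical
  haveI : Fact (Nat.Prime 2) := ⟨Nat.prime_two⟩
  set M := centralizer ({t} : Set G) with hM
  have htt := Involution.mul_self ht2
  have hbb := Involution.mul_self hb2
  let T' : Sylow 2 M :=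
    { toSubgroup := T.subgroupOf M
      isPGroup' := hT2.comap_subtype
      is_maximal' := fun {R} hR hle => by
        have h := hTmax (R.map M.subtype) (hR.map _)
          (fun a ha => ⟨⟨a, hTt ha⟩, hle (mem_subgroupOf.2 ha), rfl⟩) (map_subtype_le _)
        refine le_antisymm (fun y hy => mem_subgroupOf.2 ?_) hle
        rw [← h]
        exact ⟨y, hy, rfl⟩ }
  let tM : M := ⟨t, mem_centralizer_singleton_iff.2 rfl⟩
  let bM : M := ⟨b, hTt hbT⟩
  have hdec := pair_core T' (t := tM) (b := bM)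
    (mem_center_iff.2 fun g => Subtype.ext (mem_centralizer_singleton_iff.1 g.2))
    ((Subgroup.orderOf_mk _ _).trans ht2) ((Subgroup.orderOf_mk _ _).trans hb2)
    (fun e => hbt (congrArg Subtype.val e)) hbT
    fun g hg => (hiso (g : G) g.2 hg).imp (fun e => Subtype.ext e) (fun e => Subtype.ext e)
  set B := pairGroup t b htt hbb hc
  have hB4 := card_pairGroup htt hbb hc (Involution.ne_one ht2) (Involution.ne_one hb2) hbt
  have hBN : B ≤ normalizer (W : Set G) := by
    rintro u (rfl | rfl | rfl | rfl)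
    exacts [one_mem _, htW, hbW, mul_mem hbW htW]
  intro g hg
  obtain ⟨o, ho, n, hgn, hn⟩ := hdec ⟨g, hg⟩
  have hgn' : g = (o : G) * n := congrArg Subtype.val hgn
  rw [hgn']
  refine mul_mem (le_normalizer ?_) ?_
  · have h := hu t (Or.inr (Or.inl rfl)) (Involution.ne_one ht2)
    exact (h.ge (⟨o, ho, rfl⟩ : (o : G) ∈ centralizerPPrimeCore 2 t)).1
  have hn' : (n : G) * b * (n : G)⁻¹ = b ∨ (n : G) * b * (n : G)⁻¹ = b * t :=
    hn.imp (congrArg Subtype.val) (congrArg Subtype.val)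
  have hnt : (n : G) * t * (n : G)⁻¹ = t := by
    rw [mem_centralizer_singleton_iff.1 n.2, mul_inv_cancel_right]
  have hpair : ∀ u, InPair t b u → InPair t b ((n : G) * u * (n : G)⁻¹) := by
    have hbn : (n : G) * b * (n : G)⁻¹ ∈ B := hn'.elim (fun e => Or.inr (Or.inr (Or.inl e)))
      (fun e => Or.inr (Or.inr (Or.inr e)))
    have htn : (n : G) * t * (n : G)⁻¹ ∈ B := Or.inr (Or.inl hnt)
    rintro u (rfl | rfl | rfl | rfl)
    · exact Or.inl (by group)
    · exact htn
    · exact hbn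
    · rw [← conj_mul]; exact B.mul_mem hbn htn
  haveI : IsKleinFour B := isKleinFour_of_card hB4 fun u => Subtype.ext (by
    show (u : G) * u = 1
    rcases u.2 with e | e | e | e <;> rw [e]
    exacts [one_mul 1, htt, hbb, by rw [mul_assoc, ← mul_assoc t b t, hc, mul_assoc b t t, htt, mul_one, hbb]])
  haveI : IsMulCommutative B := ⟨⟨fun a c => mul_comm_of_exponent_two IsKleinFour.exponent_two a c⟩⟩
  have hle : W ≤ W.comap (MulAut.conj (n : G)).toMonoidHom := by
    refine Coprime.le_of_noncyclic (A := B) IsKleinFour.not_isCyclic hBN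
      (by rw [hB4, show (4 : ℕ) = 2 ^ 2 from rfl]; exact (Nat.coprime_two_left.2 hW).pow_left 2) ?_
    intro u huB hu1 w hw
    rw [hu u huB hu1] at hw
    have h1 : (n : G) * w * (n : G)⁻¹ ∈ centralizerPPrimeCore 2 ((n : G) * u * (n : G)⁻¹) := by
      rw [← Signalizer.map_conj_centralizerPPrimeCore]
      exact ⟨w, hw, rfl⟩
    rw [← hu _ (hpair u huB) fun e => hu1 (conj_eq_one_iff.1 e)] at h1
    exact h1.1
  exact Coprime.mem_normalizer_of_forall fun w hw => hle hw

end Cfsg.Agent.AltEightType
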