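/-
A strongly closed elementary abelian 2-subgroup that no larger subgroup of the Sylow subgroup covers.

* `exists_normal_of_closed` : a normal subgroup with Sylow 2-subgroup `A` and fixed-point-free automiser
-/
import Cfsg.Agent.S2775
import Cfsg.Agent.Lib.Transfer.Focal

set_option autoImplicit false
set_option linter.style.haveILetI false

namespace Cfsg.Agent.AltEightType

open Subgroup Cfsg

universe u

/-- An element of an abelian Sylow subgroup of a perfect group fixed by its normaliser is trivial. -/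
theorem eq_one_of_perfect {G : Type u} [Group G] [Finite G] (hG : commutator G = ⊤) (P : Sylow 2 G)
    [IsMulCommutative (P : Subgroup G)] {a : G} (ha : a ∈ (P : Subgroup G))
    (hc : ∀ n ∈ normalizer ((P : Subgroup G) : Set G), Commute n a) : a = 1 := by
  classical
  haveI : Fact (Nat.Prime 2) := ⟨Nat.prime_two⟩
  set N := normalizer ((P : Subgroup G) : Set G) with hN
  let φ : N →* MulAut (P : Subgroup G) := (P : Subgroup G).normalizerMonoidHom
  letI : Fintype φ.range := Fintype.ofFinite _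
  letI : CommGroup (P : Subgroup G) := { (inferInstance : Group (P : Subgroup G)) with
    mul_comm := fun a b => mul_comm' a b }
  let ν : (P : Subgroup G) →* (P : Subgroup G) :=
    { toFun := fun x => ∏ σ : φ.range, (σ : MulAut (P : Subgroup G)) x
      map_one' := by simp
      map_mul' := fun x y => by simp [Finset.prod_mul_distrib] }
  have hν : ∀ (m : N) (x : (P : Subgroup G)), ν (φ m x) = ν x := fun m x =>
    Fintype.prod_equiv (Equiv.mulRight (⟨φ m, m, rfl⟩ : φ.range)) _ _ fun σ => rfl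
  have hsub : ⁅(P : Subgroup G), N⁆ ≤ ν.ker.map (P : Subgroup G).subtype := by
    rw [commutator_le]
    intro x hx n hn
    refine ⟨⟨x, hx⟩ * φ ⟨n, hn⟩ ⟨x, hx⟩⁻¹, ?_, ?_⟩
    · show ν _ = 1
      rw [map_mul, hν, map_inv, mul_inv_cancel]
    · show x * (n * x⁻¹ * n⁻¹) = x * n * x⁻¹ * n⁻¹
      group
  rw [← Transfer.commutator_inf_eq_commutator_normalizer, hG, top_inf_eq] at hsub
  obtain ⟨a', ha', e⟩ := hsub ha
  have he : a' = ⟨a, ha⟩ := Subtype.ext e
  have hfix : ∀ σ : φ.range, (σ : MulAut (P : Subgroup G)) a' = a' := by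
    rintro ⟨_, m, rfl⟩
    rw [he]
    refine Subtype.ext ?_
    show (m : G) * a * (m : G)⁻¹ = a
    rw [(hc m m.2).eq, mul_inv_cancel_right]
  have hpow : a' ^ Nat.card φ.range = 1 := by
    have h : ν a' = 1 := ha'
    rw [← h, Nat.card_eq_fintype_card, ← Finset.card_univ, ← Finset.prod_const]
    exact Finset.prod_congr rfl fun σ _ => (hfix σ).symm
  have hodd : Odd (Nat.card φ.range) := by
    rw [← Subgroup.index_ker φ]
    have hPN : (P : Subgroup G).subgroupOf N ≤ φ.ker := by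
      intro m hm
      rw [MonoidHom.mem_ker]
      refine MulEquiv.ext fun w => Subtype.ext ?_
      show (m : G) * (w : G) * (m : G)⁻¹ = (w : G)
      rw [show (m : G) * (w : G) = (w : G) * (m : G) from congrArg Subtype.val
        (mul_comm' (⟨(m : G), mem_subgroupOf.1 hm⟩ : (P : Subgroup G)) w), mul_inv_cancel_right]
    refine Odd.of_dvd_nat (n := ((P : Subgroup G).subgroupOf N).index) ?_ (index_dvd_of_le hPN)
    refine Odd.of_dvd_nat (n := (P : Subgroup G).index) ?_ ?_
    · exact Nat.not_even_iff_odd.1 fun h => P.not_dvd_index (even_iff_two_dvd.1 h)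
    · exact relIndex_dvd_index_of_le le_normalizer
  obtain ⟨k, hk⟩ := P.isPGroup' a'
  have h1 := pow_gcd_eq_one.2 ⟨hpow, hk⟩
  rw [Nat.Coprime.gcd_eq_one ((Nat.coprime_two_right.2 hodd).pow_right k), pow_one, he] at h1
  exact congrArg Subtype.val h1

/-- A normal subgroup with Sylow 2-subgroup `A` and fixed-point-free automiser. -/
theorem exists_normal_of_closed {G : Type u} [Group G] [Finite G] (hO2 : pCore 2 G = ⊥)
    (hodd : oddCore G = ⊥) (S : Sylow 2 G) (A : Subgroup G) (hA2 : ∀ a ∈ A, a * a = 1)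
    (hsc : IsStronglyClosed A (S : Subgroup G))
    (hcov : ∀ T : Subgroup G, A ≤ T → T ≤ (S : Subgroup G) → (∀ t ∈ T, t * t = 1 → t ∈ A) → T = A) :
    ∃ K : Subgroup G, K.Normal ∧ A ≤ K ∧ (∀ s ∈ (S : Subgroup G), s ∈ K → s ∈ A) ∧
      (∀ n ∈ K ⊓ normalizer (A : Set G), ∃ m, Odd m ∧ n ^ m ∈ centralizer (A : Set G)) ∧
      (∀ a ∈ A, (∀ n ∈ K ⊓ normalizer (A : Set G), Commute n a) → a = 1) := by
  haveI : Fact (Nat.Prime 2) := ⟨Nat.prime_two⟩
  have hAc : IsMulCommutative A := ⟨⟨fun a b => Subtype.ext (by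
    have h := inv_eq_of_mul_eq_one_right (hA2 _ (mul_mem a.2 b.2))
    rw [mul_inv_rev, inv_eq_of_mul_eq_one_right (hA2 _ a.2), inv_eq_of_mul_eq_one_right (hA2 _ b.2)] at h
    exact h.symm)⟩⟩
  set K := normalClosure (A : Set G) with hK
  haveI : K.Normal := normalClosure_normal
  have hAK : A ≤ K := subset_normalClosure
  have hOK : pPrimeCore 2 K = ⊥ := by
    have h := Cores.pPrimeCore_map_subtype (p := 2) K
    rw [show pPrimeCore 2 G = ⊥ from hodd, bot_inf_eq] at h
    exact (map_eq_bot_iff_of_injective _ K.subtype_injective).1 h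
  have hO2K : pCore 2 K = ⊥ := by
    have h := Cores.pCore_map_subtype (p := 2) K
    rw [hO2, bot_inf_eq] at h
    exact (map_eq_bot_iff_of_injective _ K.subtype_injective).1 h
  obtain ⟨hperf, -, ⟨T, hAT, hAeq⟩, -⟩ := S2775.result S A hAc hsc K hK K (MonoidHom.id K)
    Function.surjective_id (by rw [hOK]; exact (MonoidHom.ker_eq_bot_iff _).2 Function.injective_id)
  rw [map_id] at hAT hAeq
  rw [hO2K, bot_sup_eq] at hperf hAeq
  -- the Sylow subgroup of `K` inside `S`
  have hSK : ∀ s ∈ (S : Subgroup G), s ∈ K → s * s = 1 → s ∈ A := by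
    intro s hs hsK hs2
    obtain ⟨R, hR⟩ := (S.isPGroup'.comap_subtype (K := K)).exists_le_sylow
    obtain ⟨g, hg⟩ := MulAction.exists_smul_eq K R T
    have hsR : (⟨s, hsK⟩ : K) ∈ (R : Subgroup K) := hR hs
    have h1 : g * ⟨s, hsK⟩ * g⁻¹ ∈ (T : Subgroup K) := hg ▸ ⟨⟨s, hsK⟩, hsR, rfl⟩
    have h2 : g * ⟨s, hsK⟩ * g⁻¹ ∈ A.subgroupOf K := by
      rw [hAeq]
      refine subset_closure ⟨h1, ?_⟩
      rw [pow_two, conj_mul, show (⟨s, hsK⟩ : K) * ⟨s, hsK⟩ = 1 from Subtype.ext hs2, mul_one,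
        mul_inv_cancel]
    have h3 := hsc.2 _ (mem_subgroupOf.1 h2) (g : G)⁻¹
    have e : (g : G)⁻¹ * ((g * ⟨s, hsK⟩ * g⁻¹ : K) : G) * ((g : G)⁻¹)⁻¹ = s := by
      show (g : G)⁻¹ * ((g : G) * s * (g : G)⁻¹) * ((g : G)⁻¹)⁻¹ = s
      group
    rw [e] at h3
    exact h3 hs
  have hTeq : (S : Subgroup G) ⊓ K = A :=
    hcov _ (le_inf hsc.1 hAK) inf_le_left fun t ht h2 => hSK t ht.1 ht.2 h2
  obtain ⟨R, hR⟩ := (S.isPGroup'.comap_subtype (K := K)).exists_le_sylow
  have hRA : (R : Subgroup K) = A.subgroupOf K := by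
    obtain ⟨S', hS'⟩ := (R.isPGroup'.map K.subtype).exists_le_sylow
    obtain ⟨g, hg⟩ := MulAction.exists_smul_eq G S' S
    have hcard : Nat.card (R : Subgroup K) ≤ Nat.card A := by
      rw [← Cores.card_map_subtype K (R : Subgroup K),
        Nat.card_congr (equivMapOfInjective ((R : Subgroup K).map K.subtype) (MulAut.conj g).toMonoidHom
          (MulAut.conj g).injective).toEquiv, ← hTeq]
      refine Nat.le_of_dvd Nat.card_pos (card_dvd_of_le (le_inf ?_ ?_))
      · rw [← hg]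
        exact map_mono hS'
      · rintro _ ⟨_, ⟨r, -, rfl⟩, rfl⟩
        exact ‹K.Normal›.conj_mem _ r.2 g
    refine (eq_of_le_of_card_ge ?_ (hcard.trans ?_)).symm
    · intro a ha
      exact hR (hsc.1 (mem_subgroupOf.1 ha))
    · rw [Cores.card_subgroupOf hAK]
  haveI : IsMulCommutative (R : Subgroup K) := by
    rw [hRA]
    exact ⟨⟨fun a b => Subtype.ext (Subtype.ext (show ((a : K) : G) * ((b : K) : G) = (b : K) * (a : K) from
      congrArg Subtype.val (mul_comm' (⟨_, mem_subgroupOf.1 a.2⟩ : A) ⟨_, mem_subgroupOf.1 b.2⟩)))⟩⟩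
  refine ⟨K, inferInstance, hAK, fun s hs hsK => hTeq ▸ ⟨hs, hsK⟩, ?_, ?_⟩
  · rintro n ⟨hnK, hnA⟩
    obtain ⟨k, j, hj, hkj⟩ := Nat.exists_eq_two_pow_mul_odd (orderOf_pos (⟨n, hnK⟩ : K)).ne'
    refine ⟨j, hj, mem_centralizer_iff.2 fun a ha => ?_⟩
    set nK : K := ⟨n, hnK⟩ with hnKdef
    have hnR : nK ^ j ∈ normalizer ((R : Subgroup K) : Set K) := by
      refine pow_mem (mem_normalizer_iff.2 fun x => ?_) j
      rw [hRA, mem_subgroupOf, mem_subgroupOf]
      exact mem_normalizer_iff.1 hnA (x : G)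
    have h2 : IsPGroup 2 (zpowers (nK ^ j) ⊔ (R : Subgroup K) : Subgroup K) := by
      refine IsPGroup.to_sup_of_normal_right' (IsPGroup.of_card (n := k) ?_) R.isPGroup' (zpowers_le.2 hnR)
      rw [Nat.card_zpowers, orderOf_pow_of_dvd hj.pos.ne' (hkj ▸ dvd_mul_left j _), hkj,
        Nat.mul_div_cancel _ hj.pos]
    have hmem : nK ^ j ∈ (R : Subgroup K) := by
      rw [← R.is_maximal' h2 le_sup_right]
      exact mem_sup_left (mem_zpowers _)
    rw [hRA] at hmem
    exact congrArg Subtype.val (mul_comm' (⟨a, ha⟩ : A) ⟨n ^ j, mem_subgroupOf.1 hmem⟩)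
  · intro a ha hfix
    have h := eq_one_of_perfect hperf R (a := (⟨a, hAK ha⟩ : K)) (by rw [hRA]; exact ha) fun m hm =>
      Subtype.ext (hfix (m : G) ⟨m.2, Coprime.mem_normalizer_of_forall fun x hx => by
        have h1 := (mem_normalizer_iff.1 hm ⟨x, hAK hx⟩).1 (by rw [hRA]; exact hx)
        rw [hRA] at h1
        exact h1⟩).eq
    exact congrArg Subtype.val h

end Cfsg.Agent.AltEightType
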