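import Cfsg.Agent.Lib.PSpFourThree.Setup
import Mathlib.Tactic

/-!
Coded copies of `SL₂(3)` and of the centraliser of `PSp₄(3)` (S2918; piece of helper80).

* `exists_sl24` : elements with the relations of `SL₂(3)` generate a coded copy
* `exists_setup_of_parts` : two commuting copies interchanged by an involution give a `Setup`
-/

set_option autoImplicit false

namespace Cfsg.Agent.AltEightType

open PSpFourThree

/-- The product of two codes of `SL₂(3)`. -/
def slF (a b : Fin 24) : Fin 24 := ⟨sl a b % 24, Nat.mod_lt _ (by decide)⟩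

/-- Generator indices of normal words `i^a j^b t^s x^c` (`i = 1`, `j = 7`, `t = 12`, `x = 3`). -/
def word : Fin 24 → List (Fin 4) :=
  ![[], [0], [1, 2, 3, 3], [3], [0, 3, 3], [1, 2, 3], [0, 2, 3], [1], [2, 3, 3], [0, 1, 3, 3],
    [0, 1, 3], [0, 1], [2], [0, 2], [1, 3, 3], [2, 3], [0, 2, 3, 3], [1, 3], [0, 3], [1, 2],
    [3, 3], [0, 1, 2, 3, 3], [0, 1, 2, 3], [0, 1, 2]]

/-- The codes of the generators. -/
def genCode : Fin 4 → Fin 24 := ![1, 7, 12, 3]

theorem word_spec : ∀ a b, (word b).foldl (fun p g => slF p (genCode g)) a = slF a b := by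
  decide +kernel

theorem slF_zero : ∀ b, slF 0 b = b := by decide +kernel

theorem slF_inv : ∀ a, ∃ a', slF a a' = 0 ∧ slF a' a = 0 := by decide +kernel

theorem slF_twelve : ∀ a : Fin 24, slF a 12 = a + 12 ∧ slF 12 a = a + 12 := by decide +kernel

theorem slF_left_cancel : ∀ a c c' : Fin 24, slF c' c = 0 →
    (slF c' a = 0 ∨ slF c' a = 12) → a.val % 12 = c.val % 12 := by
  decide +kernel

theorem normal_closure : ∀ k : Fin 24, k ≠ 0 → ∃ k' a a', slF k k' = 0 ∧ slF a a' = 0 ∧
    (k = 12 ∨ slF k k = 12 ∨ slF (slF k k) k = 12 ∨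
      slF (slF (slF k a) k') a' = 12 ∨
      slF (slF (slF (slF k a) k') a') (slF (slF (slF k a) k') a') = 12) := by
  decide +kernel

variable {G : Type*} [Group G]

/-- Relations of `SL₂(3)`. -/
structure SLRel (i j x t : G) : Prop where
  ii : i * i = t
  jj : j * j = t
  tne : t ≠ 1
  tt : t * t = 1
  ji : j * i = i * j * t
  xxx : x ^ 3 = 1
  xi : x * i * x⁻¹ = j
  xj : x * j * x⁻¹ = i * j

/-- The value of a code. -/
def slVal (i j x t : G) (k : Fin 24) : G := ((word k).map ![i, j, t, x]).prod

theorem slVal_gen {i j x t : G} (h : SLRel i j x t) (k : Fin 24) (g : Fin 4) :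
    slVal i j x t k * ![i, j, t, x] g = slVal i j x t (slF k (genCode g)) := by
  have ii := h.ii; have jj := h.jj; have tt := h.tt; have ji := h.ji
  have ii' : ∀ w, i * (i * w) = t * w := fun w => by rw [← mul_assoc, ii]
  have jj' : ∀ w, j * (j * w) = t * w := fun w => by rw [← mul_assoc, jj]
  have ti : t * i = i * t := by rw [← ii, mul_assoc]
  have tj : t * j = j * t := by rw [← jj, mul_assoc]
  have ti' : ∀ w, t * (i * w) = i * (t * w) := fun w => by rw [← mul_assoc, ti, mul_assoc]
  have tj' : ∀ w, t * (j * w) = j * (t * w) := fun w => by rw [← mul_assoc, tj, mul_assoc]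
  have tt' : ∀ w, t * (t * w) = w := fun w => by rw [← mul_assoc, tt, one_mul]
  have ji1 : j * i = i * (j * t) := by rw [ji, mul_assoc]
  have ji' : ∀ w, j * (i * w) = i * (j * (t * w)) := fun w => by
    rw [← mul_assoc j, ji, mul_assoc, mul_assoc]
  have xi : x * i = j * x := mul_inv_eq_iff_eq_mul.1 h.xi
  have xj : x * j = i * (j * x) := by rw [← mul_assoc]; exact mul_inv_eq_iff_eq_mul.1 h.xj
  have xi' : ∀ w, x * (i * w) = j * (x * w) := fun w => by rw [← mul_assoc, xi, mul_assoc]
  have xj' : ∀ w, x * (j * w) = i * (j * (x * w)) := fun w => by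
    rw [← mul_assoc, xj, mul_assoc, mul_assoc]
  have xt : x * t = t * x := by
    have e : x * t * x⁻¹ = t := by
      conv_lhs => rw [← ii, show x * (i * i) * x⁻¹ = x * i * x⁻¹ * (x * i * x⁻¹) by group, h.xi, jj]
    exact mul_inv_eq_iff_eq_mul.1 e
  have xt' : ∀ w, x * (t * w) = t * (x * w) := fun w => by rw [← mul_assoc, xt, mul_assoc]
  have xxx : x * (x * x) = 1 := by rw [← h.xxx, pow_three]
  fin_cases g <;> fin_cases k <;>
    simp [slVal, word, genCode, slF, sl, tbl, mul_assoc, ii, jj, tt, ji1, ii', jj', ti, tj, ti', tj',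
      tt', ji', xi, xj, xi', xj', xt, xt', xxx]

theorem slVal_foldl {i j x t : G} (h : SLRel i j x t) : ∀ (l : List (Fin 4)) (a : Fin 24),
    slVal i j x t (l.foldl (fun p g => slF p (genCode g)) a) = slVal i j x t a * (l.map ![i, j, t, x]).prod
  | [], a => by simp
  | g :: l, a => by
    rw [List.foldl_cons, slVal_foldl h l, ← slVal_gen h a g, List.map_cons, List.prod_cons, mul_assoc]

theorem slVal_mul {i j x t : G} (h : SLRel i j x t) (a b : Fin 24) :
    slVal i j x t (slF a b) = slVal i j x t a * slVal i j x t b := by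
  rw [← word_spec a b, slVal_foldl h]
  rfl

/-- A coded copy of `SL₂(3)`. -/
structure SLCode (e : Fin 24 → G) : Prop where
  map_mul : ∀ a b, e (slF a b) = e a * e b
  inj : Function.Injective e

theorem SLCode.map_zero {e : Fin 24 → G} (h : SLCode e) : e 0 = 1 :=
  mul_eq_left.1 ((h.map_mul 0 0).symm.trans (congrArg e (slF_zero 0)))

/-- Elements satisfying the relations of `SL₂(3)` generate a coded copy. -/
theorem exists_sl24 {i j x t : G} (h : SLRel i j x t) :
    ∃ e : Fin 24 → G, SLCode e ∧ e 12 = t ∧ e 1 = i ∧ e 7 = j ∧ e 3 = x ∧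
      Set.range e = (Subgroup.closure ({i, j, x} : Set G) : Set G) := by
  have hmul := slVal_mul h
  set e := slVal i j x t with he
  have e0 : e 0 = 1 := rfl
  have e1 : e 1 = i := mul_one i
  have e7 : e 7 = j := mul_one j
  have e3 : e 3 = x := mul_one x
  have e12 : e 12 = t := mul_one t
  have hker : ∀ k, e k = 1 → k = 0 := by
    intro k hk
    by_contra h0
    obtain ⟨k', a, a', hk', ha, hcases⟩ := normal_closure k h0
    have hk'1 : e k' = 1 := by
      have := hmul k k'
      rw [hk', e0, hk, one_mul] at this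
      exact this.symm
    have hc : e (slF (slF (slF k a) k') a') = 1 := by
      rw [hmul, hmul, hmul, hk, hk'1, one_mul, mul_one, ← hmul, ha, e0]
    have ht : e 12 = 1 := by
      rcases hcases with e' | e' | e' | e' | e'
      · rw [← e', hk]
      · rw [← e', hmul, hk, one_mul]
      · rw [← e', hmul, hmul, hk, one_mul, one_mul]
      · rw [← e', hc]
      · rw [← e', hmul, hc, one_mul]
    exact h.tne (e12.symm.trans ht)
  have hinv : ∀ a, ∃ a', e a' = (e a)⁻¹ ∧ slF a a' = 0 ∧ slF a' a = 0 := by
    intro a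
    obtain ⟨a', ha, ha'⟩ := slF_inv a
    exact ⟨a', eq_inv_of_mul_eq_one_right (by rw [← hmul, ha, e0]), ha, ha'⟩
  have hinj : Function.Injective e := by
    intro a b hab
    obtain ⟨a', hea, ha, ha'⟩ := hinv a
    have h1 : slF a' b = 0 := hker _ (by rw [hmul, hea, ← hab, inv_mul_cancel])
    revert h1 ha'
    revert a' a b
    intro a b _ a' _ _ h2 h3
    exact (show ∀ a b c : Fin 24, slF c a = 0 → slF c b = 0 → a = b by decide +kernel) a b a' h2 h3
  refine ⟨e, ⟨hmul, hinj⟩, e12, e1, e7, e3, ?_⟩
  let K : Subgroup G :=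
    { carrier := Set.range e
      one_mem' := ⟨0, e0⟩
      mul_mem' := fun ⟨a, ha⟩ ⟨b, hb⟩ => ⟨slF a b, by rw [hmul, ha, hb]⟩
      inv_mem' := fun ⟨a, ha⟩ => by
        obtain ⟨a', hea, -, -⟩ := hinv a
        exact ⟨a', by rw [hea, ha]⟩ }
  refine Set.Subset.antisymm ?_ ?_
  · rintro _ ⟨k, rfl⟩
    refine Subgroup.list_prod_mem _ fun w hw => ?_
    obtain ⟨g, -, rfl⟩ := List.mem_map.1 hw
    fin_cases g
    · exact Subgroup.subset_closure (by simp)
    · exact Subgroup.subset_closure (by simp)
    · show t ∈ _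
      rw [← h.ii]
      exact mul_mem (Subgroup.subset_closure (by simp)) (Subgroup.subset_closure (by simp))
    · exact Subgroup.subset_closure (by simp)
  · refine (Subgroup.closure_le K).2 ?_
    rintro w (rfl | rfl | rfl)
    exacts [⟨1, e1⟩, ⟨7, e7⟩, ⟨3, e3⟩]

/-- The digits of a code. -/
def dA (x : Fin 576) : Fin 24 := ⟨x.val % 12, by omega⟩
/-- The second digit. -/
def dB (x : Fin 576) : Fin 24 := ⟨x.val / 12 % 24, Nat.mod_lt _ (by decide)⟩

/-- The code of a pair. -/
def pairCode (a b : Fin 24) (s : ℕ) : Fin 576 := ⟨(norm2 a b + 288 * s) % 576, Nat.mod_lt _ (by decide)⟩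

theorem sl_lt : ∀ a b : Fin 24, sl a b < 24 := by decide +kernel

theorem pairCode_spec : ∀ a b : Fin 24, ∀ s : Fin 2,
    (dA (pairCode a b s) = a ∧ dB (pairCode a b s) = b ∨
      dA (pairCode a b s) = a + 12 ∧ dB (pairCode a b s) = b + 12) ∧
      (pairCode a b s).val / 288 = s := by
  decide +kernel

theorem code_ext (x y : Fin 576) (ha : dA x = dA y) (hb : dB x = dB y)
    (hs : x.val / 288 = y.val / 288) : x = y := by
  have ha' := congrArg Fin.val ha
  have hb' := congrArg Fin.val hb
  simp only [dA, dB] at ha' hb'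
  apply Fin.ext
  omega

variable [Finite G]

/-- Two commuting copies interchanged by an involution give a coded centraliser. -/
theorem exists_setup_of_parts {e : Fin 24 → G} (he : SLCode e) {t u : G} (ht : e 12 = t)
    (hu : u * u = 1) (hut : Commute u t) (hc : ∀ a b, Commute (e a) (u * e b * u))
    (hint : ∀ a b, e a = u * e b * u → (a = 0 ∨ a = 12) ∧ (b = 0 ∨ b = 12))
    (hcard : Nat.card (Subgroup.centralizer ({t} : Set G)) = 576)
    (hout : ∀ a b, u ≠ e a * (u * e b * u)) :
    ∃ S : Setup G, S.t = t := by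
  classical
  let f : Fin 24 → G := fun b => u * e b * u
  have hf : ∀ a b, f (slF a b) = f a * f b := fun a b => by
    show u * e (slF a b) * u = u * e a * u * (u * e b * u)
    rw [he.map_mul, show u * e a * u * (u * e b * u) = u * e a * (u * u) * (e b * u) by group, hu]
    group
  have hfe : ∀ b, f b * u = u * e b := fun b => by
    show u * e b * u * u = u * e b
    rw [mul_assoc, hu, mul_one]
  have hef : ∀ a, e a * u = u * f a := fun a => by
    show e a * u = u * (u * e a * u)
    rw [show u * (u * e a * u) = u * u * e a * u by group, hu, one_mul]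
  have hf12 : f 12 = t := by show u * e 12 * u = t; rw [ht, hut.eq, mul_assoc, hu, mul_one]
  have e0 := he.map_zero
  have f0 : f 0 = 1 := by show u * e 0 * u = 1; rw [e0, mul_one, hu]
  have htt : t * t = 1 := by
    rw [← ht, ← he.map_mul, show slF 12 12 = 0 by decide +kernel, e0]
  have e12 : ∀ a, e (a + 12) = e a * t := fun a => by rw [← (slF_twelve a).1, he.map_mul, ht]
  have f12 : ∀ a, f (a + 12) = t * f a := fun a => by rw [← (slF_twelve a).2, hf, hf12]
  let ψ : Fin 24 → Fin 24 → ℕ → G := fun a b s => e a * f b * u ^ s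
  let φ : Fin 576 → G := fun x => ψ (dA x) (dB x) (x.val / 288)
  have hnorm : ∀ a b s, ψ (a + 12) (b + 12) s = ψ a b s := fun a b s => by
    show e (a + 12) * f (b + 12) * u ^ s = e a * f b * u ^ s
    rw [e12, f12, mul_assoc (e a) t, ← mul_assoc t t, htt, one_mul]
  have hpc : ∀ a b, ∀ s : Fin 2, φ (pairCode a b s) = ψ a b s := by
    intro a b s
    obtain ⟨hd, hs⟩ := pairCode_spec a b s
    show ψ _ _ ((pairCode a b s).val / 288) = _
    rw [hs]
    rcases hd with ⟨h1, h2⟩ | ⟨h1, h2⟩ <;> rw [h1, h2]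
    exact hnorm a b s
  have hmul : ∀ x y, φ (cmul x y) = φ x * φ y := by
    intro x y
    have hy : y.val / 288 < 2 := by omega
    by_cases hx : x.val < 288
    · have he' : cmul x y = pairCode (slF (dA x) (dA y)) (slF (dB x) (dB y)) (⟨_, hy⟩ : Fin 2) := by
        unfold cmul
        simp only [if_pos hx, pairCode, slF, Nat.mod_eq_of_lt (sl_lt _ _)]
        rfl
      rw [he', hpc]
      show ψ _ _ (y.val / 288) = ψ (dA x) (dB x) (x.val / 288) * ψ (dA y) (dB y) (y.val / 288)
      rw [show x.val / 288 = 0 by omega]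
      simp only [ψ, pow_zero, mul_one, he.map_mul, hf]
      calc e (dA x) * e (dA y) * (f (dB x) * f (dB y)) * u ^ (y.val / 288)
          = e (dA x) * (e (dA y) * f (dB x)) * f (dB y) * u ^ (y.val / 288) := by
            simp only [mul_assoc]
        _ = e (dA x) * (f (dB x) * e (dA y)) * f (dB y) * u ^ (y.val / 288) := by
            rw [show e (dA y) * f (dB x) = f (dB x) * e (dA y) from (hc (dA y) (dB x)).eq]
        _ = _ := by simp only [mul_assoc]
    · have hs : (1 + y.val / 288) % 2 < 2 := Nat.mod_lt _ two_pos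
      have he' : cmul x y = pairCode (slF (dA x) (dB y)) (slF (dB x) (dA y)) (⟨_, hs⟩ : Fin 2) := by
        unfold cmul
        simp only [if_neg hx, pairCode, slF, Nat.mod_eq_of_lt (sl_lt _ _)]
        rfl
      rw [he', hpc]
      show ψ _ _ ((1 + y.val / 288) % 2) = ψ (dA x) (dB x) (x.val / 288) * ψ (dA y) (dB y) (y.val / 288)
      rw [show x.val / 288 = 1 by omega]
      have hp : ∀ n < 2, u ^ ((1 + n) % 2) = u * u ^ n := by
        intro n hn
        interval_cases n <;> simp [hu]
      show e (slF _ _) * f (slF _ _) * u ^ _ = _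
      rw [hp _ hy, he.map_mul, hf]
      calc e (dA x) * e (dB y) * (f (dB x) * f (dA y)) * (u * u ^ (y.val / 288))
          = e (dA x) * (e (dB y) * f (dB x)) * (f (dA y) * u) * u ^ (y.val / 288) := by group
        _ = e (dA x) * (f (dB x) * e (dB y)) * (u * e (dA y)) * u ^ (y.val / 288) := by
            rw [(hc (dB y) (dB x)).eq, hfe]
        _ = e (dA x) * f (dB x) * (e (dB y) * u) * e (dA y) * u ^ (y.val / 288) := by group
        _ = e (dA x) * f (dB x) * (u * f (dB y)) * e (dA y) * u ^ (y.val / 288) := by rw [hef]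
        _ = e (dA x) * f (dB x) * u * (f (dB y) * e (dA y)) * u ^ (y.val / 288) := by group
        _ = e (dA x) * f (dB x) * u * (e (dA y) * f (dB y)) * u ^ (y.val / 288) := by
            rw [(hc (dA y) (dB y)).eq]
        _ = _ := by simp only [ψ, pow_one]; group
  have hinj : Function.Injective φ := by
    intro x y hxy
    have hs : x.val / 288 = y.val / 288 := by
      by_contra hne
      obtain ⟨a, b, c, d, hu'⟩ : ∃ a b c d, e a * f b * u = e c * f d := by
        rcases (show x.val / 288 = 1 ∧ y.val / 288 = 0 ∨ x.val / 288 = 0 ∧ y.val / 288 = 1 by omega)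
          with ⟨h1, h2⟩ | ⟨h1, h2⟩
        · exact ⟨dA x, dB x, dA y, dB y, by simpa [φ, ψ, h1, h2] using hxy⟩
        · exact ⟨dA y, dB y, dA x, dB x, by simpa [φ, ψ, h1, h2] using hxy.symm⟩
      obtain ⟨a', ha, ha'⟩ := slF_inv a
      obtain ⟨b', hb, hb'⟩ := slF_inv b
      refine hout (slF a' c) (slF b' d) ?_
      have h1 : e a' * e a = 1 := by rw [← he.map_mul, ha', e0]
      have h2 : f b' * f b = 1 := by rw [← hf, hb', f0]
      show u = e (slF a' c) * f (slF b' d)
      rw [he.map_mul, hf]
      calc u = f b' * (e a' * e a) * f b * u := by rw [h1, mul_one, h2, one_mul]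
        _ = f b' * e a' * (e a * f b * u) := by group
        _ = e a' * f b' * (e c * f d) := by rw [hu', (hc a' b').eq]
        _ = e a' * (f b' * e c) * f d := by group
        _ = e a' * (e c * f b') * f d := by rw [(hc c b').eq]
        _ = _ := by group
    have hab : e (dA x) * f (dB x) = e (dA y) * f (dB y) := by
      simpa [φ, ψ, hs] using hxy
    obtain ⟨c', hc1, hc2⟩ := slF_inv (dA y)
    obtain ⟨b', hb1, hb2⟩ := slF_inv (dB x)
    have h1 : e c' * e (dA y) = 1 := by rw [← he.map_mul, hc2, e0]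
    have h2 : f (dB x) * f b' = 1 := by rw [← hf, hb1, f0]
    have h3 : e (slF c' (dA x)) = f (slF (dB y) b') := by
      rw [he.map_mul, hf]
      calc e c' * e (dA x) = e c' * (e (dA x) * f (dB x)) * f b' := by
            rw [mul_assoc (e c'), mul_assoc (e (dA x)), h2, mul_one]
        _ = e c' * e (dA y) * (f (dB y) * f b') := by rw [hab]; group
        _ = _ := by rw [h1, one_mul]
    have ha : dA x = dA y := by
      have hmod := slF_left_cancel (dA x) (dA y) c' hc2 (hint _ _ h3).1
      apply Fin.ext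
      simp only [dA] at hmod ⊢
      omega
    refine code_ext x y ha ?_ hs
    rw [ha] at hab
    exact he.inj (mul_left_cancel (mul_right_cancel (mul_left_cancel hab : f (dB x) = f (dB y))))
  have hT : φ cT = t := by
    show ψ (dA cT) (dB cT) (cT.val / 288) = t
    rw [show dA cT = 0 by decide, show dB cT = 12 by decide, show cT.val / 288 = 0 by decide]
    simp only [ψ, e0, hf12, pow_zero, one_mul, mul_one]
  have hcomm : ∀ x, Commute (φ x) t := by
    intro x
    have h1 : ∀ a, Commute (e a) t := fun a => by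
      rw [← ht, commute_iff_eq, ← he.map_mul, ← he.map_mul, (slF_twelve a).1, (slF_twelve a).2]
    have h2 : ∀ b, Commute (f b) t := fun b => (hut.mul_left (h1 b)).mul_left hut
    exact ((h1 _).mul_left (h2 _)).mul_left (hut.pow_left _)
  have hrange : ∀ g : G, (∃ x, φ x = g) ↔ Commute g (φ cT) := by
    intro g
    rw [hT]
    refine ⟨fun ⟨x, hx⟩ => hx ▸ hcomm x, fun hg => ?_⟩
    let φ' : Fin 576 → Subgroup.centralizer ({t} : Set G) := fun x =>
      ⟨φ x, Subgroup.mem_centralizer_singleton_iff.2 (hcomm x).eq⟩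
    have hb : Function.Bijective φ' := by
      rw [Nat.bijective_iff_injective_and_card]
      exact ⟨fun a b h => hinj (congrArg Subtype.val h), by rw [hcard, Nat.card_fin]⟩
    obtain ⟨x, hx⟩ := hb.2 ⟨g, Subgroup.mem_centralizer_singleton_iff.2 hg.eq⟩
    exact ⟨x, congrArg Subtype.val hx⟩
  exact ⟨Setup.ofHom φ hmul hinj hrange, hT⟩

end Cfsg.Agent.AltEightType
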