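/-
A subgroup containing a Sylow 2-subgroup, its normaliser and all centralisers of its involutions.

* `centralizer_le_of_sylow`: it contains the centralisers of all its own involutions
* `isStronglyEmbedded_of_sylow`: if proper it is strongly embedded
* `eq_top_of_centralizers`: with two classes of involutions it is everything
-/
import Cfsg.Agent.Lib.Involution.StronglyEmbedded

set_option autoImplicit false
set_option linter.style.haveILetI false

namespace Cfsg.Agent.AltEightType

open Subgroup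
open scoped Pointwise

variable {G : Type*} [Group G] [Finite G]

/-- The involution centralisers of the Sylow subgroup control those of `M`. -/
theorem centralizer_le_of_sylow (M : Subgroup G) (S : Sylow 2 G) (hSM : (S : Subgroup G) ≤ M)
    (hC : ∀ s ∈ (S : Subgroup G), orderOf s = 2 → centralizer ({s} : Set G) ≤ M) :
    ∀ t ∈ M, orderOf t = 2 → centralizer ({t} : Set G) ≤ M := by
  haveI : Fact (Nat.Prime 2) := ⟨Nat.prime_two⟩
  intro t htM ht c hc
  have hz : IsPGroup 2 (zpowers (⟨t, htM⟩ : M)) :=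
    IsPGroup.of_card (n := 1) (by rw [Nat.card_zpowers, ← Subgroup.orderOf_coe, ht, pow_one])
  obtain ⟨Q, hQ⟩ := hz.exists_le_sylow
  obtain ⟨m, hm⟩ := MulAction.exists_smul_eq M Q (S.subtype hSM)
  have hmem : (m : G) * t * (m : G)⁻¹ ∈ (S : Subgroup G) := by
    have h : m * ⟨t, htM⟩ * m⁻¹ ∈ (S.subtype hSM : Subgroup M) := by
      rw [← hm]
      exact Subgroup.smul_mem_pointwise_smul _ (MulAut.conj m) _ (hQ (mem_zpowers _))
    rw [Sylow.coe_subtype, mem_subgroupOf] at h
    exact h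
  have hcm : (m : G) * c * (m : G)⁻¹ ∈ M := hC _ hmem (by rw [Involution.orderOf_conj, ht]) <| by
    rw [mem_centralizer_singleton_iff]
    calc (m : G) * c * (m : G)⁻¹ * ((m : G) * t * (m : G)⁻¹) = m * (c * t) * (m : G)⁻¹ := by group
      _ = m * (t * c) * (m : G)⁻¹ := by rw [mem_centralizer_singleton_iff.1 hc]
      _ = (m : G) * t * (m : G)⁻¹ * ((m : G) * c * (m : G)⁻¹) := by group
  simpa [mul_assoc] using M.mul_mem (M.mul_mem (M.inv_mem m.2) hcm) m.2

/-- If proper, such a subgroup is strongly embedded. -/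
theorem isStronglyEmbedded_of_sylow (M : Subgroup G) (S : Sylow 2 G) (hSM : (S : Subgroup G) ≤ M)
    (hN : normalizer ((S : Subgroup G) : Set G) ≤ M)
    (hC : ∀ s ∈ (S : Subgroup G), orderOf s = 2 → centralizer ({s} : Set G) ≤ M) (hne : M ≠ ⊤)
    (heven : Even (Nat.card M)) : Cfsg.IsStronglyEmbedded M := by
  haveI : Fact (Nat.Prime 2) := ⟨Nat.prime_two⟩
  have hCM := centralizer_le_of_sylow M S hSM hC
  refine Involution.isStronglyEmbedded_iff_forall.2 ⟨hne, heven, fun g t ht htM hg => ?_⟩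
  obtain ⟨Q, hQ⟩ : ∃ Q : Sylow 2 G, zpowers t ≤ Q :=
    (IsPGroup.of_card (n := 1) (by rw [Nat.card_zpowers, ht, pow_one])).exists_le_sylow
  have key : ∀ P : Sylow 2 G, (P : Subgroup G) ≤ M → ∃ m : M, (m : G) • P = S := by
    intro P hP
    obtain ⟨m, hm⟩ := MulAction.exists_smul_eq M (P.subtype hP) (S.subtype hSM)
    refine ⟨m, Sylow.ext ?_⟩
    have hsub : ((m : G) • P : Sylow 2 G).toSubgroup ≤ M := by
      rintro _ ⟨q, hq, rfl⟩
      exact M.mul_mem (M.mul_mem m.2 (hP hq)) (M.inv_mem m.2)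
    have e : (m • P.subtype hP : Sylow 2 M) = ((m : G) • P).subtype hsub := by
      apply Sylow.ext
      ext a
      rw [Sylow.coe_subtype, mem_subgroupOf]
      constructor
      · rintro ⟨b, hb, rfl⟩
        exact ⟨b, hb, rfl⟩
      · rintro ⟨b, hb, hab⟩
        exact ⟨⟨b, hP hb⟩, hb, Subtype.ext hab⟩
    have h1 := congrArg (fun R : Sylow 2 M => (R : Subgroup M).map M.subtype) (e.symm.trans hm)
    simpa only [Sylow.coe_subtype, Subgroup.map_subgroupOf_eq_of_le hsub,
      Subgroup.map_subgroupOf_eq_of_le hSM] using h1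
  have htQ : t ∈ Q := hQ (mem_zpowers t)
  obtain ⟨m, hm⟩ := key Q (Involution.two_group_le_of_centralizer_le hCM Q.isPGroup' ht htQ htM)
  have htgQ : g * t * g⁻¹ ∈ ((g • Q : Sylow 2 G) : Subgroup G) :=
    Subgroup.smul_mem_pointwise_smul _ (MulAut.conj g) _ htQ
  obtain ⟨n, hn⟩ := key (g • Q) (Involution.two_group_le_of_centralizer_le hCM (g • Q).isPGroup'
    (by rw [Involution.orderOf_conj, ht]) htgQ hg)
  have hfix : ((n : G) * g * (m : G)⁻¹) • S = S := by
    have hmQ : (m : G)⁻¹ • S = Q := by rw [← hm, inv_smul_smul]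
    rw [mul_smul, hmQ, mul_smul, hn]
  have := hN (Sylow.smul_eq_iff_mem_normalizer.1 hfix)
  simpa [mul_assoc] using M.mul_mem (M.mul_mem (M.inv_mem n.2) this) m.2

theorem eq_top_of_centralizers (M : Subgroup G) (S : Sylow 2 G) (hSM : (S : Subgroup G) ≤ M)
    (hN : normalizer ((S : Subgroup G) : Set G) ≤ M)
    (hC : ∀ s ∈ (S : Subgroup G), orderOf s = 2 → centralizer ({s} : Set G) ≤ M)
    {a b : G} (ha : orderOf a = 2) (hb : orderOf b = 2) (hab : ¬ IsConj a b) : M = ⊤ := by
  by_contra hne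
  refine hab (Involution.isConj_involutions
    (isStronglyEmbedded_of_sylow M S hSM hN hC hne ?_) ha hb)
  haveI : Fact (Nat.Prime 2) := ⟨Nat.prime_two⟩
  obtain ⟨Q, hQ⟩ : ∃ Q : Sylow 2 G, zpowers a ≤ Q :=
    (IsPGroup.of_card (n := 1) (by rw [Nat.card_zpowers, ha, pow_one])).exists_le_sylow
  obtain ⟨g, hg⟩ := MulAction.exists_smul_eq G Q S
  have hmem : g * a * g⁻¹ ∈ M :=
    hSM (hg ▸ Subgroup.smul_mem_pointwise_smul _ (MulAut.conj g) _ (hQ (mem_zpowers a)))
  refine even_iff_two_dvd.2 ?_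
  rw [← ha, ← Involution.orderOf_conj g a]
  exact Subgroup.orderOf_dvd_natCard M hmem

end Cfsg.Agent.AltEightType
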