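import Cfsg.Agent.EqLemmas
import Mathlib.GroupTheory.Sylow
import Mathlib.GroupTheory.Transfer
import Mathlib.GroupTheory.SchurZassenhaus
import Mathlib.GroupTheory.GroupAction.SubMulAction
import Mathlib.Tactic

/-!
Orbits of odd length on an elementary group of order sixteen (S2918; piece of helper80).

* `orbit_cases` : the orbit of the `P`-fixed vector has length 1, 3, 5, 7, 9 or 15
* `orbit_ne_seven`, `orbit_ne_five`, `orbit_ne_fifteen`
-/

set_option autoImplicit false
set_option linter.style.haveILetI false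

namespace Cfsg.Agent.AltEightType

open MulAction

variable {X V : Type*} [Group X] [CommGroup V] [MulDistribMulAction X V]

/-- The fixed subgroup of an element. -/
def fixGroup (V : Type*) [CommGroup V] [MulDistribMulAction X V] (g : X) : Subgroup V where
  carrier := {v | g • v = v}
  one_mem' := smul_one g
  mul_mem' {a b} (ha : g • a = a) (hb : g • b = b) := show g • (a * b) = a * b by rw [smul_mul', ha, hb]
  inv_mem' {a} (ha : g • a = a) := show g • a⁻¹ = a⁻¹ by rw [smul_inv', ha]

@[simp] theorem mem_fixGroup {g : X} {v : V} : v ∈ fixGroup V g ↔ g • v = v := Iff.rfl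

/-- Counting the fixed points of an element of prime order in an invariant subgroup. -/
theorem card_fix_mod [Finite V] {p : ℕ} [hp : Fact p.Prime] {g : X} (hg : g ^ p = 1) {W : Subgroup V}
    (hW : ∀ v ∈ W, g • v ∈ W) :
    Nat.card W % p = Nat.card ↥(W ⊓ fixGroup V g) % p := by
  let σ : Equiv.Perm W :=
    { toFun := fun v => ⟨g • v.1, hW v.1 v.2⟩
      invFun := fun v => ⟨g⁻¹ • v.1, by
        have h : ∀ n : ℕ, g ^ n • v.1 ∈ W := fun n => by
          induction n with
          | zero => rw [pow_zero, one_smul]; exact v.2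
          | succ n ih => rw [pow_succ', mul_smul]; exact hW _ ih
        have he : g⁻¹ = g ^ (p - 1) := inv_eq_of_mul_eq_one_right (by
          rw [← pow_succ', Nat.sub_add_cancel hp.out.pos, hg])
        rw [he]; exact h _⟩
      left_inv := fun v => Subtype.ext (inv_smul_smul g v.1)
      right_inv := fun v => Subtype.ext (smul_inv_smul g v.1) }
  have hσ : ∀ (n : ℕ) (v : W), ((σ ^ n) v).1 = g ^ n • v.1 := by
    intro n
    induction n with
    | zero => intro v; simp
    | succ n ih => intro v; rw [pow_succ', pow_succ', Equiv.Perm.mul_apply, mul_smul, ← ih]; rfl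
  have hσp : σ ^ p = 1 := Equiv.ext fun v => Subtype.ext (by rw [hσ, hg, one_smul]; rfl)
  have hG : IsPGroup p (Subgroup.zpowers σ) := fun x => ⟨1, by
    obtain ⟨k, hk⟩ := x.2
    apply Subtype.ext
    rw [pow_one, Subgroup.coe_pow, Subgroup.coe_one, ← hk, ← zpow_natCast, ← zpow_mul, mul_comm,
      zpow_mul, zpow_natCast, hσp, one_zpow]⟩
  have h1 := hG.card_modEq_card_fixedPoints W
  have h2 : Nat.card (fixedPoints (Subgroup.zpowers σ) W) = Nat.card ↥(W ⊓ fixGroup V g) := by
    refine Nat.card_congr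
      { toFun := fun v => ⟨v.1.1, v.1.2, congrArg Subtype.val (v.2 ⟨σ, Subgroup.mem_zpowers σ⟩)⟩
        invFun := fun v => ⟨⟨v.1, v.2.1⟩, fun x => ?_⟩
        left_inv := fun _ => rfl
        right_inv := fun _ => rfl }
    have hmem : σ ∈ stabilizer (Equiv.Perm W) (⟨v.1, v.2.1⟩ : W) := Subtype.ext v.2.2
    exact (Subgroup.zpowers_le.2 hmem) x.2
  rw [h2] at h1
  exact h1

/-- The fixed group of an element of prime order has order congruent to sixteen. -/
theorem card_fixGroup_mod [Finite V] {p : ℕ} [Fact p.Prime] {g : X} (hg : g ^ p = 1)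
    (hV : Nat.card V = 16) : Nat.card (fixGroup V g) % p = 16 % p := by
  have h := card_fix_mod hg (W := (⊤ : Subgroup V)) fun _ _ => Subgroup.mem_top _
  rw [Subgroup.card_top, hV, top_inf_eq] at h
  exact h.symm

theorem dvd_sixteen {n : ℕ} (h : n ∣ 16) : n = 1 ∨ n = 2 ∨ n = 4 ∨ n = 8 ∨ n = 16 := by
  have hle := Nat.le_of_dvd (by norm_num) h
  interval_cases n <;> omega

theorem fixGroup_ne_top [FaithfulSMul X V] {g : X} (h : g ≠ 1) : fixGroup V g ≠ ⊤ := fun ht =>
  h (eq_of_smul_eq_smul fun v : V => by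
    rw [one_smul]
    exact mem_fixGroup.1 (ht ▸ Subgroup.mem_top v))

theorem card_fixGroup_ne [Finite V] [FaithfulSMul X V] {g : X} (h : g ≠ 1) (hV : Nat.card V = 16) :
    Nat.card (fixGroup V g) ≠ 16 := fun hc =>
  fixGroup_ne_top h (Subgroup.eq_top_of_card_eq _ (hc.trans hV.symm))

/-- A Sylow subgroup of prime order. -/
theorem card_sylow_eq {G : Type*} [Group G] [Finite G] {p k : ℕ} [hp : Fact p.Prime] (C : Sylow p G)
    (h : Nat.card G = k * p) (hk : ¬ p ∣ k) : Nat.card (C : Subgroup G) = p := by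
  have hk0 : k ≠ 0 := fun e => hk (e ▸ dvd_zero p)
  rw [Sylow.card_eq_multiplicity, h, Nat.factorization_mul hk0 hp.out.ne_zero, Finsupp.add_apply,
    Nat.factorization_eq_zero_of_not_dvd hk, hp.out.factorization_self, zero_add, pow_one]

variable [Finite X] [Finite V] [FaithfulSMul X V] (hV : Nat.card V = 16) (P : Sylow 2 X)
  (hP4 : Nat.card (P : Subgroup X) = 4) (hPexp : ∀ p ∈ (P : Subgroup X), p ^ 2 = 1) {z : V}
  (hz1 : z ≠ 1) (hz : ∀ p ∈ (P : Subgroup X), p • z = z)

include hV hz1 hz in
/-- The length of the orbit of a vector fixed by a Sylow 2-subgroup. -/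
theorem orbit_cases : (orbit X z).ncard ∈ ({1, 3, 5, 7, 9, 15} : Finset ℕ) := by
  classical
  have hidx : (orbit X z).ncard = (stabilizer X z).index := (index_stabilizer X z).symm
  have hodd : ¬ 2 ∣ (orbit X z).ncard := by
    rw [hidx]
    intro h
    exact P.not_dvd_index' Subgroup.FiniteIndex.index_ne_zero
      (h.trans (Subgroup.index_dvd_of_le fun p hp => hz p hp))
  have hle : (orbit X z).ncard ≤ 15 := by
    have hsub : orbit X z ⊆ (Set.univ : Set V) \ {1} := by
      rintro _ ⟨x, rfl⟩
      refine ⟨trivial, fun h => hz1 ?_⟩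
      have := congrArg (x⁻¹ • ·) (Set.mem_singleton_iff.1 h)
      simpa using this
    refine (Set.ncard_le_ncard hsub (Set.toFinite _)).trans ?_
    rw [Set.ncard_sdiff_singleton_of_mem (Set.mem_univ _), Set.ncard_univ, hV]
  have hbad : ∀ p : ℕ, p.Prime → p ∈ [11, 13] → ¬ p ∣ (orbit X z).ncard := by
    intro p hp hmem hdvd
    haveI := Fact.mk hp
    have hX : p ∣ Nat.card X := hdvd.trans (hidx ▸ Subgroup.index_dvd_card _)
    obtain ⟨g, hg⟩ := exists_prime_orderOf_dvd_card' p hX
    have hg1 : g ≠ 1 := fun h => hp.one_lt.ne' (by rw [← hg, h, orderOf_one])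
    have hgp : g ^ p = 1 := hg ▸ pow_orderOf_eq_one g
    have hmod := card_fixGroup_mod hgp hV
    rcases dvd_sixteen (hV ▸ Subgroup.card_subgroup_dvd_card (fixGroup V g)) with h | h | h | h | h
    all_goals first
      | exact card_fixGroup_ne hg1 hV h
      | (rw [h] at hmod; fin_cases hmem <;> norm_num at hmod)
  have h11 := hbad 11 (by norm_num) (by simp)
  have h13 := hbad 13 (by norm_num) (by simp)
  generalize (orbit X z).ncard = m at hodd hle h11 h13 ⊢
  interval_cases m <;> simp_all

include hV hz1 hz in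
/-- No orbit of length seven. -/
theorem orbit_ne_seven (hfix : ∀ v, (∀ p ∈ (P : Subgroup X), p • v = v) → v = 1 ∨ v = z)
    (hst : Nat.card (stabilizer X z) = 4 ∨ Nat.card (stabilizer X z) = 12) :
    (orbit X z).ncard ≠ 7 := by
  intro hm
  haveI : Fact (Nat.Prime 7) := ⟨by norm_num⟩
  have hcard : Nat.card X = Nat.card (stabilizer X z) * 7 := by
    rw [← hm, ← index_stabilizer X z, Subgroup.card_mul_index]
  let C : Sylow 7 X := default
  have hC : Nat.card (C : Subgroup X) = 7 := by
    refine card_sylow_eq C hcard ?_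
    rcases hst with h | h <;> rw [h] <;> norm_num
  have hn : Nat.card (Sylow 7 X) = 1 := by
    have h1 := card_sylow_modEq_one 7 X
    have h2 := C.card_dvd_index
    have hi : (C : Subgroup X).index = Nat.card (stabilizer X z) := by
      have := (C : Subgroup X).card_mul_index
      rw [hC, hcard] at this
      omega
    rw [hi] at h2
    have hle := Nat.le_of_dvd Nat.card_pos h2
    rw [Nat.ModEq] at h1
    rcases hst with h | h <;> rw [h] at h2 hle <;>
      generalize Nat.card (Sylow 7 X) = n at h1 h2 hle <;> interval_cases n <;> omega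
  haveI : Subsingleton (Sylow 7 X) := (Nat.card_eq_one_iff_unique.1 hn).1
  haveI := C.normal_of_subsingleton
  obtain ⟨g, hgC⟩ := exists_prime_orderOf_dvd_card' (G := (C : Subgroup X)) 7 (by rw [hC])
  have hgen : ∀ c ∈ (C : Subgroup X), c ∈ Subgroup.zpowers g.1 := by
    intro c hc
    have htop : Subgroup.zpowers g = ⊤ := Subgroup.eq_top_of_card_eq _ (by
      rw [Nat.card_zpowers, hgC, hC])
    obtain ⟨k, hk⟩ := (htop ▸ Subgroup.mem_top (⟨c, hc⟩ : (C : Subgroup X)) :
      (⟨c, hc⟩ : (C : Subgroup X)) ∈ Subgroup.zpowers g)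
    exact ⟨k, congrArg Subtype.val hk⟩
  have hg7 : g.1 ^ 7 = 1 := orderOf_dvd_iff_pow_eq_one.1 (by rw [Subgroup.orderOf_coe, hgC])
  have hg1 : g.1 ≠ 1 := fun h => by
    rw [show g = 1 from Subtype.ext h, orderOf_one] at hgC; omega
  have hmod := card_fixGroup_mod hg7 hV
  have hcf : Nat.card (fixGroup V g.1) = 2 := by
    rcases dvd_sixteen (hV ▸ Subgroup.card_subgroup_dvd_card (fixGroup V g.1)) with h | h | h | h | h
    all_goals first
      | exact h
      | exact absurd h (card_fixGroup_ne hg1 hV)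
      | (rw [h] at hmod; norm_num at hmod)
  obtain ⟨b, hb⟩ := (Subgroup.ne_bot_iff_exists_ne_one (H := fixGroup V g.1)).1
    (fun hb => by rw [hb, Subgroup.card_bot] at hcf; omega)
  obtain ⟨a, ha⟩ := b
  have ha1 : a ≠ 1 := fun h' => hb (Subtype.ext h')
  have huniq : ∀ v ∈ fixGroup V g.1, v = 1 ∨ v = a := by
    intro v hv
    by_contra hne
    push Not at hne
    have h3 : ({1, a, v} : Set V).ncard = 3 :=
      Set.ncard_eq_three.2 ⟨1, a, v, Ne.symm ha1, Ne.symm hne.1, Ne.symm hne.2, rfl⟩
    have h4 := Set.ncard_le_ncard (s := ({1, a, v} : Set V)) (t := (fixGroup V g.1 : Set V)) (by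
      rintro w (rfl | rfl | rfl)
      · exact one_mem _
      · exact ha
      · exact hv) (Set.toFinite _)
    rw [h3, ← Nat.card_coe_set_eq] at h4
    have : Nat.card (fixGroup V g.1 : Set V) = 2 := hcf
    omega
  have hPa : ∀ p ∈ (P : Subgroup X), p • a = a := by
    intro p _
    have hmem : p • a ∈ fixGroup V g.1 := by
      obtain ⟨k, hk⟩ := hgen _ (‹(C : Subgroup X).Normal›.conj_mem _ g.2 p⁻¹)
      have hst' : g.1 ^ k ∈ stabilizer X a := zpow_mem (mem_stabilizer_iff.2 ha) k
      have h1 : (p⁻¹ * g.1 * p⁻¹⁻¹) • a = a := by rw [← hk]; exact mem_stabilizer_iff.1 hst'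
      rw [inv_inv, mul_smul, mul_smul] at h1
      rw [mem_fixGroup]
      have := congrArg (p • ·) h1
      simpa using this
    rcases huniq _ hmem with h | h
    · refine absurd ?_ ha1
      have := congrArg (p⁻¹ • ·) h
      simpa using this
    · exact h
  rcases hfix a hPa with h | h
  · exact ha1 h
  · subst h
    have hd := Subgroup.orderOf_dvd_natCard _ (mem_stabilizer_iff.2 (mem_fixGroup.1 ha) : g.1 ∈ stabilizer X a)
    rw [Subgroup.orderOf_coe, hgC] at hd
    rcases hst with h | h <;> rw [h] at hd <;> norm_num at hd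

include hV hP4 hPexp hz1 hz in
/-- No normal subgroup of order five. -/
theorem false_of_normal_five (N : Subgroup X) [hN : N.Normal] (hN5 : Nat.card N = 5) : False := by
  classical
  haveI : Fact (Nat.Prime 5) := ⟨by norm_num⟩
  obtain ⟨g, hg⟩ := exists_prime_orderOf_dvd_card' (G := N) 5 (by rw [hN5])
  have hgen : ∀ c ∈ N, c ∈ Subgroup.zpowers g.1 := by
    intro c hc
    have htop : Subgroup.zpowers g = ⊤ := Subgroup.eq_top_of_card_eq _ (by rw [Nat.card_zpowers, hg, hN5])
    obtain ⟨k, hk⟩ := (htop ▸ Subgroup.mem_top (⟨c, hc⟩ : N) : (⟨c, hc⟩ : N) ∈ Subgroup.zpowers g)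
    exact ⟨k, congrArg Subtype.val hk⟩
  have hg5 : g.1 ^ 5 = 1 := orderOf_dvd_iff_pow_eq_one.1 (by rw [Subgroup.orderOf_coe, hg])
  have hg1 : g.1 ≠ 1 := fun h => by rw [show g = 1 from Subtype.ext h, orderOf_one] at hg; omega
  -- an element of `P` centralising `N`
  obtain ⟨c, hcP, hc1, hcg⟩ : ∃ c ∈ (P : Subgroup X), c ≠ 1 ∧ c * g.1 = g.1 * c := by
    by_contra hcon
    push Not at hcon
    have hk : ∀ p ∈ (P : Subgroup X), p ≠ 1 → p * g.1 * p⁻¹ = g.1⁻¹ := by
      intro p hp hp1
      obtain ⟨k, hk⟩ := hgen _ (hN.conj_mem _ g.2 p)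
      have hk2 : g.1 ^ (k * k) = g.1 := by
        have h2 : p * (p * g.1 * p⁻¹) * p⁻¹ = g.1 ^ (k * k) := by
          rw [← hk, zpow_mul, ← conj_zpow, ← hk]
        rw [← h2, show p * (p * g.1 * p⁻¹) * p⁻¹ = p * p * g.1 * (p * p)⁻¹ by group, ← sq, hPexp p hp]
        group
      have hd : (5 : ℤ) ∣ k * k - 1 := by
        have h3 : g.1 ^ (k * k - 1) = 1 := by rw [zpow_sub_one, hk2, mul_inv_cancel]
        have h4 := orderOf_dvd_iff_zpow_eq_one.2 h3
        rwa [Subgroup.orderOf_coe, hg] at h4
      have h5 : (5 : ℤ) ∣ k - 1 ∨ (5 : ℤ) ∣ k + 1 := (Int.prime_iff_natAbs_prime.2 (by norm_num) :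
        Prime (5 : ℤ)).dvd_or_dvd (by rwa [show (k - 1) * (k + 1) = k * k - 1 by ring])
      rcases h5 with ⟨j, hj⟩ | ⟨j, hj⟩
      · exfalso
        refine hcon p hp hp1 ?_
        have : g.1 ^ k = g.1 := by
          rw [show k = 5 * j + 1 by omega, zpow_add_one, zpow_mul,
            show (5 : ℤ) = ((5 : ℕ) : ℤ) by rfl, zpow_natCast, hg5, one_zpow, one_mul]
        have hk' : p * g.1 * p⁻¹ = g.1 := hk.symm.trans this
        exact mul_inv_eq_iff_eq_mul.1 hk'
      · rw [← hk, show k = 5 * j + -1 by omega]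
        show g.1 ^ (5 * j + -1) = _
        rw [zpow_add, zpow_mul, show (5 : ℤ) = ((5 : ℕ) : ℤ) by rfl, zpow_natCast, hg5, one_zpow,
          one_mul, zpow_neg_one]
    obtain ⟨p, hp, hp1⟩ : ∃ p ∈ (P : Subgroup X), p ≠ 1 := by
      by_contra h
      push Not at h
      rw [(Subgroup.eq_bot_iff_forall _).2 h, Subgroup.card_bot] at hP4
      omega
    obtain ⟨q, hq, hq1, hqp⟩ : ∃ q ∈ (P : Subgroup X), q ≠ 1 ∧ q ≠ p := by
      by_contra h
      push Not at h
      have hle : ((P : Subgroup X) : Set X) ⊆ {1, p} := fun q hq => by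
        by_cases hq1 : q = 1
        · simp [hq1]
        · simp [h q hq hq1]
      have h2 := Set.ncard_le_ncard hle (Set.toFinite _)
      rw [← Nat.card_coe_set_eq] at h2
      have h3 : ({1, p} : Set X).ncard ≤ 2 := (Set.ncard_insert_le _ _).trans (by simp)
      have h4 : Nat.card ↥((P : Subgroup X) : Set X) = 4 := hP4
      omega
    have hpq : p * q ≠ 1 := fun h => hqp (by
      rw [← inv_eq_of_mul_eq_one_right h, inv_eq_of_mul_eq_one_right (by rw [← sq, hPexp p hp])])
    refine hcon (p * q) (mul_mem hp hq) hpq ?_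
    have h1 : p * q * g.1 * (p * q)⁻¹ = g.1 := by
      rw [show p * q * g.1 * (p * q)⁻¹ = p * (q * g.1 * q⁻¹) * p⁻¹ by group, hk q hq hq1,
        ← conj_inv, hk p hp hp1, inv_inv]
    exact mul_inv_eq_iff_eq_mul.1 h1
  have hinv : ∀ v ∈ fixGroup V c, g.1 • v ∈ fixGroup V c := fun v hv => by
    rw [mem_fixGroup, ← mul_smul, hcg, mul_smul, mem_fixGroup.1 hv]
  have hmod := card_fix_mod hg5 hinv
  have hfg : Nat.card (fixGroup V g.1) = 1 := by
    have h5 := card_fixGroup_mod hg5 hV
    rcases dvd_sixteen (hV ▸ Subgroup.card_subgroup_dvd_card (fixGroup V g.1)) with h | h | h | h | h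
    all_goals first
      | exact h
      | exact absurd h (card_fixGroup_ne hg1 hV)
      | (rw [h] at h5; norm_num at h5)
  rw [Subgroup.card_eq_one] at hfg
  rw [hfg, inf_bot_eq, Subgroup.card_bot] at hmod
  rcases dvd_sixteen (hV ▸ Subgroup.card_subgroup_dvd_card (fixGroup V c)) with h | h | h | h | h
  all_goals first
    | exact card_fixGroup_ne hc1 hV h
    | (rw [h] at hmod; norm_num at hmod; done)
    | (rw [Subgroup.card_eq_one] at h
       have hzc : z ∈ fixGroup V c := mem_fixGroup.2 (hz c hcP)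
       rw [h, Subgroup.mem_bot] at hzc
       exact hz1 hzc)

include hV hP4 hPexp hz1 hz in
/-- No orbit of length five. -/
theorem orbit_ne_five (hst : Nat.card (stabilizer X z) = 4) : (orbit X z).ncard ≠ 5 := by
  intro hm
  haveI : Fact (Nat.Prime 5) := ⟨by norm_num⟩
  have hcard : Nat.card X = 20 := by
    rw [← Subgroup.card_mul_index (stabilizer X z), hst, index_stabilizer, hm]
  let C : Sylow 5 X := default
  have hC : Nat.card (C : Subgroup X) = 5 := by
    exact card_sylow_eq C (k := 4) hcard (by norm_num)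
  have hn : Nat.card (Sylow 5 X) = 1 := by
    have h1 := card_sylow_modEq_one 5 X
    have h2 := C.card_dvd_index
    have hi : (C : Subgroup X).index = 4 := by
      have := (C : Subgroup X).card_mul_index
      rw [hC, hcard] at this
      omega
    rw [hi] at h2
    have hle := Nat.le_of_dvd (by norm_num) h2
    rw [Nat.ModEq] at h1
    generalize Nat.card (Sylow 5 X) = n at h1 h2 hle
    interval_cases n <;> omega
  haveI : Subsingleton (Sylow 5 X) := (Nat.card_eq_one_iff_unique.1 hn).1
  haveI := C.normal_of_subsingleton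
  exact false_of_normal_five hV P hP4 hPexp hz1 hz C hC

include hV hP4 hPexp hz1 hz in
/-- No orbit of length fifteen. -/
theorem orbit_ne_fifteen (hfix : ∀ v, (∀ p ∈ (P : Subgroup X), p • v = v) → v = 1 ∨ v = z)
    (hst : Nat.card (stabilizer X z) = 4) : (orbit X z).ncard ≠ 15 := by
  intro hm
  haveI : Fact (Nat.Prime 5) := ⟨by norm_num⟩
  have hcard : Nat.card X = 60 := by
    rw [← Subgroup.card_mul_index (stabilizer X z), hst, index_stabilizer, hm]
  have hPst : (P : Subgroup X) = stabilizer X z :=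
    Subgroup.eq_of_le_of_card_ge (fun p hp => hz p hp) (by rw [hst, hP4])
  have hNP : Subgroup.normalizer ((P : Subgroup X) : Set X) ≤ Subgroup.centralizer ((P : Subgroup X) : Set X) := by
    intro n hn
    have hnz : n ∈ (P : Subgroup X) := by
      rw [hPst]
      refine mem_stabilizer_iff.2 ((hfix (n • z) fun p hp => ?_).resolve_left fun h => hz1 ?_)
      · have h1 := (Subgroup.mem_normalizer_iff''.1 hn p).1 hp
        have h2 := hz _ h1
        rw [mul_smul, mul_smul] at h2
        have := congrArg (n • ·) h2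
        simpa using this
      · have := congrArg (n⁻¹ • ·) h
        simpa using this
    rw [Subgroup.mem_centralizer_iff]
    intro p hp
    have h1 : (p * n) * (p * n) = 1 := by rw [← sq]; exact hPexp _ (mul_mem hp hnz)
    calc p * n = (p * n)⁻¹ := (inv_eq_of_mul_eq_one_right h1).symm
      _ = n⁻¹ * p⁻¹ := mul_inv_rev p n
      _ = n * p := by
        rw [inv_eq_of_mul_eq_one_right (by rw [← sq]; exact hPexp _ hnz),
          inv_eq_of_mul_eq_one_right (by rw [← sq]; exact hPexp _ hp)]
  have hT := MonoidHom.ker_transferSylow_isComplement' P hNP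
  set N := (MonoidHom.transferSylow P hNP).ker
  have hN15 : Nat.card N = 15 := by
    have := hT.card_mul_card
    rw [hP4, hcard] at this
    omega
  let C : Sylow 5 N := default
  have hC : Nat.card (C : Subgroup N) = 5 := by
    exact card_sylow_eq C (k := 3) hN15 (by norm_num)
  have hn : Nat.card (Sylow 5 N) = 1 := by
    have h1 := card_sylow_modEq_one 5 N
    have h2 := C.card_dvd_index
    have hi : (C : Subgroup N).index = 3 := by
      have := (C : Subgroup N).card_mul_index
      rw [hC, hN15] at this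
      omega
    rw [hi] at h2
    have hle := Nat.le_of_dvd (by norm_num) h2
    rw [Nat.ModEq] at h1
    generalize Nat.card (Sylow 5 N) = n at h1 h2 hle
    interval_cases n <;> omega
  haveI : Subsingleton (Sylow 5 N) := (Nat.card_eq_one_iff_unique.1 hn).1
  haveI : (C : Subgroup N).Characteristic := C.characteristic_of_subsingleton
  haveI : ((C : Subgroup N).map N.subtype).Normal := inferInstance
  exact false_of_normal_five hV P hP4 hPexp hz1 hz ((C : Subgroup N).map N.subtype)
    (by rw [Subgroup.card_map_of_injective N.subtype_injective, hC])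

end Cfsg.Agent.AltEightType
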