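/-
No orbit of length fifteen on `2^4` with stabiliser of order twelve and a four-group fixing one vector.

* `orbit_ne_fifteen_twelve` : a group of order 180 would embed in `S₆` with index four
-/
import Cfsg.Agent.Lib.AltEightType.Orbit
import Mathlib.GroupTheory.SpecificGroups.Alternating.Simple
import Mathlib.GroupTheory.GroupAction.Quotient

set_option autoImplicit false
set_option linter.style.haveILetI false

namespace Cfsg.Agent.AltEightType

open MulAction

/-- `S₆` has no subgroup of order 180. -/
theorem card_ne_oneEighty {α : Type*} [Fintype α] [DecidableEq α] (hα : Fintype.card α = 6)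
    (R : Subgroup (Equiv.Perm α)) : Nat.card R ≠ 180 := by
  intro h
  haveI : Nontrivial α := Fintype.one_lt_card_iff_nontrivial.1 (by omega)
  have hP : Nat.card (Equiv.Perm α) = 720 := by
    rw [Nat.card_perm, Nat.card_eq_fintype_card, hα]; rfl
  have hi : R.index = 4 := by
    have := R.card_mul_index
    rw [h, hP] at this
    omega
  have hA : Nat.card (alternatingGroup α) = 360 := by
    rw [nat_card_alternatingGroup, Nat.card_eq_fintype_card, hα]; rfl
  haveI := alternatingGroup.isSimpleGroup (α := α) (by rw [Nat.card_eq_fintype_card, hα]; norm_num)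
  set H := R.subgroupOf (alternatingGroup α) with hH
  have hHi : H.index ≤ 4 := by
    have h1 := Subgroup.relIndex_le_of_le_right (H := R) (K := alternatingGroup α) le_top
      (by rw [Subgroup.relIndex_top_right, hi]; norm_num)
    rwa [Subgroup.relIndex_top_right, hi] at h1
  rcases (Subgroup.normalCore_normal H).eq_bot_or_eq_top with hc | hc
  · have h1 := Subgroup.normalCore_eq_ker H
    rw [hc] at h1
    have h2 := Nat.card_le_card_of_injective _ ((MonoidHom.ker_eq_bot_iff _).1 h1.symm)
    rw [hA, Nat.card_perm, ← Subgroup.index] at h2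
    have := Nat.factorial_le hHi
    simp [Nat.factorial] at this
    omega
  · have h1 : alternatingGroup α ≤ R :=
      Subgroup.subgroupOf_eq_top.1 (top_le_iff.1 (hc ▸ Subgroup.normalCore_le H))
    have h2 := Nat.le_of_dvd Nat.card_pos (Subgroup.card_dvd_of_le h1)
    omega

variable {X V : Type*} [Group X] [CommGroup V] [MulDistribMulAction X V] [Finite X] [Finite V]
  [FaithfulSMul X V] (hV : Nat.card V = 16) (P : Sylow 2 X) (hP4 : Nat.card (P : Subgroup X) = 4)
  (hPexp : ∀ p ∈ (P : Subgroup X), p ^ 2 = 1) {z : V} (hz1 : z ≠ 1)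
  (hz : ∀ p ∈ (P : Subgroup X), p • z = z)

include hV hP4 hPexp hz1 hz in
/-- No orbit of length fifteen with stabiliser `A₄`. -/
theorem orbit_ne_fifteen_twelve (hfix : ∀ v, (∀ p ∈ (P : Subgroup X), p • v = v) → v = 1 ∨ v = z)
    (hst : Nat.card (stabilizer X z) = 12)
    (hPn : stabilizer X z ≤ Subgroup.normalizer ((P : Subgroup X) : Set X)) {w : X}
    (hwz : w ∈ stabilizer X z) (hw3 : orderOf w = 3)
    (hwP : w ∉ Subgroup.centralizer ((P : Subgroup X) : Set X)) : (orbit X z).ncard ≠ 15 := by
  classical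
  intro hm
  haveI : Fact (Nat.Prime 5) := ⟨by norm_num⟩
  have hcard : Nat.card X = 180 := by
    rw [← Subgroup.card_mul_index (stabilizer X z), hst, index_stabilizer, hm]
  have hPcomm : ∀ p ∈ (P : Subgroup X), ∀ q ∈ (P : Subgroup X), p * q = q * p := by
    intro p hp q hq
    have h := inv_eq_of_mul_eq_one_right ((pow_two _).symm.trans (hPexp _ (mul_mem hp hq)))
    rwa [mul_inv_rev, inv_eq_of_mul_eq_one_right ((pow_two _).symm.trans (hPexp _ hp)),
      inv_eq_of_mul_eq_one_right ((pow_two _).symm.trans (hPexp _ hq)), eq_comm] at h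
  -- what fixes the fixed vectors of `P` fixes `z`
  have hnz : ∀ n : X, (∀ p ∈ (P : Subgroup X), n⁻¹ * p * n ∈ (P : Subgroup X)) → n ∈ stabilizer X z := by
    intro n hn
    refine mem_stabilizer_iff.2 ((hfix (n • z) fun p hp => ?_).resolve_left fun h => hz1 ?_)
    · have h2 := hz _ (hn p hp)
      rw [mul_smul, mul_smul] at h2
      have := congrArg (n • ·) h2
      simpa using this
    · have := congrArg (n⁻¹ • ·) h
      simpa using this
  have hNst : Subgroup.normalizer ((P : Subgroup X) : Set X) ≤ stabilizer X z := fun n hn =>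
    hnz n fun p hp => (Subgroup.mem_normalizer_iff''.1 hn p).1 hp
  -- `w` fixes no involution of `P`
  have hwfix : ∀ i ∈ (P : Subgroup X), w * i * w⁻¹ = i → i = 1 := by
    intro i hi hwi
    by_contra hi1
    refine hwP (Subgroup.mem_centralizer_iff.2 fun q hq => ?_)
    have hwn := hPn hwz
    have hii : i * i = 1 := (pow_two i).symm.trans (hPexp i hi)
    by_cases hq1 : q = 1
    · rw [hq1, one_mul, mul_one]
    by_cases hqi : q = i
    · rw [hqi]; exact (mul_inv_eq_iff_eq_mul.1 hwi).symm
    -- the four elements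
    have hall : ∀ r ∈ (P : Subgroup X), r = 1 ∨ r = i ∨ r = q ∨ r = i * q := by
      intro r hr
      by_contra hne
      push Not at hne
      have hiq : i * q ≠ 1 := fun e => hqi (by
        rw [← inv_eq_of_mul_eq_one_right e, inv_eq_of_mul_eq_one_right hii])
      have h5 : ({1, i, q, i * q, r} : Finset X).card = 5 := by
        rw [Finset.card_insert_of_notMem, Finset.card_insert_of_notMem, Finset.card_insert_of_notMem,
          Finset.card_pair hne.2.2.2.symm]
        · simp [hne.2.2.1.symm, hi1]
        · simp [Ne.symm hqi, hne.2.1.symm, hq1]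
        · simp [Ne.symm hi1, Ne.symm hq1, hiq.symm, hne.1.symm]
      have hsub : (({1, i, q, i * q, r} : Finset X) : Set X) ⊆ ((P : Subgroup X) : Set X) := by
        intro a ha
        simp only [Finset.coe_insert, Finset.coe_singleton, Set.mem_insert_iff, Set.mem_singleton_iff] at ha
        rcases ha with rfl | rfl | rfl | rfl | rfl
        exacts [one_mem _, hi, hq, mul_mem hi hq, hr]
      have := Set.ncard_le_ncard hsub (Set.toFinite _)
      rw [Set.ncard_coe_finset, h5, ← Nat.card_coe_set_eq, SetLike.coe_sort_coe, hP4] at this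
      omega
    have hwq : w * q * w⁻¹ = q ∨ w * q * w⁻¹ = i * q := by
      rcases hall _ ((Subgroup.mem_normalizer_iff.1 hwn q).1 hq) with e | e | e | e
      · exact absurd (conj_eq_one_iff.1 e) hq1
      · exact absurd (mul_left_cancel (mul_right_cancel (e.trans hwi.symm))) hqi
      · exact Or.inl e
      · exact Or.inr e
    rcases hwq with e | e
    · exact (mul_inv_eq_iff_eq_mul.1 e).symm
    · exfalso
      have h3 : w * (w * (w * q * w⁻¹) * w⁻¹) * w⁻¹ = q := by
        have hw : w ^ 3 = 1 := hw3 ▸ pow_orderOf_eq_one w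
        calc w * (w * (w * q * w⁻¹) * w⁻¹) * w⁻¹ = w ^ 3 * q * (w ^ 3)⁻¹ := by
              simp [pow_succ, mul_assoc]
          _ = q := by rw [hw]; group
      have h2 : w * (w * q * w⁻¹) * w⁻¹ = q := by
        rw [e, ← conj_mul, hwi, e, ← mul_assoc, hii, one_mul]
      rw [h2, e] at h3
      exact hi1 (mul_eq_right.1 h3)
  -- Sylow 5-subgroups
  let C : Sylow 5 X := default
  have hidxN : (Subgroup.normalizer ((C : Subgroup X) : Set X)).index = Nat.card (Sylow 5 X) :=
    C.card_eq_index_normalizer.symm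
  have hC : Nat.card (C : Subgroup X) = 5 := card_sylow_eq C (k := 36) hcard (by norm_num)
  have hi36 : (C : Subgroup X).index = 36 := by
    have := (C : Subgroup X).card_mul_index
    rw [hC, hcard] at this
    omega
  have hn : Nat.card (Sylow 5 X) = 1 ∨ Nat.card (Sylow 5 X) = 6 ∨ Nat.card (Sylow 5 X) = 36 := by
    have h1 := card_sylow_modEq_one 5 X
    have h2 := C.card_dvd_index
    rw [hi36] at h2
    have hle := Nat.le_of_dvd (by norm_num) h2
    rw [Nat.ModEq] at h1
    generalize Nat.card (Sylow 5 X) = n at h1 h2 hle ⊢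
    interval_cases n <;> omega
  rcases hn with hn | hn | hn
  · haveI : Subsingleton (Sylow 5 X) := (Nat.card_eq_one_iff_unique.1 hn).1
    haveI := C.normal_of_subsingleton
    exact false_of_normal_five hV P hP4 hPexp hz1 hz C hC
  swap
  · -- `C` self-normalising: a normal complement and the Frattini argument
    have hNC : Subgroup.normalizer ((C : Subgroup X) : Set X) ≤
        Subgroup.centralizer ((C : Subgroup X) : Set X) := by
      have he : (C : Subgroup X) = Subgroup.normalizer ((C : Subgroup X) : Set X) := by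
        refine Subgroup.eq_of_le_of_card_ge Subgroup.le_normalizer ?_
        have := (Subgroup.normalizer ((C : Subgroup X) : Set X)).card_mul_index
        rw [hidxN, hn, hcard] at this
        omega
      haveI : IsCyclic (C : Subgroup X) := isCyclic_of_prime_card hC
      intro c hc
      rw [← he] at hc
      exact Subgroup.mem_centralizer_iff.2 fun d hd => congrArg Subtype.val
        ((IsCyclic.commGroup (α := (C : Subgroup X))).mul_comm ⟨d, hd⟩ ⟨c, hc⟩)
    have hT := MonoidHom.ker_transferSylow_isComplement' C hNC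
    set N := (MonoidHom.transferSylow C hNC).ker
    have hN36 : Nat.card N = 36 := by
      have := hT.card_mul_card
      rw [hC, hcard] at this
      omega
    have hPN : (P : Subgroup X) ≤ N := fun p hp => by
      rw [MonoidHom.mem_ker]
      refine orderOf_eq_one_iff.1 (Nat.eq_one_of_dvd_coprimes (show Nat.Coprime 2 5 by norm_num) ?_ ?_)
      · exact (orderOf_map_dvd _ p).trans (orderOf_dvd_of_pow_eq_one (hPexp p hp))
      · exact (orderOf_dvd_natCard _).trans (dvd_of_eq hC)
    have htop := Sylow.normalizer_sup_eq_top (P.subtype hPN)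
    rw [show ((P.subtype hPN : Subgroup N)).map N.subtype = (P : Subgroup X) by
      rw [Sylow.coe_subtype, Subgroup.subgroupOf_map_subtype, inf_eq_left.2 hPN]] at htop
    have h1 : Nat.card (↥(Subgroup.normalizer ((P : Subgroup X) : Set X) ⊔ N)) ∣
        Nat.card (Subgroup.normalizer ((P : Subgroup X) : Set X)) * Nat.card N := by
      have h2 := (N.subgroupOf (Subgroup.normalizer ((P : Subgroup X) : Set X) ⊔ N)).card_mul_index
      rw [Nat.card_congr (Subgroup.subgroupOfEquivOfLe le_sup_right).toEquiv] at h2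
      rw [← h2, mul_comm (Nat.card (Subgroup.normalizer _)) ]
      refine mul_dvd_mul_left _ ?_
      show N.relIndex _ ∣ _
      rw [Subgroup.relIndex_sup_right]
      exact Subgroup.relIndex_dvd_card _ _
    rw [htop, Subgroup.card_top, hcard, hN36] at h1
    have h3 := h1.trans (Nat.mul_dvd_mul_right (hst ▸ Subgroup.card_dvd_of_le hNst) 36)
    norm_num at h3
  -- six Sylow 5-subgroups
  haveI := Fintype.ofFinite (Sylow 5 X)
  set φ := MulAction.toPermHom X (Sylow 5 X)
  have hcardK : Nat.card φ.ker * Nat.card φ.range = 180 := by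
    rw [← Subgroup.index_ker, Subgroup.card_mul_index, hcard]
  have hKN : φ.ker ≤ Subgroup.normalizer ((C : Subgroup X) : Set X) := fun k hk => by
    have h : φ k C = C := by rw [MonoidHom.mem_ker.1 hk]; rfl
    exact Sylow.smul_eq_iff_mem_normalizer.1 h
  have hK30 : Nat.card φ.ker ∣ 30 := by
    refine (Subgroup.card_dvd_of_le hKN).trans (dvd_of_eq ?_)
    have := (Subgroup.normalizer ((C : Subgroup X) : Set X)).card_mul_index
    rw [hidxN, hn, hcard] at this
    omega
  have hK5 : ¬ 5 ∣ Nat.card φ.ker := by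
    intro h5
    obtain ⟨k, hk⟩ := exists_prime_orderOf_dvd_card' 5 h5
    have hk' : IsPGroup 5 (Subgroup.zpowers (k : X)) :=
      IsPGroup.of_card (n := 1) (by rw [Nat.card_zpowers, Subgroup.orderOf_coe, hk, pow_one])
    have hmem : ∀ D : Sylow 5 X, (D : Subgroup X) = Subgroup.zpowers (k : X) := by
      intro D
      have hD : (k : X) ∈ Subgroup.normalizer ((D : Subgroup X) : Set X) := by
        have h : φ (k : X) D = D := by rw [MonoidHom.mem_ker.1 k.2]; rfl
        exact Sylow.smul_eq_iff_mem_normalizer.1 h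
      have h1 : IsPGroup 5 (Subgroup.zpowers (k : X) ⊔ (D : Subgroup X) : Subgroup X) :=
        IsPGroup.to_sup_of_normal_right' hk' D.isPGroup' (Subgroup.zpowers_le.2 hD)
      have h2 : Subgroup.zpowers (k : X) ≤ (D : Subgroup X) := by
        rw [← D.is_maximal' h1 le_sup_right]; exact le_sup_left
      exact (Subgroup.eq_of_le_of_card_ge h2 (by
        rw [card_sylow_eq D (k := 36) hcard (by norm_num), Nat.card_zpowers, Subgroup.orderOf_coe, hk])).symm
    haveI : Subsingleton (Sylow 5 X) := ⟨fun D D' => Sylow.ext ((hmem D).trans (hmem D').symm)⟩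
    rw [Nat.card_eq_one_iff_unique.2 ⟨inferInstance, ⟨C⟩⟩] at hn
    omega
  have hK2 : ¬ 2 ∣ Nat.card φ.ker := by
    intro h2
    haveI : Fact (Nat.Prime 2) := ⟨Nat.prime_two⟩
    obtain ⟨k, hk⟩ := exists_prime_orderOf_dvd_card' 2 h2
    obtain ⟨R, hR⟩ := (IsPGroup.of_card (n := 1) (by
      rw [Nat.card_zpowers, Subgroup.orderOf_coe, hk, pow_one]) :
      IsPGroup 2 (Subgroup.zpowers (k : X))).exists_le_sylow
    obtain ⟨g, hg⟩ := MulAction.exists_smul_eq X R P
    have hP : g * k * g⁻¹ ∈ (P : Subgroup X) := hg ▸ ⟨k, hR (Subgroup.mem_zpowers _), rfl⟩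
    have hP' : g * k * g⁻¹ ∈ φ.ker := φ.normal_ker.conj_mem _ k.2 g
    -- `P ⊓ ker` has order two, so `w` fixes it
    set i := g * (k : X) * g⁻¹ with hi
    have hi1 : i ≠ 1 := fun e => by
      rw [show k = 1 from Subtype.ext (conj_eq_one_iff.1 e), orderOf_one] at hk
      omega
    refine hi1 (hwfix i hP ?_)
    by_contra hne
    set i' := w * i * w⁻¹ with hi'
    have hi'P : i' ∈ (P : Subgroup X) := (Subgroup.mem_normalizer_iff.1 (hPn hwz) i).1 hP
    have hi'K : i' ∈ φ.ker := φ.normal_ker.conj_mem _ hP' w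
    have hi'1 : i' ≠ 1 := fun e => hi1 (conj_eq_one_iff.1 e)
    have hPK : (P : Subgroup X) ≤ φ.ker := by
      have hle : Nat.card ↥((P : Subgroup X) ⊓ φ.ker) ∣ 4 :=
        hP4 ▸ Subgroup.card_dvd_of_le inf_le_left
      have h3 : ({1, i, i'} : Set X).ncard = 3 :=
        Set.ncard_eq_three.2 ⟨1, i, i', Ne.symm hi1, Ne.symm hi'1, Ne.symm hne, rfl⟩
      have h4 := Set.ncard_le_ncard (s := ({1, i, i'} : Set X))
        (t := (((P : Subgroup X) ⊓ φ.ker : Subgroup X) : Set X)) (by
          rintro a (rfl | rfl | rfl)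
          exacts [one_mem _, ⟨hP, hP'⟩, ⟨hi'P, hi'K⟩]) (Set.toFinite _)
      rw [h3, ← Nat.card_coe_set_eq, SetLike.coe_sort_coe] at h4
      have h5 := Nat.le_of_dvd (by norm_num) hle
      have h6 : Nat.card ↥((P : Subgroup X) ⊓ φ.ker) = 4 := by
        generalize Nat.card ↥((P : Subgroup X) ⊓ φ.ker) = m at h4 h5 hle ⊢
        interval_cases m <;> omega
      exact inf_eq_left.1 (Subgroup.eq_of_le_of_card_ge inf_le_left (by rw [h6, hP4]))
    have h4 := (Subgroup.card_dvd_of_le hPK).trans hK30
    rw [hP4] at h4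
    norm_num at h4
  have hK : Nat.card φ.ker = 1 := by
    have hle := Nat.le_of_dvd (by norm_num) hK30
    rcases (show Nat.card φ.ker = 1 ∨ Nat.card φ.ker = 3 by
      generalize Nat.card φ.ker = m at hK30 hK5 hK2 hle ⊢
      interval_cases m <;> omega) with h | h
    · exact h
    exfalso
    -- `P` centralises a normal subgroup of order three
    obtain ⟨y, hy⟩ : ∃ y : φ.ker, orderOf y = 3 :=
      haveI : Fact (Nat.Prime 3) := ⟨by norm_num⟩
      exists_prime_orderOf_dvd_card' 3 (by rw [h])
    haveI : IsCyclic φ.ker := @isCyclic_of_prime_card _ _ 3 ⟨by norm_num⟩ h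
    have hgen : ∀ x : X, x ∈ φ.ker → x = 1 ∨ x = y ∨ x = (y : X)⁻¹ := by
      intro x hx
      have hy1 : (y : X) ≠ 1 := fun e => by
        rw [show y = 1 from Subtype.ext e, orderOf_one] at hy; omega
      have hyy : (y : X) ≠ (y : X)⁻¹ := fun e => by
        have h2 : y ^ 2 = 1 := Subtype.ext (by
          rw [Subgroup.coe_pow, pow_two]; nth_rewrite 2 [e]; exact mul_inv_cancel _)
        have := Nat.le_of_dvd two_pos (orderOf_dvd_of_pow_eq_one h2)
        omega
      by_contra hne
      push Not at hne
      have h4 : ({1, (y : X), (y : X)⁻¹, x} : Finset X).card = 4 := by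
        rw [Finset.card_insert_of_notMem, Finset.card_insert_of_notMem, Finset.card_pair hne.2.2.symm]
        · simp [hyy, hne.2.1.symm]
        · simp [hy1.symm, (inv_ne_one.2 hy1).symm, hne.1.symm]
      have hsub : (({1, (y : X), (y : X)⁻¹, x} : Finset X) : Set X) ⊆ (φ.ker : Set X) := by
        intro a ha
        simp only [Finset.coe_insert, Finset.coe_singleton, Set.mem_insert_iff, Set.mem_singleton_iff] at ha
        rcases ha with rfl | rfl | rfl | rfl
        exacts [one_mem _, y.2, inv_mem y.2, hx]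
      have := Set.ncard_le_ncard hsub (Set.toFinite _)
      rw [Set.ncard_coe_finset, h4, ← Nat.card_coe_set_eq, SetLike.coe_sort_coe, h] at this
      omega
    have hact : ∀ g : X, g * y * g⁻¹ = y ∨ g * y * g⁻¹ = (y : X)⁻¹ := fun g => by
      rcases hgen _ (φ.normal_ker.conj_mem _ y.2 g) with e | e | e
      · exact absurd (show y = 1 from Subtype.ext (conj_eq_one_iff.1 e)) fun e => by
          rw [e, orderOf_one] at hy; omega
      · exact Or.inl e
      · exact Or.inr e
    -- conjugate elements act in the same way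
    have hsame : ∀ g k : X, k * g * k⁻¹ * y * (k * g * k⁻¹)⁻¹ = g * y * g⁻¹ := by
      intro g k
      have hk' : k⁻¹ * y * k = k * y * k⁻¹ := by
        rcases hact k with e | e
        · calc k⁻¹ * y * k = k⁻¹ * (k * y * k⁻¹) * k := by rw [e]
            _ = y := by group
            _ = k * y * k⁻¹ := e.symm
        · calc k⁻¹ * y * k = (k⁻¹ * (y : X)⁻¹ * k)⁻¹ := by group
            _ = (k⁻¹ * (k * y * k⁻¹) * k)⁻¹ := by rw [e]
            _ = (y : X)⁻¹ := by group
            _ = k * y * k⁻¹ := e.symm
      calc k * g * k⁻¹ * y * (k * g * k⁻¹)⁻¹ = k * (g * (k⁻¹ * y * k) * g⁻¹) * k⁻¹ := by group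
        _ = k * (g * (k * y * k⁻¹) * g⁻¹) * k⁻¹ := by rw [hk']
        _ = g * y * g⁻¹ := by
          rcases hact k with e | e <;> rcases hact g with e' | e'
          · rw [e, e', e]
          · rw [e, e', ← conj_inv, e]
          · rw [e, ← conj_inv, e', ← conj_inv, e, inv_inv]
          · rw [e, ← conj_inv, e', inv_inv, e]
    have hPy : ∀ p ∈ (P : Subgroup X), p * y = y * p := by
      intro p hp
      -- `p = q (w q w⁻¹)` for some `q`
      let F : ↥(P : Subgroup X) → ↥(P : Subgroup X) := fun q => ⟨(q : X) * (w * (q : X) * w⁻¹),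
        mul_mem q.2 ((Subgroup.mem_normalizer_iff.1 (hPn hwz) _).1 q.2)⟩
      have hinj : Function.Injective F := by
        intro a b hab
        have hab' : (a : X) * (w * a * w⁻¹) = b * (w * b * w⁻¹) := congrArg Subtype.val hab
        have hm : ∀ c ∈ (P : Subgroup X), w * c * w⁻¹ ∈ (P : Subgroup X) := fun c hc =>
          (Subgroup.mem_normalizer_iff.1 (hPn hwz) _).1 hc
        set c := (a : X)⁻¹ * b with hc
        have hcP : c ∈ (P : Subgroup X) := mul_mem (inv_mem a.2) b.2
        have h1 : c * (w * c * w⁻¹) = 1 := by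
          calc c * (w * c * w⁻¹) = (a : X)⁻¹ * (b * (w * (a : X)⁻¹ * w⁻¹)) * (w * b * w⁻¹) := by
                rw [hc]; group
            _ = (a : X)⁻¹ * ((w * (a : X)⁻¹ * w⁻¹) * b) * (w * b * w⁻¹) := by
                rw [hPcomm b b.2 _ (hm _ (inv_mem a.2))]
            _ = (a : X)⁻¹ * (w * (a : X)⁻¹ * w⁻¹) * ((a : X) * (w * a * w⁻¹)) := by rw [hab']; group
            _ = (a : X)⁻¹ * ((w * (a : X)⁻¹ * w⁻¹) * a) * (w * a * w⁻¹) := by group
            _ = 1 := by rw [hPcomm _ (hm _ (inv_mem a.2)) a a.2]; group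
        have h2 : w * c * w⁻¹ = c := by
          rw [← inv_eq_of_mul_eq_one_right h1]
          exact inv_eq_of_mul_eq_one_right ((pow_two c).symm.trans (hPexp c hcP))
        exact Subtype.ext (inv_mul_eq_one.1 (hwfix c hcP h2))
      obtain ⟨q, hq⟩ := (Finite.injective_iff_surjective.1 hinj) ⟨p, hp⟩
      have hqp : (q : X) * (w * q * w⁻¹) = p := congrArg Subtype.val hq
      refine mul_inv_eq_iff_eq_mul.1 ?_
      rw [← hqp, show (q : X) * (w * q * w⁻¹) * y * ((q : X) * (w * q * w⁻¹))⁻¹ =
        (q : X) * ((w * q * w⁻¹) * y * (w * q * w⁻¹)⁻¹) * (q : X)⁻¹ by group, hsame]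
      rcases hact (q : X) with e | e
      · rw [e, e]
      · rw [e, ← conj_inv, e, inv_inv]
    -- so `y` fixes `z` and commutes with all of the stabiliser
    have hyz : (y : X) ∈ stabilizer X z := hnz _ fun p hp => by
      rw [mul_assoc, hPy p hp, inv_mul_cancel_left]
      exact hp
    have hle : (P : Subgroup X) ⊔ Subgroup.zpowers (y : X) ≤
        stabilizer X z ⊓ Subgroup.centralizer ((P : Subgroup X) : Set X) :=
      sup_le (le_inf (fun p hp => hz p hp) fun p hp => Subgroup.mem_centralizer_iff.2 fun q hq =>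
        hPcomm q hq p hp) (Subgroup.zpowers_le.2 ⟨hyz, Subgroup.mem_centralizer_iff.2 hPy⟩)
    have hdvd : 12 ∣ Nat.card ↥((P : Subgroup X) ⊔ Subgroup.zpowers (y : X)) := by
      refine (show Nat.Coprime 4 3 by norm_num).mul_dvd_of_dvd_of_dvd ?_ ?_
      · exact hP4 ▸ Subgroup.card_dvd_of_le le_sup_left
      · have := Subgroup.card_dvd_of_le (le_sup_right : Subgroup.zpowers (y : X) ≤
          (P : Subgroup X) ⊔ Subgroup.zpowers (y : X))
        rwa [Nat.card_zpowers, Subgroup.orderOf_coe, hy] at this
    have heq := Subgroup.eq_of_le_of_card_ge (hle.trans inf_le_left)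
      (hst ▸ Nat.le_of_dvd Nat.card_pos hdvd)
    exact hwP (hle (heq.symm ▸ hwz)).2
  rw [hK, one_mul] at hcardK
  exact card_ne_oneEighty (by rw [← Nat.card_eq_fintype_card]; exact hn) φ.range hcardK

end Cfsg.Agent.AltEightType
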