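/-
The odd cores of good involutions and their traces on good four-groups.

* `W_eq_of_commute`, `core_le_W_of_commute`: commuting good four-groups have the same trace
* `W_conj`, `normalizer_le_normalizer_W`, `le_normalizer_W`
* `W_odd`, `W_inf_centralizer`: inside a good group of order eight the trace is odd and complete
* `odd_inf_le`: generation by fixed points
-/
import Cfsg.Agent.Lib.Signalizer.Core
import Cfsg.Agent.Lib.Signalizer.GraphTrivial
import Cfsg.Agent.Lib.Signalizer.SSFT.Main

set_option autoImplicit false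
set_option linter.style.haveILetI false

namespace Cfsg.Agent.AltEightType

open Subgroup

universe u

variable {G : Type u} [Group G]

/-- An involution with solvable centraliser. -/
def Good (a : G) : Prop :=
  orderOf a = 2 ∧ Group.IsSolvable ↥(centralizer ({a} : Set G))

/-- The odd core of the centraliser. -/
abbrev core (a : G) : Subgroup G := Cfsg.centralizerPPrimeCore 2 a

/-- A four-group all of whose involutions are good. -/
structure IsGoodFour (F : Subgroup G) : Prop where
  card : Nat.card F = 4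
  sq : ∀ f ∈ F, f * f = 1
  good : ∀ f ∈ F, f ≠ 1 → Good f

/-- The subgroup generated by the odd cores of the involutions of `F`. -/
def W (F : Subgroup G) : Subgroup G := Signalizer.wSub (fun a => core a) F

theorem core_le_W {F : Subgroup G} {f : G} (hf : f ∈ F) (h1 : f ≠ 1) : core f ≤ W F :=
  Signalizer.le_wSub (θ := fun a => core a) hf h1

theorem W_le {F U : Subgroup G} (h : ∀ f ∈ F, f ≠ 1 → core f ≤ U) : W F ≤ U :=
  iSup_le fun f => h f f.2.1 f.2.2

theorem Good.mul_self {a : G} (ha : Good a) : a * a = 1 := by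
  rw [← pow_two, ← ha.1, pow_orderOf_eq_one]

theorem isElementaryAbelian_of_sq {F : Subgroup G} (h : ∀ f ∈ F, f * f = 1) :
    Cfsg.IsElementaryAbelian 2 F := by
  have hinv : ∀ f ∈ F, f⁻¹ = f := fun f hf => inv_eq_of_mul_eq_one_right (h f hf)
  exact ⟨⟨⟨fun a b => Subtype.ext (by
      have hab := hinv _ (mul_mem a.2 b.2)
      rw [mul_inv_rev, hinv _ a.2, hinv _ b.2] at hab
      exact hab.symm)⟩⟩, fun f hf => (pow_two f).trans (h f hf)⟩

theorem IsGoodFour.elemAb {F : Subgroup G} (hF : IsGoodFour F) : Cfsg.IsElementaryAbelian 2 F :=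
  isElementaryAbelian_of_sq hF.sq

theorem IsGoodFour.commute {F : Subgroup G} (hF : IsGoodFour F) {a b : G} (ha : a ∈ F) (hb : b ∈ F) :
    Commute a b :=
  Signalizer.commute_of_isMulCommutative hF.elemAb.1 ha hb

theorem IsGoodFour.of_le {E F : Subgroup G} (hE : ∀ e ∈ E, e * e = 1) (hg : ∀ e ∈ E, e ≠ 1 → Good e)
    (hFE : F ≤ E) (hF : Nat.card F = 4) : IsGoodFour F :=
  ⟨hF, fun f hf => hE f (hFE hf), fun f hf => hg f (hFE hf)⟩

/-! ## Conjugation -/

theorem Good.conj {a : G} (ha : Good a) (g : G) : Good (g * a * g⁻¹) := by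
  refine ⟨by rw [← ha.1]; exact orderOf_injective (MulAut.conj g).toMonoidHom (MulAut.conj g).injective a, ?_⟩
  haveI := ha.2
  let f : ↥(centralizer ({g * a * g⁻¹} : Set G)) →* ↥(centralizer ({a} : Set G)) :=
    { toFun := fun x => ⟨g⁻¹ * x * g, mem_centralizer_singleton_iff.2 (by
        have h := mem_centralizer_singleton_iff.1 x.2
        calc g⁻¹ * ↑x * g * a = g⁻¹ * (↑x * (g * a * g⁻¹)) * g := by group
          _ = g⁻¹ * (g * a * g⁻¹ * ↑x) * g := by rw [h]
          _ = a * (g⁻¹ * ↑x * g) := by group)⟩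
      map_one' := Subtype.ext (by simp)
      map_mul' := fun x y => Subtype.ext (by push_cast; group) }
  exact Group.isSolvable_of_isSolvable_injective (f := f) fun x y h => Subtype.ext
    (mul_left_cancel (mul_right_cancel (congrArg Subtype.val h)))

theorem IsGoodFour.map_conj {F : Subgroup G} (hF : IsGoodFour F) (g : G) :
    IsGoodFour (F.map (MulAut.conj g).toMonoidHom) := by
  refine ⟨by rw [Subgroup.card_map_of_injective (MulAut.conj g).injective, hF.card], ?_, ?_⟩
  · rintro _ ⟨f, hf, rfl⟩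
    rw [← map_mul, hF.sq f hf, map_one]
  · rintro _ ⟨f, hf, rfl⟩ h1
    exact (hF.good f hf fun h => h1 (by rw [h, map_one])).conj g

theorem map_conj_core (a g : G) : (core a).map (MulAut.conj g).toMonoidHom = core (g * a * g⁻¹) :=
  Signalizer.map_conj_centralizerPPrimeCore a g

theorem W_conj (F : Subgroup G) (g : G) :
    W (F.map (MulAut.conj g).toMonoidHom) = (W F).map (MulAut.conj g).toMonoidHom := by
  refine le_antisymm (W_le ?_) (Subgroup.map_le_iff_le_comap.2 (W_le fun f hf h1 => ?_))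
  · rintro _ ⟨f, hf, rfl⟩ h1
    refine le_of_eq_of_le (map_conj_core f g).symm ?_
    exact Subgroup.map_mono (core_le_W hf fun h => h1 (by rw [h, map_one]))
  · rw [← Subgroup.map_le_iff_le_comap, map_conj_core]
    exact core_le_W ⟨f, hf, rfl⟩ (by simpa using h1)

theorem normalizer_le_normalizer_W (F : Subgroup G) :
    normalizer (F : Set G) ≤ normalizer (W F : Set G) := by
  refine Signalizer.le_normalizer_of_conj_mem fun g hg x hx => ?_
  have e : F.map (MulAut.conj g).toMonoidHom = F := by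
    ext y
    rw [Signalizer.mem_map_conj, mem_normalizer_iff.1 hg (g⁻¹ * y * g)]
    simp [mul_assoc]
  rw [← e, W_conj]
  exact ⟨x, hx, rfl⟩

/-- Everything commuting with `F` normalises `W F`. -/
theorem le_normalizer_W_of_commute {A F : Subgroup G} (h : ∀ a ∈ A, ∀ f ∈ F, Commute a f) :
    A ≤ normalizer (W F : Set G) :=
  (Signalizer.le_normalizer_of_commute fun a ha f hf => h a ha f hf).trans
    (normalizer_le_normalizer_W F)

theorem le_normalizer_W {A F : Subgroup G} (hA : IsMulCommutative ↥A) (hFA : F ≤ A) :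
    A ≤ normalizer (W F : Set G) :=
  le_normalizer_W_of_commute fun _ ha _ hf => Signalizer.commute_of_isMulCommutative hA ha (hFA hf)

/-! ## Generation and balance -/

variable [Finite G]

theorem not_two_dvd_core (a : G) : ¬ 2 ∣ Nat.card (core a) :=
  haveI : Fact (Nat.Prime 2) := ⟨Nat.prime_two⟩
  Signalizer.not_dvd_card_core a

theorem core_inf_centralizer_le {a b : G} (ha : a * a = 1) (hab : Commute a b) (hb : Good b) :
    core a ⊓ centralizer ({b} : Set G) ≤ core b := by
  haveI : Fact (Nat.Prime 2) := ⟨Nat.prime_two⟩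
  haveI := hb.2
  exact Signalizer.core_inf_centralizer_le_core ((pow_two a).trans ha) hab.eq
    HallHigman.isPConstrained_of_isSolvable

/-- An odd subgroup normalised by a good four-group, whose fixed points lie in `W F`, lies in `W F`. -/
theorem odd_inf_le {F U : Subgroup G} (hF : IsGoodFour F) (hU : Odd (Nat.card U))
    (hFU : F ≤ normalizer (U : Set G))
    (h : ∀ f ∈ F, f ≠ 1 → U ⊓ centralizer ({f} : Set G) ≤ W F) : U ≤ W F := by
  haveI : Fact (Nat.Prime 2) := ⟨Nat.prime_two⟩
  exact Signalizer.le_of_elements hF.elemAb (by rw [hF.card]; norm_num) _ U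
    (fun hd => Nat.not_even_iff_odd.2 hU (even_iff_two_dvd.2 hd)) hFU h

theorem core_le_W_of_sq {F : Subgroup G} (hF : IsGoodFour F) {f : G} (hf : f * f = 1)
    (hc : ∀ b ∈ F, Commute f b) : core f ≤ W F := by
  refine odd_inf_le hF (Nat.not_even_iff_odd.1 fun h => not_two_dvd_core f (even_iff_two_dvd.1 h))
    (fun b hb => Signalizer.centralizer_le_normalizer_core f
      (mem_centralizer_singleton_iff.2 (hc b hb).eq.symm))
    fun b hb hb1 => (core_inf_centralizer_le hf (hc b hb) (hF.good b hb hb1)).trans (core_le_W hb hb1)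

theorem core_le_W_of_commute {F : Subgroup G} {f : G} (hf : Good f) (hF : IsGoodFour F)
    (hc : ∀ b ∈ F, Commute f b) : core f ≤ W F :=
  core_le_W_of_sq hF hf.mul_self hc

theorem W_eq_of_commute {F F' : Subgroup G} (hF : IsGoodFour F) (hF' : IsGoodFour F')
    (hc : ∀ a ∈ F, ∀ b ∈ F', Commute a b) : W F = W F' :=
  le_antisymm (W_le fun a ha _ => core_le_W_of_sq hF' (hF.sq a ha) (hc a ha))
    (W_le fun b hb _ => core_le_W_of_sq hF (hF'.sq b hb) fun a ha => (hc a ha b hb).symm)

/-! ## A good elementary group of order eight -/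

variable {E F : Subgroup G}

theorem W_eq_of_le (hsq : ∀ e ∈ E, e * e = 1) (hg : ∀ e ∈ E, e ≠ 1 → Good e) (hFE : F ≤ E)
    (hF : Nat.card F = 4) : W F = W E :=
  le_antisymm (W_le fun _ hf h1 => core_le_W (hFE hf) h1)
    (W_le fun e he _ => core_le_W_of_sq (IsGoodFour.of_le hsq hg hFE hF) (hsq e he) fun _ hb =>
      Signalizer.commute_of_isMulCommutative (isElementaryAbelian_of_sq hsq).1 he (hFE hb))

theorem functor_trace (hE8 : 8 ≤ Nat.card E) (hsq : ∀ e ∈ E, e * e = 1)
    (hg : ∀ e ∈ E, e ≠ 1 → Good e) :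
    Group.IsSolvable ↥(W E) ∧ ¬ 2 ∣ Nat.card (W E) ∧
      ∀ e ∈ E, e ≠ 1 → W E ⊓ centralizer ({e} : Set G) = core e := by
  haveI : Fact (Nat.Prime 2) := ⟨Nat.prime_two⟩
  have hE := isElementaryAbelian_of_sq hsq
  exact Signalizer.solvable_signalizer_functor hE (by simpa using hE8)
    (Signalizer.isSolvableSignalizerFunctor_core hE fun e he h1 => (hg e he h1).2)

theorem W_odd (E : Subgroup G) (hE : Nat.card E = 8) (hsq : ∀ e ∈ E, e * e = 1)
    (hg : ∀ e ∈ E, e ≠ 1 → Good e) {F : Subgroup G} (hFE : F ≤ E) (hF : IsGoodFour F) :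
    Odd (Nat.card (W F)) ∧ ∀ e ∈ E, e ≠ 1 → core e ≤ W F := by
  rw [W_eq_of_le hsq hg hFE hF.card]
  exact ⟨Nat.not_even_iff_odd.1 fun h => (functor_trace hE.ge hsq hg).2.1 (even_iff_two_dvd.1 h),
    fun e he h1 => core_le_W he h1⟩

theorem W_inf_centralizer (hE : Nat.card E = 8) (hsq : ∀ e ∈ E, e * e = 1)
    (hg : ∀ e ∈ E, e ≠ 1 → Good e) (hFE : F ≤ E) (hF : IsGoodFour F) {e : G} (he : e ∈ E) (h1 : e ≠ 1) :
    W F ⊓ centralizer ({e} : Set G) = core e := by
  rw [W_eq_of_le hsq hg hFE hF.card]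
  exact (functor_trace hE.ge hsq hg).2.2 e he h1

end Cfsg.Agent.AltEightType
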