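/-
The action on the two quaternion subgroups of the coded `Q`.

* `Act g a b` : `g` rotates the pairs of the two quaternion subgroups by `a` and `b`
-/
import Cfsg.Agent.Lib.AltEightType.Cases
import Cfsg.Agent.Lib.Transfer.Residual

set_option autoImplicit false

namespace Cfsg.Agent.AltEightType

open Subgroup

/-- The elements of order four of the two quaternion subgroups, in pairs. -/
def pr : Bool → Fin 3 → List (Fin 64) :=
  fun s k => if s then ![[21, 26], [38, 41], [51, 60]] k else ![[22, 25], [35, 44], [53, 58]] k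

/-- The six elements of order four of one quaternion subgroup. -/
def side (s : Bool) : List (Fin 64) := pr s 0 ++ pr s 1 ++ pr s 2

theorem bool_all {p : Bool → Prop} (h1 : p true) (h2 : p false) : ∀ b, p b
  | true => h1
  | false => h2

theorem side_spec : ∀ s : Bool, ∀ x ∈ side s, inQ x ∧ mm x x = zc ∧ mm x zc ∈ side s ∧
    ∀ y ∈ side (!s), cm x y ∧ y ∉ side s := by decide +kernel

theorem side_cases : ∀ q, inQ q → mm q q = zc → q ∈ side true ∨ q ∈ side false := by decide +kernel

theorem pr_mem : ∀ s k, ∀ x ∈ pr s k, x ∈ side s := by decide +kernel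

theorem mem_pr : ∀ s, ∀ x ∈ side s, ∃ k, x ∈ pr s k := by decide +kernel

theorem pr_pair : ∀ s k, ∀ x ∈ pr s k, ∀ y ∈ pr s k, y = x ∨ y = mm x zc := by decide +kernel

theorem pr_zc : ∀ s k, ∀ x ∈ pr s k, mm x zc ∈ pr s k := by decide +kernel

theorem pr_unique : ∀ s k l, ∀ x ∈ pr s k, x ∈ pr s l → k = l := by decide +kernel

theorem pr_cm : ∀ s k l, ∀ x ∈ pr s k, ∀ y ∈ pr s l, cm x y ↔ k = l := by decide +kernel

theorem pr_mc_inQ : ∀ s k, ∀ x ∈ pr s k, ∀ h, inQ h → mc h x ∈ pr s k := by decide +kernel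

theorem pr_mc_swap : ∀ s k, ∀ x ∈ pr s k, mc 1 x ∈ pr (!s) k := by decide +kernel

theorem pr_head : ∀ s k, ∃ x, x ∈ pr s k := by decide +kernel

theorem inQ_span : ∀ q, inQ q → q ∈ span [21, 38, 22, 35, 15] := by decide +kernel

variable {L : Type*} [Group L] {T : Subgroup L}

namespace Data

variable (D : Data T)

/-- Conjugation by `g` rotates the pairs of the two quaternion subgroups by `a` and `b`. -/
def Act (g : L) (ab : Bool → Fin 3) : Prop :=
  ∀ s k, ∀ x ∈ pr s k, ∃ y ∈ pr s (k + ab s), g * D.φ x * g⁻¹ = D.φ y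

theorem act_one : D.Act 1 0 := fun s k x hx => ⟨x, by simpa using hx, by simp⟩

theorem act_mul {g h : L} {a b : Bool → Fin 3} (hg : D.Act g a) (hh : D.Act h b) : D.Act (g * h) (a + b) := by
  intro s k x hx
  obtain ⟨y, hy, e⟩ := hh s k x hx
  obtain ⟨w, hw, e'⟩ := hg s _ y hy
  refine ⟨w, ?_, by rw [← e', ← e]; group⟩
  rwa [Pi.add_apply, show k + (a s + b s) = k + b s + a s by rw [add_comm (a s), add_assoc]]

theorem act_unique {g : L} {a b : Bool → Fin 3} (ha : D.Act g a) (hb : D.Act g b) : a = b := by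
  funext s
  obtain ⟨x, hx⟩ := pr_head s 0
  obtain ⟨y, hy, e⟩ := ha s 0 x hx
  obtain ⟨w, hw, e'⟩ := hb s 0 x hx
  rw [D.inj (e.symm.trans e')] at hy
  simpa using pr_unique s _ _ w hy hw

theorem act_inv {g : L} {a : Bool → Fin 3} (hg : D.Act g a) : D.Act g⁻¹ (-a) := by
  intro s k x hx
  obtain ⟨u, hu⟩ := pr_head s (k + -a s)
  obtain ⟨y, hy, e⟩ := hg s _ u hu
  rw [neg_add_cancel_right] at hy
  rcases pr_pair s k y hy x hx with rfl | rfl
  · exact ⟨u, hu, by rw [← e]; group⟩
  · obtain ⟨y', hy', e'⟩ := hg s _ _ (pr_zc s _ u hu)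
    rw [neg_add_cancel_right] at hy'
    have hne : mm u zc ≠ u := (by decide +kernel : ∀ u, mm u zc ≠ u) u
    rcases pr_pair s k y hy y' hy' with rfl | rfl
    · exact absurd (D.inj ((MulAut.conj g).injective (by simpa using e'.trans e.symm))) hne
    · exact ⟨_, pr_zc s _ u hu, by rw [← e']; group⟩

theorem act_of_inQ {x : Fin 64} (hx : inQ x) : D.Act (D.φ x) 0 := fun s k u hu =>
  ⟨mc x u, by simpa using pr_mc_inQ s k u hu x hx, (D.map_conj x u).symm⟩

theorem act_swap {g : L} {a : Bool → Fin 3} (hg : D.Act g a) :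
    D.Act (D.φ 1 * g * (D.φ 1)⁻¹) (fun s => a (!s)) := by
  intro s k x hx
  have h1 : mc 1 x ∈ pr (!s) k := pr_mc_swap s k x hx
  obtain ⟨y, hy, e⟩ := hg _ k _ h1
  refine ⟨mc 1 y, by simpa using pr_mc_swap _ _ y hy, ?_⟩
  have h2 : (D.φ 1)⁻¹ = D.φ 1 :=
    inv_eq_of_mul_eq_one_right (D.sq_iff.2 (by decide +kernel))
  rw [D.map_conj 1 y, ← e, D.map_conj 1 x]
  simp only [mul_inv_rev, h2, inv_inv, mul_assoc]

theorem act_mem {g : L} {a : Bool → Fin 3} (hg : D.Act g a) (hz : Commute g D.z) {q : L} (hq : q ∈ D.Q) :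
    g * q * g⁻¹ ∈ D.Q := by
  obtain ⟨x, hx, rfl⟩ := hq
  have h : ∀ y ∈ ([21, 38, 22, 35, 15] : List (Fin 64)),
      D.φ y ∈ (D.Q.comap (MulAut.conj g).toMonoidHom) := by
    intro y hy
    show g * D.φ y * g⁻¹ ∈ D.Q
    have hm : ∀ s k, y ∈ pr s k → g * D.φ y * g⁻¹ ∈ D.Q := fun s k hy => by
      obtain ⟨w, hw, e⟩ := hg s k y hy
      rw [e]
      exact D.mem_sub.2 (side_spec s w (pr_mem _ _ w hw)).1
    simp only [List.mem_cons, List.not_mem_nil, or_false] at hy
    rcases hy with rfl | rfl | rfl | rfl | rfl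
    · exact hm true 0 (by decide +kernel)
    · exact hm true 1 (by decide +kernel)
    · exact hm false 0 (by decide +kernel)
    · exact hm false 1 (by decide +kernel)
    · rw [show D.φ 15 = D.z from rfl, hz.eq, mul_inv_cancel_right]
      exact D.mem_sub.2 (by decide +kernel)
  exact D.mem_span h (inQ_span x hx)


/-- An element of odd order acting trivially on the pairs centralises `Q`. -/
theorem commute_of_act_zero {f : L} (hf : Odd (orderOf f)) (h0 : D.Act f 0) (hz : Commute f D.z) {q : L}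
    (hq : q ∈ D.Q) : Commute f q := by
  obtain ⟨x, hx, rfl⟩ := hq
  have h : ∀ y ∈ ([21, 38, 22, 35, 15] : List (Fin 64)), D.φ y ∈ centralizer ({f} : Set L) := by
    intro y hy
    rw [mem_centralizer_singleton_iff]
    refine (show Commute f (D.φ y) from ?_).symm.eq
    have hm : ∀ s k, y ∈ pr s k → Commute f (D.φ y) := fun s k hy => by
      obtain ⟨y', hy', e⟩ := h0 s k y hy
      obtain ⟨w', hw', e'⟩ := h0 s k _ (pr_zc s k y hy)
      rw [Pi.zero_apply, add_zero] at hy' hw'
      refine fix_of_two (y := D.φ (mm y zc)) hf ?_ ?_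
      · rw [e]; exact (pr_pair s k y hy y' hy').imp (congrArg _) (congrArg _)
      · rw [e']; exact (pr_pair s k y hy w' hw').imp (congrArg _) (congrArg _)
    simp only [List.mem_cons, List.not_mem_nil, or_false] at hy
    rcases hy with rfl | rfl | rfl | rfl | rfl
    · exact hm true 0 (by decide +kernel)
    · exact hm true 1 (by decide +kernel)
    · exact hm false 0 (by decide +kernel)
    · exact hm false 1 (by decide +kernel)
    · exact hz
  exact (mem_centralizer_singleton_iff.1 (D.mem_span h (inQ_span x hx))).symm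

/-- An element of odd order normalising `Q` rotates the pairs. -/
theorem exists_act {f : L} (hf : Odd (orderOf f)) (hz : Commute f D.z)
    (hQ : ∀ q ∈ D.Q, f * q * f⁻¹ ∈ D.Q) : ∃ a, D.Act f a := by
  choose F hFQ hF using fun x : {x : Fin 64 // inQ x} => hQ (D.φ x.1) (D.mem_sub.2 x.2)
  have hmm : ∀ x y : {x : Fin 64 // inQ x},
      mm (F x) (F y) = F ⟨mm x.1 y.1, (inQ_closed.2 x.1 x.2).2 y.1 y.2⟩ := fun x y => D.inj (by
    rw [D.map_mul, hF, hF, hF, D.map_mul]; group)
  have hinj : Function.Injective F := fun x y h => Subtype.ext (D.inj ((MulAut.conj f).injective (by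
    simpa [hF] using congrArg D.φ h)))
  have hz15 : F ⟨zc, by decide +kernel⟩ = zc := D.inj (by
    rw [hF]
    show f * D.z * f⁻¹ = D.z
    rw [hz.eq, mul_inv_cancel_right])
  have hcm : ∀ x y : {x : Fin 64 // inQ x}, cm (F x) (F y) ↔ cm x.1 y.1 := fun x y => by
    show mm (F x) (F y) = mm (F y) (F x) ↔ _
    rw [hmm, hmm, hinj.eq_iff]
    exact Subtype.ext_iff
  have hside : ∀ s, ∀ x : {x : Fin 64 // inQ x}, x.1 ∈ side s → F x ∈ side true ∨ F x ∈ side false := by
    intro s x hx
    refine side_cases _ (hFQ x) ?_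
    rw [hmm, ← hz15]
    exact congrArg F (Subtype.ext (side_spec s x.1 hx).2.1)
  -- the two subgroups are not interchanged
  have hall : ∀ x y : {x : Fin 64 // inQ x}, ¬ cm x.1 y.1 → ∀ s, F x ∈ side s → y.1 ∈ side true ∨ y.1 ∈ side false →
      F y ∈ side s := by
    intro x y hxy s hx hy
    have hy' : F y ∈ side true ∨ F y ∈ side false := hy.elim (hside _ y) (hside _ y)
    by_contra hn
    refine hxy ((hcm x y).1 ((side_spec s _ hx).2.2.2 _ ?_).1)
    cases s
    · exact hy'.resolve_right hn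
    · exact hy'.resolve_left hn
  let a0 : {x : Fin 64 // inQ x} := ⟨21, by decide +kernel⟩
  have hstay : F a0 ∈ side true := by
    refine (hside true a0 (by decide +kernel)).resolve_right fun h => ?_
    have hs1 : ∀ y : {x : Fin 64 // inQ x}, y.1 ∈ side true → F y ∈ side false := by
      intro y hy
      by_cases hc : cm a0.1 y.1
      · rcases (by decide +kernel : ∀ y ∈ side true, cm 21 y → y = 21 ∨ y = mm 21 zc) y.1 hy hc with e | e
        · rwa [show y = a0 from Subtype.ext e]
        · rw [show y = ⟨mm a0.1 zc, by decide +kernel⟩ from Subtype.ext e,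
            ← hmm a0 ⟨zc, by decide +kernel⟩, hz15]
          exact (side_spec false _ h).2.2.1
      · exact hall a0 y hc false h (Or.inl hy)
    have hs2 : ∀ y : {x : Fin 64 // inQ x}, y.1 ∈ side false → F y ∈ side true := by
      intro y hy
      refine (hside false y hy).resolve_right fun hy' => ?_
      let a1 : {x : Fin 64 // inQ x} := ⟨38, by decide +kernel⟩
      have hc : ∀ w : {x : Fin 64 // inQ x}, w.1 ∈ side true → cm (F w) (F y) := fun w hw =>
        (hcm w y).2 ((side_spec true _ hw).2.2.2 _ hy).1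
      exact (by decide +kernel : ∀ u ∈ side false, ∀ v ∈ side false, ∀ w ∈ side false, ¬ cm u v →
        cm u w → cm v w → False) (F a0) h (F a1) (hs1 a1 (by decide +kernel)) (F y) hy'
          (fun e => (by decide +kernel : ¬ cm 21 38) ((hcm a0 a1).1 e))
          (hc a0 (by decide +kernel)) (hc a1 (by decide +kernel))
    have key : ∀ m : ℕ, ∃ w ∈ side (decide (m % 2 = 0)), f ^ m * D.φ 21 * (f ^ m)⁻¹ = D.φ w := by
      intro m
      induction m with
      | zero => exact ⟨21, by decide +kernel, by simp⟩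
      | succ m ih =>
        obtain ⟨w, hw, e⟩ := ih
        refine ⟨F ⟨w, (side_spec _ w hw).1⟩, ?_, ?_⟩
        · rcases Nat.mod_two_eq_zero_or_one m with h2 | h2
          · rw [show decide ((m + 1) % 2 = 0) = false by simp; omega]
            exact hs1 ⟨w, _⟩ (by simpa [h2] using hw)
          · rw [show decide ((m + 1) % 2 = 0) = true by simp; omega]
            exact hs2 ⟨w, _⟩ (by simpa [h2] using hw)
        · rw [hF, ← e, pow_succ']; group
    obtain ⟨w, hw, e⟩ := key (orderOf f)
    rw [pow_orderOf_eq_one, one_mul, inv_one, mul_one] at e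
    rw [show decide (orderOf f % 2 = 0) = false by simp [Nat.odd_iff.1 hf], ← D.inj e] at hw
    exact absurd hw (by decide +kernel)
  have hsame : ∀ s, ∀ y : {x : Fin 64 // inQ x}, y.1 ∈ side s → F y ∈ side s := by
    have hT : ∀ y : {x : Fin 64 // inQ x}, y.1 ∈ side true → F y ∈ side true := by
      intro y hy
      by_cases hc : cm a0.1 y.1
      · rcases (by decide +kernel : ∀ y ∈ side true, cm 21 y → y = 21 ∨ y = mm 21 zc) y.1 hy hc with e | e
        · rwa [show y = a0 from Subtype.ext e]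
        · rw [show y = ⟨mm a0.1 zc, by decide +kernel⟩ from Subtype.ext e,
            ← hmm a0 ⟨zc, by decide +kernel⟩, hz15]
          exact (side_spec true _ hstay).2.2.1
      · exact hall a0 y hc true hstay (Or.inl hy)
    refine bool_all hT ?_
    intro y hy
    refine (hside false y hy).resolve_left fun hy' => ?_
    let a1 : {x : Fin 64 // inQ x} := ⟨38, by decide +kernel⟩
    exact (by decide +kernel : ∀ u ∈ side true, ∀ v ∈ side true, ∀ w ∈ side true, ¬ cm u v →
      cm u w → cm v w → False) (F a0) hstay (F a1) (hT a1 (by decide +kernel)) (F y) hy'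
        (fun e => (by decide +kernel : ¬ cm 21 38) ((hcm a0 a1).1 e))
        ((hcm a0 y).2 ((side_spec true _ (by decide +kernel)).2.2.2 _ hy).1)
        ((hcm a1 y).2 ((side_spec true _ (by decide +kernel)).2.2.2 _ hy).1)
  -- the permutation of the three pairs
  have hk : ∀ s k, ∃ k', ∀ x ∈ pr s k, ∃ y ∈ pr s k', f * D.φ x * f⁻¹ = D.φ y := by
    intro s k
    obtain ⟨x, hx⟩ := pr_head s k
    have hxQ := (side_spec s x (pr_mem s k x hx)).1
    obtain ⟨k', hk'⟩ := mem_pr s _ (hsame s ⟨x, hxQ⟩ (pr_mem s k x hx))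
    refine ⟨k', fun y hy => ⟨F ⟨y, (side_spec s y (pr_mem s k y hy)).1⟩, ?_, (hF ⟨y, _⟩).symm⟩⟩
    obtain ⟨l, hl⟩ := mem_pr s _ (hsame s ⟨y, (side_spec s y (pr_mem s k y hy)).1⟩ (pr_mem s k y hy))
    rwa [(pr_cm s k' l _ hk' _ hl).1 ((hcm _ _).2 ((pr_cm s k k x hx y hy).2 rfl))]
  choose σ hσ using hk
  have hσinj : ∀ s, Function.Injective (σ s) := by
    intro s k l hkl
    obtain ⟨x, hx⟩ := pr_head s k
    obtain ⟨y, hy⟩ := pr_head s l
    obtain ⟨x', hx', ex⟩ := hσ s k x hx
    obtain ⟨y', hy', ey⟩ := hσ s l y hy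
    refine (pr_cm s k l x hx y hy).1 (D.commute_iff.1 ?_)
    have h := D.commute_iff.2 ((pr_cm s _ _ x' hx' y' hy').2 hkl)
    rw [← ex, ← ey] at h
    have := h.map (MulAut.conj f⁻¹).toMonoidHom
    simpa [mul_assoc] using this
  have hiter : ∀ s (m : ℕ) k, ∀ x ∈ pr s k, ∃ y ∈ pr s ((σ s)^[m] k), f ^ m * D.φ x * (f ^ m)⁻¹ = D.φ y := by
    intro s m
    induction m with
    | zero => exact fun k x hx => ⟨x, hx, by simp⟩
    | succ m ih =>
      intro k x hx
      obtain ⟨y, hy, e⟩ := ih k x hx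
      obtain ⟨w, hw, e'⟩ := hσ s _ y hy
      exact ⟨w, by rwa [Function.iterate_succ_apply'], by rw [← e', ← e, pow_succ']; group⟩
  have hrot : ∀ s, ∃ a, ∀ k, σ s k = k + a := by
    intro s
    rcases (by decide +kernel : ∀ p : Fin 3 → Fin 3, (∀ k l, p k = p l → k = l) →
      (∃ a, ∀ k, p k = k + a) ∨ ∀ k, p (p k) = k) (σ s) (hσinj s) with h | h
    · exact h
    refine ⟨0, fun k => ?_⟩
    obtain ⟨j, hj⟩ := hf
    obtain ⟨x, hx⟩ := pr_head s k
    obtain ⟨y, hy, e⟩ := hiter s (orderOf f) k x hx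
    rw [pow_orderOf_eq_one, one_mul, inv_one, mul_one] at e
    rw [← D.inj e] at hy
    have := pr_unique s _ _ x hx hy
    rw [hj, Function.iterate_add_apply, Function.iterate_one, Function.iterate_mul,
      show (σ s)^[2] = id from funext h, Function.iterate_id, id] at this
    rw [add_zero, ← this]
  choose a ha using hrot
  refine ⟨a, fun s k x hx => ?_⟩
  obtain ⟨y, hy, e⟩ := hσ s k x hx
  exact ⟨y, by rwa [← ha], e⟩

end Data

end Cfsg.Agent.AltEightType
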